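import Cfsg.Agent.Lib.Coprime.LBalance.Cores

/-!
# Local balance gives balance
-/

set_option autoImplicit false
set_option linter.style.haveILetI false
set_option linter.unusedSectionVars false

namespace CfsgLib.Coprime

open Subgroup
open scoped commutatorElement

variable {G : Type*} [Group G] [Finite G] {p : ℕ} [hp : Fact p.Prime]

theorem map_centralizerPPrimeCore_equiv {G' : Type*} [Group G'] [Finite G'] (e : G ≃* G') (x : G) :
    (Cfsg.centralizerPPrimeCore p x).map e.toMonoidHom = Cfsg.centralizerPPrimeCore p (e x) := by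
  show (coreIn p (centralizer ({x} : Set G))).map e.toMonoidHom = coreIn p (centralizer ({e x} : Set G'))
  rw [map_coreIn_equiv]
  congr 1
  ext y
  constructor
  · rintro ⟨g, hg, rfl⟩
    refine mem_centralizer_iff.2 fun z hz => ?_
    rw [Set.mem_singleton_iff.1 hz]
    exact (map_mul e x g).symm.trans ((congrArg e (mem_centralizer_iff.1 hg x (Set.mem_singleton x))).trans
      (map_mul e g x))
  · intro hy
    refine ⟨e.symm y, mem_centralizer_iff.2 fun z hz => e.injective ?_, e.apply_symm_apply y⟩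
    rw [Set.mem_singleton_iff.1 hz, map_mul, map_mul, e.apply_symm_apply]
    exact mem_centralizer_iff.1 hy (e x) (Set.mem_singleton _)

theorem signalizerDelta_eq_bot_of_equiv {G' : Type*} [Group G'] [Finite G'] (e : G ≃* G')
    {A : Subgroup G} (h : Cfsg.signalizerDelta p (A.map e.toMonoidHom) = ⊥) :
    Cfsg.signalizerDelta p A = ⊥ := by
  rw [← map_eq_bot_iff_of_injective (f := e.toMonoidHom) _ e.injective, eq_bot_iff, ← h]
  refine le_iInf ?_
  rintro ⟨_, ⟨a, ha, rfl⟩, ha1⟩
  rw [show Cfsg.centralizerPPrimeCore p ((⟨e.toMonoidHom a, ⟨a, ha, rfl⟩, ha1⟩ :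
    {y : G' // y ∈ A.map e.toMonoidHom ∧ y ≠ 1}) : G') = Cfsg.centralizerPPrimeCore p (e a) from rfl,
    ← map_centralizerPPrimeCore_equiv]
  exact map_mono (iInf_le (fun a : {a : G // a ∈ A ∧ a ≠ 1} =>
    Cfsg.centralizerPPrimeCore p (a : G)) ⟨a, ha, fun e' => ha1 (by simp [e'])⟩)

/-- `Δ(A) = 1` in a group with trivial `p'`-core all of whose components have locally `k`-balanced
central quotients. -/
theorem signalizerDelta_eq_bot_of_locallyKBalanced {k : ℕ} (hk : 1 ≤ k)
    (hO : Cfsg.pPrimeCore p G = ⊥)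
    (h : ∀ K : Subgroup G, Cfsg.IsComponent K → Cfsg.IsLocallyKBalanced p k (↥K ⧸ center ↥K))
    {A : Subgroup G} (hA : Cfsg.IsElementaryAbelian p A) (hcard : Nat.card A = p ^ k) :
    Cfsg.signalizerDelta p A = ⊥ := by
  have hA1 : A ≠ ⊥ := fun e => by
    rw [e, card_bot] at hcard
    exact (Nat.one_lt_pow (by omega) hp.out.one_lt).ne hcard
  refine signalizerDelta_eq_bot hO hA hA1 fun K hK H hKH hHN hn A' hA' hA'c => ?_
  haveI := hn
  let Ψ : MulAut ↥K →* MulAut (↥K ⧸ center ↥K) :=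
    { toFun := fun e => QuotientGroup.congr (center ↥K) (center ↥K) e (map_center_equiv e)
      map_one' := MulEquiv.ext fun x => QuotientGroup.induction_on x fun _ => rfl
      map_mul' := fun _ _ => MulEquiv.ext fun x => QuotientGroup.induction_on x fun _ => rfl }
  obtain ⟨Φ, hΦ⟩ : ∃ Φ : H →* MulAut (↥K ⧸ center ↥K),
      ∀ (g : H) (k : ↥K), Φ g (QuotientGroup.mk k) = QuotientGroup.mk
        ⟨(g : G) * k * (g : G)⁻¹, (Subgroup.mem_normalizer_iff.1 (hHN g.2) k).1 k.2⟩ :=
    ⟨(Ψ.comp (normalizerMonoidHom K)).comp (inclusion hHN), fun g k => rfl⟩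
  have hker : Φ.ker = (centralizer (K : Set G)).subgroupOf H := by
    ext g
    rw [MonoidHom.mem_ker, mem_subgroupOf]
    constructor
    · intro hg
      refine mem_centralizer_of_commutator_central (commutator_self_of_isComponent hK) fun x hx => ?_
      have e := congrArg (fun φ : MulAut (↥K ⧸ center ↥K) => φ (QuotientGroup.mk ⟨x, hx⟩)) hg
      simp only [MulAut.one_apply] at e
      rw [hΦ, eq_comm, QuotientGroup.eq] at e
      have hgx : (g : G) * x * (g : G)⁻¹ ∈ K := (Subgroup.mem_normalizer_iff.1 (hHN g.2) x).1 hx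
      refine Subgroup.mem_inf.2 ⟨mul_mem hgx (inv_mem hx), mem_centralizer_iff.2 fun y hy => ?_⟩
      obtain ⟨z, hz⟩ : ∃ z, z = x⁻¹ * ((g : G) * x * (g : G)⁻¹) := ⟨_, rfl⟩
      have hzy : ∀ y ∈ K, y * z = z * y := fun y hy => by
        rw [hz]; exact congrArg Subtype.val (mem_center_iff.1 e ⟨y, hy⟩)
      have hgz : (g : G) * x * (g : G)⁻¹ * x⁻¹ = z := by
        rw [show (g : G) * x * (g : G)⁻¹ * x⁻¹ = x * z * x⁻¹ by rw [hz]; group, hzy x hx,
          mul_inv_cancel_right]
      rw [hgz]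
      exact hzy y hy
    · intro hg
      refine MulEquiv.ext fun y => QuotientGroup.induction_on y fun k => ?_
      rw [hΦ, MulAut.one_apply]
      exact congrArg QuotientGroup.mk (Subtype.ext (by
        show (g : G) * k * (g : G)⁻¹ = k
        rw [← mem_centralizer_iff.1 hg k k.2, mul_inv_cancel_right]))
  have hInn : (MulAut.conj : (↥K ⧸ center ↥K) →* MulAut _).range ≤ Φ.range := by
    rintro _ ⟨kb, rfl⟩
    obtain ⟨k, rfl⟩ := QuotientGroup.mk_surjective kb
    refine ⟨⟨k, hKH k.2⟩, MulEquiv.ext fun y => QuotientGroup.induction_on y fun l => ?_⟩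
    rw [hΦ]
    rfl
  set e := (QuotientGroup.quotientMulEquivOfEq hker.symm).trans (QuotientGroup.quotientKerEquivRange Φ)
  refine signalizerDelta_eq_bot_of_equiv e ((h K hK) Φ.range hInn _ ?_ ?_)
  · refine ⟨⟨⟨?_⟩⟩, ?_⟩
    · rintro ⟨_, a, ha, rfl⟩ ⟨_, b, hb, rfl⟩
      refine Subtype.ext ?_
      show e a * e b = e b * e a
      rw [← map_mul, ← map_mul]
      exact congrArg e (congrArg Subtype.val (hA'.1.is_comm.comm (⟨a, ha⟩ : A') ⟨b, hb⟩))
    · rintro _ ⟨a, ha, rfl⟩
      rw [← map_pow, hA'.2 a ha, map_one]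
  · rw [card_map_of_injective e.injective, hA'c, hcard]

/-- `Δ(A) = 1` in a group with trivial `p'`-core all of whose components have locally `k`-balanced
(not their quotients). -/
theorem signalizerDelta_eq_bot_of_locallyKBalanced' {k : ℕ} (hk : 1 ≤ k)
    (hO : Cfsg.pPrimeCore p G = ⊥)
    (h : ∀ K : Subgroup G, Cfsg.IsComponent K → Cfsg.IsLocallyKBalanced p k ↥K)
    {A : Subgroup G} (hA : Cfsg.IsElementaryAbelian p A) (hcard : Nat.card A = p ^ k) :
    Cfsg.signalizerDelta p A = ⊥ := by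
  have hA1 : A ≠ ⊥ := fun e => by
    rw [e, card_bot] at hcard
    exact (Nat.one_lt_pow (by omega) hp.out.one_lt).ne hcard
  refine signalizerDelta_eq_bot hO hA hA1 fun K hK H hKH hHN hn A' hA' hA'c => ?_
  haveI := hn
  obtain ⟨Φ, hΦ⟩ : ∃ Φ : H →* MulAut ↥K, ∀ (g : H) (k : ↥K), Φ g k =
      ⟨(g : G) * k * (g : G)⁻¹, (Subgroup.mem_normalizer_iff.1 (hHN g.2) k).1 k.2⟩ :=
    ⟨(normalizerMonoidHom K).comp (inclusion hHN), fun g k => rfl⟩
  have hker : Φ.ker = (centralizer (K : Set G)).subgroupOf H := by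
    ext g
    rw [MonoidHom.mem_ker, mem_subgroupOf, mem_centralizer_iff]
    constructor
    · intro hg x hx
      have e : (g : G) * x * (g : G)⁻¹ = x := by
        have := congrArg Subtype.val (hΦ g ⟨x, hx⟩)
        rw [hg] at this
        exact this.symm
      exact (mul_inv_eq_iff_eq_mul.1 e).symm
    · intro hg
      refine MulEquiv.ext fun k => ?_
      rw [hΦ, MulAut.one_apply]
      exact Subtype.ext (by show (g : G) * k * (g : G)⁻¹ = k; rw [← hg k k.2, mul_inv_cancel_right])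
  have hInn : (MulAut.conj : ↥K →* MulAut _).range ≤ Φ.range := by
    rintro _ ⟨k, rfl⟩
    refine ⟨⟨k, hKH k.2⟩, MulEquiv.ext fun l => ?_⟩
    rw [hΦ]
    rfl
  set e := (QuotientGroup.quotientMulEquivOfEq hker.symm).trans (QuotientGroup.quotientKerEquivRange Φ)
  refine signalizerDelta_eq_bot_of_equiv e ((h K hK) Φ.range hInn _ ?_ ?_)
  · refine ⟨⟨⟨?_⟩⟩, ?_⟩
    · rintro ⟨_, a, ha, rfl⟩ ⟨_, b, hb, rfl⟩
      refine Subtype.ext ?_
      show e a * e b = e b * e a
      rw [← map_mul, ← map_mul]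
      exact congrArg e (congrArg Subtype.val (hA'.1.is_comm.comm (⟨a, ha⟩ : A') ⟨b, hb⟩))
    · rintro _ ⟨a, ha, rfl⟩
      rw [← map_pow, hA'.2 a ha, map_one]
  · rw [card_map_of_injective e.injective, hA'c, hcard]

/-- `Δ_G(A) ∩ C(b) ≤ O_{p'}(C(b))` when `Δ` of the image of `A` in `C(b) / O_{p'}(C(b))` is trivial. -/
theorem signalizerDelta_inf_centralizer_le {A : Subgroup G} (hA : Cfsg.IsElementaryAbelian p A)
    {b : G} (hb : ∀ a ∈ A, a * b = b * a)
    (h : ∀ A' : Subgroup (↥(centralizer ({b} : Set G)) ⧸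
          Cfsg.pPrimeCore p ↥(centralizer ({b} : Set G))),
      Cfsg.IsElementaryAbelian p A' → Nat.card A' = Nat.card A → Cfsg.signalizerDelta p A' = ⊥) :
    Cfsg.signalizerDelta p A ⊓ centralizer {b} ≤ Cfsg.centralizerPPrimeCore p b := by
  set C := centralizer ({b} : Set G) with hCdef
  have hAC : A ≤ C := fun a ha => mem_centralizer_iff.2 fun y hy => by
    rw [Set.mem_singleton_iff.1 hy]; exact (hb a ha).symm
  set O := Cfsg.pPrimeCore p C
  set q := QuotientGroup.mk' O
  have hq1 : ∀ g : C, q g = 1 ↔ g ∈ O := fun g => QuotientGroup.eq_one_iff g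
  have hAp : IsPGroup p (A.subgroupOf C) := fun x => ⟨1, Subtype.ext (Subtype.ext (by
    simpa using hA.2 _ (mem_subgroupOf.1 x.2)))⟩
  have hdisj : ∀ a ∈ A.subgroupOf C, q a = 1 → a = 1 := fun a ha hqa => by
    have : a ∈ (⊥ : Subgroup C) := pPrime_inf_pGroup_eq_bot (pPrimeCore_coprime hp.out) hAp ▸
      Subgroup.mem_inf.2 ⟨(hq1 a).1 hqa, ha⟩
    exact this
  set A' := (A.subgroupOf C).map q
  have hcard : Nat.card A' = Nat.card A := by
    rw [← Nat.card_congr (subgroupOfEquivOfLe hAC).toEquiv]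
    refine Nat.card_image_of_injOn fun x hx y hy exy => mul_inv_eq_one.1 ?_
    exact hdisj _ (mul_mem hx (inv_mem hy)) (by rw [map_mul, map_inv, exy, mul_inv_cancel])
  have hA' : Cfsg.IsElementaryAbelian p A' := by
    refine ⟨⟨⟨?_⟩⟩, ?_⟩
    · rintro ⟨_, a, ha, rfl⟩ ⟨_, c, hc, rfl⟩
      refine Subtype.ext ?_
      show q a * q c = q c * q a
      rw [← map_mul, ← map_mul]
      have h := congrArg Subtype.val (hA.1.is_comm.comm (⟨(a : G), ha⟩ : A) ⟨(c : G), hc⟩)
      exact congrArg q (Subtype.ext h)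
    · rintro _ ⟨a, ha, rfl⟩
      rw [← map_pow, show a ^ p = 1 from Subtype.ext (by simpa using hA.2 _ ha), map_one]
  have hle : ((Cfsg.signalizerDelta p A ⊓ C).subgroupOf C).map q ≤ Cfsg.signalizerDelta p A' := by
    refine le_iInf ?_
    rintro ⟨_, ⟨a, ha, rfl⟩, ha1⟩
    have haA : (a : G) ∈ A := ha
    have ha1' : (a : G) ≠ 1 := fun e => ha1 (by
      rw [show a = 1 from Subtype.ext e, map_one])
    set B := Cfsg.centralizerPPrimeCore p (a : G)
    refine le_trans (b := ((B ⊓ C).subgroupOf C).map q) (map_mono (comap_mono (inf_le_inf_right _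
      (iInf_le (fun a : {a : G // a ∈ A ∧ a ≠ 1} => Cfsg.centralizerPPrimeCore p (a : G))
        ⟨(a : G), haA, ha1'⟩)))) ?_
    refine le_coreIn ?_ ?_ ?_
    · rintro _ ⟨c, hc, rfl⟩
      refine mem_centralizer_iff.2 fun y hy => ?_
      rw [Set.mem_singleton_iff.1 hy]
      show q a * q c = q c * q a
      rw [← map_mul, ← map_mul]
      exact congrArg q (Subtype.ext (mem_centralizer_iff.1
        (coreIn_le p (centralizer ({(a : G)} : Set G)) (mem_subgroupOf.1 hc).1) _ (Set.mem_singleton _)))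
    · intro z hz
      obtain ⟨g, rfl⟩ := QuotientGroup.mk'_surjective _ z
      obtain ⟨o, ho, hn⟩ := exists_mem_normalizer_lift (O := O) (P := zpowers a)
        (pPrimeCore_not_dvd hp.out) (hAp.to_le (zpowers_le.2 ha)) (g := g) (by
          rw [MonoidHom.map_zpowers]
          refine centralizer_le_normalizer _ ?_
          rw [centralizer_zpowers_eq]
          exact hz)
      have hog : q (o * g) = q g := by rw [map_mul, (hq1 o).2 ho, one_mul]
      have hcomm : a * (o * g) = (o * g) * a := by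
        have h1 : (o * g) * a * (o * g)⁻¹ * a⁻¹ = 1 := by
          refine hdisj _ (zpowers_le.2 ha (mul_mem
            ((Subgroup.mem_normalizer_iff.1 hn a).1 (mem_zpowers a)) (inv_mem (mem_zpowers a)))) ?_
          rw [map_mul, map_mul, map_mul, map_inv, map_inv, hog,
            ← mem_centralizer_iff.1 hz (q a) (Set.mem_singleton _), mul_inv_cancel_right, mul_inv_cancel]
        rw [mul_inv_eq_one, mul_inv_eq_iff_eq_mul] at h1
        exact h1.symm
      rw [← hog]
      refine le_normalizer_map q (mem_map_of_mem q ?_)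
      have hB : ((o * g : C) : G) ∈ normalizer (B : Set G) :=
        normalizer_le_normalizer_coreIn p _ (le_normalizer (show ((o * g : C) : G) ∈
          centralizer ({(a : G)} : Set G) from mem_centralizer_iff.2 fun y hy => by
            rw [Set.mem_singleton_iff.1 hy]; exact congrArg Subtype.val hcomm))
      refine Subgroup.mem_normalizer_iff.2 fun c => ?_
      simp only [mem_subgroupOf, Subgroup.mem_inf]
      have := Subgroup.mem_normalizer_iff.1 hB (c : G)
      exact ⟨fun hc => ⟨this.1 hc.1, SetLike.coe_mem _⟩, fun hc => ⟨this.2 hc.1, c.2⟩⟩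
    · refine Nat.Coprime.coprime_dvd_left (card_map_dvd _ q) ?_
      rw [Nat.card_congr (subgroupOfEquivOfLe inf_le_right).toEquiv]
      exact (coprime_card_coreIn hp.out (centralizer ({(a : G)} : Set G))).coprime_dvd_left
        (card_dvd_of_le inf_le_left)
  rw [h A' hA' hcard, le_bot_iff, Subgroup.map_eq_bot_iff, QuotientGroup.ker_mk'] at hle
  intro d hd
  exact ⟨⟨d, hd.2⟩, hle (mem_subgroupOf.2 hd), rfl⟩

/-- In a group balanced at the automizers of all components, every `O_{p'}(C(x))` is trivial. -/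
theorem isBalancedFor_of_automizers (hO : Cfsg.pPrimeCore p G = ⊥)
    (h : ∀ L : Subgroup G, Cfsg.IsComponent L → ∀ H : Subgroup G, L ≤ H →
      (L.subgroupOf H).Normal → ∀ [((centralizer (L : Set G)).subgroupOf H).Normal],
      Cfsg.IsBalancedFor p (↥H ⧸ (centralizer (L : Set G)).subgroupOf H)) :
    Cfsg.IsBalancedFor p G := by
  intro x hx
  have hxp : x ^ p = 1 := hx ▸ pow_orderOf_eq_one x
  have hx1 : x ≠ 1 := fun e => hp.out.ne_one (by rw [← hx, e, orderOf_one])
  set A := zpowers x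
  have hA : Cfsg.IsElementaryAbelian p A := by
    refine ⟨⟨⟨fun a b => ?_⟩⟩, fun a ha => ?_⟩
    · obtain ⟨i, hi⟩ := mem_zpowers_iff.1 a.2
      obtain ⟨j, hj⟩ := mem_zpowers_iff.1 b.2
      exact Subtype.ext (by show (a : G) * b = b * a; rw [← hi, ← hj, zpow_mul_comm])
    · obtain ⟨i, rfl⟩ := mem_zpowers_iff.1 ha
      rw [← zpow_natCast, ← zpow_mul, mul_comm, zpow_mul, zpow_natCast, hxp, one_zpow]
  have hD : Cfsg.signalizerDelta p A = ⊥ := by
    refine signalizerDelta_eq_bot hO hA (fun e => hx1 ?_) fun K hK H hKH hHN hn A' hA' hA'c => ?_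
    · exact (Subgroup.mem_bot).1 (e ▸ mem_zpowers x)
    haveI := hn
    rw [Nat.card_zpowers, hx] at hA'c
    haveI : Nontrivial A' := Finite.one_lt_card_iff_nontrivial.1 (hA'c ▸ hp.out.one_lt)
    obtain ⟨⟨a, ha⟩, ha1⟩ := exists_ne (1 : A')
    have ha1' : a ≠ 1 := fun e => ha1 (Subtype.ext e)
    rw [eq_bot_iff, ← pPrimeCore_automizer_eq_bot hO hK hKH hHN]
    exact (iInf_le (fun y : {y // y ∈ A' ∧ y ≠ 1} => Cfsg.centralizerPPrimeCore p y.1)
      ⟨a, ha, ha1'⟩).trans
      (h K hK H hKH ((normal_subgroupOf_iff_le_normalizer hKH).2 hHN) a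
        (orderOf_eq_prime (hA'.2 a ha) ha1'))
  rw [hO, ← hD]
  refine le_iInf ?_
  rintro ⟨y, hy, hy1⟩
  have hord : orderOf y = p := orderOf_eq_prime (hA.2 y hy) hy1
  have hzeq : zpowers y = zpowers x := eq_of_le_of_card_ge (zpowers_le.2 hy) (by
    rw [Nat.card_zpowers, Nat.card_zpowers, hord, hx])
  show Cfsg.centralizerPPrimeCore p x ≤ Cfsg.centralizerPPrimeCore p y
  rw [centralizerPPrimeCore_eq, centralizerPPrimeCore_eq, hzeq]

end CfsgLib.Coprime
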