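import Cfsg.Agent.Lib.Coprime.LBalance.Tools
import Cfsg.Agent.Lib.Coprime.Subnormal
import Cfsg.Agent.Lib.Fusion.PComplement

/-!
# The action on components of a perfect subgroup centralizing a `p`-group `R`

`X` has `O_{p'}(X) = 1`, `E = E(X)`, and `J` is perfect, centralizes `R`, and centralizes
`C_E(R)` modulo its `p'`-core.
-/

set_option autoImplicit false
set_option linter.style.haveILetI false
set_option linter.unusedSectionVars false

namespace CfsgLib.Coprime

open Subgroup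
open scoped commutatorElement

variable {G : Type*} [Group G] [Finite G] {p : ℕ} [hp : Fact p.Prime]

/-! ### Quasisimple subgroups -/

/-- An element inducing the identity on `K / Z(K)` centralizes the perfect group `K`. -/
theorem mem_centralizer_of_commutator_central {K : Subgroup G} (hK : ⁅K, K⁆ = K) {g : G}
    (h : ∀ k ∈ K, g * k * g⁻¹ * k⁻¹ ∈ K ⊓ centralizer (K : Set G)) :
    g ∈ centralizer (K : Set G) := by
  let ψ : K →* ↥(K ⊓ centralizer (K : Set G)) :=
    { toFun := fun k => ⟨g * k * g⁻¹ * (k : G)⁻¹, h k k.2⟩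
      map_one' := Subtype.ext (by simp)
      map_mul' := fun a b => Subtype.ext (by
        show g * ((a : G) * b) * g⁻¹ * ((a : G) * b)⁻¹ =
          (g * a * g⁻¹ * (a : G)⁻¹) * (g * b * g⁻¹ * (b : G)⁻¹)
        have hz := mem_centralizer_iff.1 (h b b.2).2 _ (inv_mem a.2)
        calc g * ((a : G) * b) * g⁻¹ * ((a : G) * b)⁻¹
            = g * a * g⁻¹ * ((g * b * g⁻¹ * (b : G)⁻¹) * (a : G)⁻¹) := by group
          _ = g * a * g⁻¹ * ((a : G)⁻¹ * (g * b * g⁻¹ * (b : G)⁻¹)) := by rw [hz]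
          _ = _ := by group) }
  haveI : Group.IsPerfect K := Subgroup.isPerfect_iff.2 hK
  have hker : ψ.ker = ⊤ := by
    rw [eq_top_iff, ← Group.IsPerfect.commutator_eq_top (G := K), commutator_def, commutator_le]
    intro a _ b _
    rw [MonoidHom.mem_ker, map_commutatorElement, commutatorElement_eq_one_iff_mul_comm]
    exact Subtype.ext (mem_centralizer_iff.1 (ψ b).2.2 _ (ψ a).2.1)
  refine mem_centralizer_iff.2 fun k hk => ?_
  have h1 : ψ ⟨k, hk⟩ = 1 := MonoidHom.mem_ker.1 (hker ▸ mem_top _)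
  have h2 : g * k * g⁻¹ * k⁻¹ = 1 := congrArg Subtype.val h1
  rw [mul_inv_eq_one, mul_inv_eq_iff_eq_mul] at h2
  exact h2.symm

theorem inf_centralizer_le_centralizer_layer {K : Subgroup G} (hK : Cfsg.IsComponent K) :
    K ⊓ centralizer (K : Set G) ≤ Cfsg.layer G ⊓ centralizer (Cfsg.layer G : Set G) := by
  refine le_inf (inf_le_left.trans (component_le_layer hK)) ?_
  rw [le_centralizer_iff]
  refine sSup_le fun L hL => ?_
  by_cases h : L = K
  · exact h ▸ le_centralizer_iff.1 inf_le_right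
  · exact (commutator_eq_bot_iff_le_centralizer.1 (components_commute hL hK h)).trans
      (centralizer_le inf_le_left)

/-! ### The subgroup of `E` fixed by `R` modulo the centre -/

/-- The elements of `E(G)` fixed by `R` modulo `Z(E(G))`. -/
def relCent (R : Subgroup G) : Subgroup G where
  carrier := {e | e ∈ Cfsg.layer G ∧
    ∀ r ∈ R, r * e * r⁻¹ * e⁻¹ ∈ Cfsg.layer G ⊓ centralizer (Cfsg.layer G : Set G)}
  one_mem' := ⟨one_mem _, fun r _ => by simp⟩
  mul_mem' := fun {a b} ha hb => ⟨mul_mem ha.1 hb.1, fun r hr => by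
    have hz := mem_centralizer_iff.1 (hb.2 r hr).2 a ha.1
    have e : r * (a * b) * r⁻¹ * (a * b)⁻¹ =
        (r * a * r⁻¹ * a⁻¹) * (r * b * r⁻¹ * b⁻¹) := by
      calc r * (a * b) * r⁻¹ * (a * b)⁻¹
          = (r * a * r⁻¹ * a⁻¹) * (a * (r * b * r⁻¹ * b⁻¹)) * a⁻¹ := by group
        _ = _ := by rw [hz]; group
    rw [e]
    exact mul_mem (ha.2 r hr) (hb.2 r hr)⟩
  inv_mem' := fun {a} ha => ⟨inv_mem ha.1, fun r hr => by
    have hz := mem_centralizer_iff.1 (inv_mem (ha.2 r hr)).2 a ha.1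
    have e : r * a⁻¹ * r⁻¹ * a⁻¹⁻¹ = (r * a * r⁻¹ * a⁻¹)⁻¹ := by
      calc r * a⁻¹ * r⁻¹ * a⁻¹⁻¹ = a⁻¹ * ((r * a * r⁻¹ * a⁻¹)⁻¹ * a) := by group
        _ = a⁻¹ * (a * (r * a * r⁻¹ * a⁻¹)⁻¹) := by rw [hz]
        _ = _ := by group
    rw [e]
    exact inv_mem (ha.2 r hr)⟩

theorem mem_relCent_iff {R : Subgroup G} {e : G} : e ∈ relCent R ↔ e ∈ Cfsg.layer G ∧
    ∀ r ∈ R, r * e * r⁻¹ * e⁻¹ ∈ Cfsg.layer G ⊓ centralizer (Cfsg.layer G : Set G) := Iff.rfl

theorem relCent_le_normalizer_cent (R : Subgroup G) :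
    relCent R ≤ normalizer ((Cfsg.layer G ⊓ centralizer (R : Set G) : Subgroup G) : Set G) := by
  haveI := layer_normal (G := G)
  set U := Cfsg.layer G ⊓ centralizer (R : Set G)
  have key : ∀ e ∈ relCent R, ∀ u ∈ U, e * u * e⁻¹ ∈ U := by
    intro e he u hu
    refine Subgroup.mem_inf.2 ⟨Subgroup.Normal.conj_mem inferInstance u hu.1 e,
      mem_centralizer_iff.2 fun r hr => ?_⟩
    obtain ⟨z, hz⟩ : ∃ z, z = r * e * r⁻¹ * e⁻¹ := ⟨_, rfl⟩
    have hzc : z * (e * u * e⁻¹) = (e * u * e⁻¹) * z :=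
      (mem_centralizer_iff.1 (hz ▸ (he.2 r hr).2) _
        (Subgroup.Normal.conj_mem inferInstance u hu.1 e)).symm
    refine mul_inv_eq_iff_eq_mul.1 ?_
    calc r * (e * u * e⁻¹) * r⁻¹
        = (r * e * r⁻¹) * (r * u * r⁻¹) * (r * e * r⁻¹)⁻¹ := by group
      _ = (z * e) * (r * u * r⁻¹) * (z * e)⁻¹ := by rw [hz]; group
      _ = (z * e) * u * (z * e)⁻¹ := by
          rw [mem_centralizer_iff.1 hu.2 r hr, mul_inv_cancel_right]
      _ = z * (e * u * e⁻¹) * z⁻¹ := by group
      _ = e * u * e⁻¹ := by rw [hzc, mul_inv_cancel_right]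
  refine fun e he => Subgroup.mem_normalizer_iff.2 fun u => ⟨key e he u, fun h => ?_⟩
  have := key _ (inv_mem he) _ h
  rwa [show e⁻¹ * (e * u * e⁻¹) * e⁻¹⁻¹ = u by group] at this

theorem layer_inf_centralizer_le_pCore (hO : Cfsg.pPrimeCore p G = ⊥) :
    Cfsg.layer G ⊓ centralizer (Cfsg.layer G : Set G) ≤ Cfsg.pCore p G := by
  rw [← fitting_eq_pCore_of_pPrimeCore_eq_bot hO]
  exact layer_inf_centralizer_layer_le_fitting

section Setting

variable {R J : Subgroup G} (hO : Cfsg.pPrimeCore p G = ⊥) (hR : IsPGroup p R)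
  (hJ : ⁅J, J⁆ = J ∨ (Nat.card J).Coprime p) (hJR : J ≤ centralizer (R : Set G))
  (hJO : J ≤ centralizer (Cfsg.pCore p G : Set G))
  (hJU : ⁅Cfsg.layer G ⊓ centralizer (R : Set G), J⁆ ≤
    coreIn p (Cfsg.layer G ⊓ centralizer (R : Set G)))

include hO hR hJ hJR hJO hJU

theorem commutator_relCent_le :
    ⁅relCent R, J⁆ ≤ coreIn p (Cfsg.layer G ⊓ centralizer (R : Set G)) := by
  haveI := layer_normal (G := G)
  set E := Cfsg.layer G
  set U := E ⊓ centralizer (R : Set G)
  have hn := normalizer_le_normalizer_coreIn p U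
  have hEn : ∀ {g : G}, g ∈ normalizer (centralizer (R : Set G) : Set G) → g ∈ normalizer (U : Set G) :=
    fun hg => inf_le_normalizer (A := zpowers _) (by rw [Subgroup.normalizer_eq_top E]; exact le_top)
      (zpowers_le.2 hg) (mem_zpowers _)
  have hAU : ⁅relCent R, J⁆ ≤ U := by
    rw [commutator_le]
    intro e he j hj
    rw [commutatorElement_def]
    refine Subgroup.mem_inf.2 ⟨?_, mem_centralizer_iff.2 fun r hr => ?_⟩
    · rw [show e * j * e⁻¹ * j⁻¹ = e * (j * e⁻¹ * j⁻¹) by group]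
      exact mul_mem he.1 (Subgroup.Normal.conj_mem inferInstance _ (inv_mem he.1) j)
    · obtain ⟨z, hz⟩ : ∃ z, z = r * e * r⁻¹ * e⁻¹ := ⟨_, rfl⟩
      have hzZ : z ∈ E ⊓ centralizer (E : Set G) := hz ▸ he.2 r hr
      have hzj : z * j = j * z :=
        mem_centralizer_iff.1 (hJO hj) z (layer_inf_centralizer_le_pCore hO hzZ)
      have hje : j * e⁻¹ * j⁻¹ ∈ E := Subgroup.Normal.conj_mem inferInstance _ (inv_mem he.1) j
      have h1 : r * (e * j * e⁻¹ * j⁻¹) * r⁻¹ = e * j * e⁻¹ * j⁻¹ := by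
        have hrj : r * j * r⁻¹ = j := conj_eq_self_of_centralizer (hJR hj) hr
        calc r * (e * j * e⁻¹ * j⁻¹) * r⁻¹
            = (r * e * r⁻¹) * (r * j * r⁻¹) * (r * e * r⁻¹)⁻¹ * (r * j * r⁻¹)⁻¹ := by group
          _ = (z * e) * j * (z * e)⁻¹ * j⁻¹ := by rw [hrj, hz]; group
          _ = z * (e * (j * e⁻¹ * j⁻¹)) * (j * z⁻¹ * j⁻¹) := by group
          _ = z * (e * (j * e⁻¹ * j⁻¹)) * z⁻¹ := by
              rw [show j * z⁻¹ * j⁻¹ = (j * z * j⁻¹)⁻¹ by group, ← hzj, mul_inv_cancel_right]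
          _ = e * (j * e⁻¹ * j⁻¹) := by
              rw [← mem_centralizer_iff.1 hzZ.2 _ (mul_mem he.1 hje), mul_inv_cancel_right]
          _ = _ := by group
      exact mul_inv_eq_iff_eq_mul.1 h1
  have hJN : J ≤ normalizer (coreIn p U : Subgroup G) := fun j hj => hn (hEn (le_normalizer (hJR hj)))
  rcases hJ with hJ | hJ
  · exact commutator_le_of_perfect (fun e he => hn (relCent_le_normalizer_cent R he)) hJN
      hJ (le_trans (commutator_mono hAU le_rfl) hJU)
  · rw [commutator_le]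
    intro e he b hb
    set V := coreIn p U with hV
    set N := normalizer (V : Set G)
    haveI : (V.subgroupOf N).Normal := (normal_subgroupOf_iff_le_normalizer le_normalizer).2 le_rfl
    set q := QuotientGroup.mk' (V.subgroupOf N)
    have hq1 : ∀ g : N, q g = 1 ↔ (g : G) ∈ V := fun g =>
      (QuotientGroup.eq_one_iff g).trans mem_subgroupOf
    obtain ⟨u, hu⟩ : ∃ u, u = ⁅b, e⁆ := ⟨_, rfl⟩
    have huU : u ∈ U := by
      rw [hu, ← inv_mem_iff, commutatorElement_inv]; exact hAU (commutator_mem_commutator he hb)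
    have huN : U ≤ N := le_normalizer.trans hn
    -- as cosets of `V`
    obtain ⟨eb, heb⟩ : ∃ eb, eb = q ⟨e, hn (relCent_le_normalizer_cent R he)⟩ := ⟨_, rfl⟩
    obtain ⟨bb, hbb⟩ : ∃ bb, bb = q ⟨b, hJN hb⟩ := ⟨_, rfl⟩
    have hfix : ∀ w (hw : w ∈ U), bb * q ⟨w, huN hw⟩ * bb⁻¹ = q ⟨w, huN hw⟩ := by
      intro w hw
      rw [← mul_inv_eq_one, hbb, ← map_inv, ← map_mul, ← map_mul, ← map_inv, ← map_mul, hq1]
      have h := inv_mem (hJU (commutator_mem_commutator hw hb))
      rwa [commutatorElement_inv, commutatorElement_def] at h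
    obtain ⟨ub, hub⟩ : ∃ ub, ub = q ⟨u, huN huU⟩ := ⟨_, rfl⟩
    have hbe : bb * eb * bb⁻¹ = ub * eb := by
      rw [hbb, heb, hub, ← map_inv, ← map_mul, ← map_mul, ← map_mul]
      exact congrArg q (Subtype.ext (by show b * e * b⁻¹ = u * e; rw [hu, commutatorElement_def]; group))
    have hpow : ∀ i : ℕ, bb ^ i * eb * (bb ^ i)⁻¹ = ub ^ i * eb := by
      intro i
      induction i with
      | zero => simp
      | succ i ih =>
        have hi : bb * ub ^ i * bb⁻¹ = ub ^ i := by rw [← conj_pow, hub, hfix u huU]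
        rw [pow_succ' bb, show bb * bb ^ i * eb * (bb * bb ^ i)⁻¹ =
          bb * (bb ^ i * eb * (bb ^ i)⁻¹) * bb⁻¹ by group, ih,
          show bb * (ub ^ i * eb) * bb⁻¹ = (bb * ub ^ i * bb⁻¹) * (bb * eb * bb⁻¹) by group,
          hi, hbe, pow_succ, mul_assoc]
    have hpn : u ^ orderOf b ∈ V := by
      have h := hpow (orderOf b)
      rw [show bb ^ orderOf b = 1 from by
        rw [hbb, ← map_pow, show (⟨b, hJN hb⟩ : N) ^ orderOf b = 1 from
          Subtype.ext (by simp [pow_orderOf_eq_one]), map_one],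
        one_mul, inv_one, mul_one, right_eq_mul, hub, ← map_pow, hq1] at h
      simpa using h
    -- `u` is central in `U` modulo `V`
    have hcent : ∀ w ∈ U, u * w * u⁻¹ * w⁻¹ ∈ V := by
      intro w hw
      have hw' : e⁻¹ * w * e ∈ U := by
        have := (Subgroup.mem_normalizer_iff.1 (inv_mem (relCent_le_normalizer_cent R he)) w).1 hw
        rwa [inv_inv] at this
      have h : q ⟨u, huN huU⟩ * q ⟨w, huN hw⟩ * (q ⟨u, huN huU⟩)⁻¹ = q ⟨w, huN hw⟩ := by
        have hww : eb * q ⟨e⁻¹ * w * e, huN hw'⟩ * eb⁻¹ = q ⟨w, huN hw⟩ := by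
          rw [heb, ← map_inv, ← map_mul, ← map_mul]
          exact congrArg q (Subtype.ext (by show e * (e⁻¹ * w * e) * e⁻¹ = w; group))
        rw [← hub]
        conv_lhs => rw [← hww]
        calc ub * (eb * q ⟨e⁻¹ * w * e, huN hw'⟩ * eb⁻¹) * ub⁻¹
            = (ub * eb) * q ⟨e⁻¹ * w * e, huN hw'⟩ * (ub * eb)⁻¹ := by group
          _ = (bb * eb * bb⁻¹) * (bb * q ⟨e⁻¹ * w * e, huN hw'⟩ * bb⁻¹) * (bb * eb * bb⁻¹)⁻¹ := by
              rw [hfix _ hw', hbe]
          _ = bb * (eb * q ⟨e⁻¹ * w * e, huN hw'⟩ * eb⁻¹) * bb⁻¹ := by group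
          _ = q ⟨w, huN hw⟩ := by rw [hww, hfix w hw]
      rw [← mul_inv_eq_one, ← map_inv, ← map_mul, ← map_mul, ← map_inv, ← map_mul, hq1] at h
      exact h
    have huV : u ∈ V := by
      have hmem : ∀ g : U, (g : G) ∈ V ↔ g ∈ Cfsg.pPrimeCore p U := fun g =>
        ⟨fun ⟨x, hx, hxg⟩ => (Subtype.ext hxg : x = g) ▸ hx, fun hg => ⟨g, hg, rfl⟩⟩
      set r := QuotientGroup.mk' (Cfsg.pPrimeCore p U)
      have hr1 : ∀ g : U, r g = 1 ↔ (g : G) ∈ V := fun g =>
        (QuotientGroup.eq_one_iff g).trans (hmem g).symm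
      haveI : (zpowers (r ⟨u, huU⟩)).Normal := by
        refine ⟨fun x hx g => ?_⟩
        obtain ⟨i, rfl⟩ := mem_zpowers_iff.1 hx
        obtain ⟨w, rfl⟩ := QuotientGroup.mk'_surjective _ g
        have hc : r w * r ⟨u, huU⟩ * (r w)⁻¹ = r ⟨u, huU⟩ := by
          have h : r (⟨u, huU⟩ * w * (⟨u, huU⟩ : U)⁻¹ * w⁻¹) = 1 := (hr1 _).2 (hcent w w.2)
          rw [map_mul, map_mul, map_mul, map_inv, map_inv, mul_inv_eq_one, mul_inv_eq_iff_eq_mul] at h
          rw [← h, mul_inv_cancel_right]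
        rw [← conj_zpow, hc]
        exact zpow_mem (mem_zpowers _) i
      have hcop : (Nat.card (zpowers (r ⟨u, huU⟩))).Coprime p := by
        rw [Nat.card_zpowers]
        refine ((hJ.coprime_dvd_left (Subgroup.orderOf_dvd_natCard J hb))).coprime_dvd_left
          (orderOf_dvd_of_pow_eq_one ?_)
        rw [← map_pow, hr1]
        exact hpn
      have h := le_pPrimeCore hcop (mem_zpowers (r ⟨u, huU⟩))
      rw [pPrimeCore_quotient_eq_bot hp.out, Subgroup.mem_bot, hr1] at h
      exact h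
    rw [← inv_mem_iff, commutatorElement_inv, ← hu]
    exact huV
where
  conj_eq_self_of_centralizer {u r : G} (hu : u ∈ centralizer (R : Set G)) (hr : r ∈ R) :
      r * u * r⁻¹ = u := by rw [mem_centralizer_iff.1 hu r hr, mul_inv_cancel_right]

end Setting

section Setting

variable {R J : Subgroup G} (hO : Cfsg.pPrimeCore p G = ⊥) (hR : IsPGroup p R)
  (hJ : ⁅J, J⁆ = J ∨ (Nat.card J).Coprime p) (hJR : J ≤ centralizer (R : Set G))
  (hJO : J ≤ centralizer (Cfsg.pCore p G : Set G))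
  (hJU : ⁅Cfsg.layer G ⊓ centralizer (R : Set G), J⁆ ≤
    coreIn p (Cfsg.layer G ⊓ centralizer (R : Set G)))

include hO hR hJ hJR hJO hJU

theorem exists_centralizing {S : Subgroup G} (hS : IsPGroup p S) (hSle : S ≤ relCent R) {j : G}
    (hj : j ∈ J) : ∃ v ∈ coreIn p (Cfsg.layer G ⊓ centralizer (R : Set G)),
      v * j ∈ centralizer (S : Set G) := by
  have h := commutator_relCent_le hO hR hJ hJR hJO hJU
  refine exists_mul_mem_centralizer (p := p) (coprime_card_coreIn hp.out _) hS ?_ fun s hs => ?_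
  · exact hSle.trans ((relCent_le_normalizer_cent R).trans (normalizer_le_normalizer_coreIn p _))
  · have h1 := h (commutator_mem_commutator (hSle hs) hj)
    rw [← inv_mem_iff, commutatorElement_inv, commutatorElement_def] at h1
    exact h1

omit hJ hJR hJO hJU in
/-- In the join of the `R`-orbit of a component some `p`-element is fixed by `R` modulo the centre
of `E` without being central. -/
theorem exists_fixed_pElement {K : Subgroup G} (hK : Cfsg.IsComponent K) :
    ∃ y, y ∈ (⨆ r : R, CfsgLib.Fusion.conjBy (r : G) K) ∧ y ∈ relCent R ∧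
      (∃ k : ℕ, y ^ p ^ k = 1) ∧ y ∉ centralizer (Cfsg.layer G : Set G) := by
  haveI := layer_normal (G := G)
  set E := Cfsg.layer G
  set Z := E ⊓ centralizer (E : Set G)
  set A := ⨆ r : R, CfsgLib.Fusion.conjBy (r : G) K with hA
  have hKA : K ≤ A := le_iSup_of_le 1 (by rw [OneMemClass.coe_one, CfsgLib.Fusion.conjBy_one])
  have hAE : A ≤ E := iSup_le fun r => component_le_layer (isComponent_map_equiv _ hK)
  have hRA : R ≤ normalizer (A : Set G) := fun r hr => by
    rw [← CfsgLib.Fusion.conjBy_eq_iff, hA, CfsgLib.Fusion.conjBy, Subgroup.map_iSup]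
    refine le_antisymm (iSup_le fun x => ?_) (iSup_le fun x => ?_)
    · rw [← CfsgLib.Fusion.conjBy, CfsgLib.Fusion.conjBy_conjBy]
      exact le_iSup (fun r : R => CfsgLib.Fusion.conjBy (r : G) K) ⟨r * x, mul_mem hr x.2⟩
    · refine le_iSup_of_le (⟨r⁻¹ * x, mul_mem (inv_mem hr) x.2⟩ : R) ?_
      rw [← CfsgLib.Fusion.conjBy, CfsgLib.Fusion.conjBy_conjBy]
      simp
  -- a Sylow subgroup of `A` normalized by `R`
  set H := A ⊔ R
  obtain ⟨S₀, hRS₀, hS₀H, hS₀p, hS₀i⟩ := CfsgLib.Fusion.exists_le_not_dvd_relIndex (H := H) hR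
    le_sup_right
  set P := S₀ ⊓ A
  have hPi : ¬ p ∣ P.relIndex A := by
    haveI : (A.subgroupOf H).Normal := (normal_subgroupOf_iff_le_normalizer le_sup_left).2
      (sup_le le_normalizer hRA)
    have h := CfsgLib.Fusion.not_dvd_relIndex_inf_of_normal
      ((hS₀p.comap_subtype (K := H)).toSylow hS₀i) (A.subgroupOf H)
    rw [show (((hS₀p.comap_subtype (K := H)).toSylow hS₀i : Sylow p H) : Subgroup H) =
        S₀.subgroupOf H from rfl,
      show S₀.subgroupOf H ⊓ A.subgroupOf H = (S₀ ⊓ A).subgroupOf H from (comap_inf _ _ _).symm,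
      relIndex_subgroupOf le_sup_left] at h
    exact h
  have hPp : IsPGroup p P := hS₀p.to_le inf_le_left
  have hPR : R ≤ normalizer (P : Set G) :=
    inf_le_normalizer (hRS₀.trans le_normalizer) hRA
  have hPZ : ¬ P ≤ Z := by
    intro hle
    obtain ⟨x, k, hk, hx⟩ := exists_pElement_not_mem_center (p := p) hK.2
      (dvd_card_of_isComponent hO hK)
    refine hx (mem_center_iff.2 fun y => Subtype.ext ?_)
    have hxk : (x : G) ^ p ^ k = 1 := by simpa using congrArg Subtype.val hk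
    obtain ⟨g, hg, hgx⟩ := CfsgLib.Fusion.exists_conj_le_of_not_dvd_relIndex hPp inf_le_right hPi
      (isPGroup_zpowers hxk) (zpowers_le.2 (hKA x.2))
    have hz := (hle (hgx (CfsgLib.Fusion.conj_mem_conjBy (mem_zpowers (x : G))))).2
    have h := mem_centralizer_iff.1 hz (g * (y : G) * g⁻¹)
      (Subgroup.Normal.conj_mem inferInstance _ (component_le_layer hK y.2) g)
    have h2 := congrArg (fun t => g⁻¹ * t * g) h
    simpa [mul_assoc] using h2
  obtain ⟨Q, ⟨hQP, hQR, hQZ⟩, hQmin⟩ := exists_minimal_of_wellFoundedLT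
    (fun Q : Subgroup G => Q ≤ P ∧ R ≤ normalizer (Q : Set G) ∧ ¬ Q ≤ Z) ⟨P, le_rfl, hPR, hPZ⟩
  have hQle : ⁅Q, R⁆ ≤ Q := commutator_le.2 fun q hq r hr => by
    rw [commutatorElement_def, show q * r * q⁻¹ * r⁻¹ = q * (r * q⁻¹ * r⁻¹) by group]
    exact mul_mem hq ((Subgroup.mem_normalizer_iff.1 (hQR hr) _).1 (inv_mem hq))
  have hQRZ : ⁅Q, R⁆ ≤ Z := by
    by_contra hc
    have hR' : R ≤ normalizer (⁅Q, R⁆ : Subgroup G) := normalizer_commutator_ge_right Q R
    have e : Q ≤ ⁅Q, R⁆ := hQmin ⟨hQle.trans hQP, hR', hc⟩ hQle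
    haveI : Group.IsNilpotent ↥(R ⊔ P) := (hR.to_sup_of_normal_right' hPp hPR).isNilpotent
    have := CfsgLib.Fusion.eq_bot_of_le_commutator (P := R ⊔ P) (A := Q)
      (hQP.trans le_sup_right) (e.trans (commutator_mono le_rfl le_sup_left))
    exact hQZ (this ▸ bot_le)
  obtain ⟨y, hy, hyZ⟩ := SetLike.not_le_iff_exists.1 hQZ
  refine ⟨y, (hQP hy).2, mem_relCent_iff.2 ⟨hAE (hQP hy).2, fun r hr => ?_⟩, ?_,
    fun h => hyZ ⟨hAE (hQP hy).2, h⟩⟩
  · have h1 := inv_mem (hQRZ (commutator_mem_commutator hy hr))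
    rwa [commutatorElement_inv, commutatorElement_def] at h1
  · obtain ⟨k, hk⟩ := hPp ⟨y, hQP hy⟩
    exact ⟨k, by simpa using congrArg Subtype.val hk⟩

/-- `J` maps every component to a conjugate of it under `R`. -/
theorem exists_conjBy_eq_of_component {K : Subgroup G} (hK : Cfsg.IsComponent K) {j : G}
    (hj : j ∈ J) : ∃ r ∈ R, CfsgLib.Fusion.conjBy j K = CfsgLib.Fusion.conjBy r K := by
  obtain ⟨y, hyA, hyU, ⟨k, hk⟩, hyc⟩ := exists_fixed_pElement (R := R) hO hR hK
  obtain ⟨v, hv, hvj⟩ := exists_centralizing hO hR hJ hJR hJO hJU (isPGroup_zpowers hk)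
    (zpowers_le.2 hyU) hj
  set c := v * j
  have hvU := coreIn_le _ _ hv
  have hcR : c ∈ centralizer (R : Set G) := mul_mem hvU.2 (hJR hj)
  by_contra hne
  push Not at hne
  have hcy : c * y * c⁻¹ = y := by
    rw [← mem_centralizer_iff.1 hvj y (mem_zpowers y), mul_inv_cancel_right]
  have hvfix : ∀ {L : Subgroup G}, Cfsg.IsComponent L → CfsgLib.Fusion.conjBy v⁻¹ L = L :=
    fun hL => CfsgLib.Fusion.conjBy_eq_iff.2 (layer_le_normalizer_component hL (inv_mem hvU.1))
  -- `c` moves `K` outside its orbit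
  have hout : ∀ r ∈ R, CfsgLib.Fusion.conjBy c K ≠ CfsgLib.Fusion.conjBy r K := by
    intro r hr e
    apply hne r hr
    have := congrArg (CfsgLib.Fusion.conjBy v⁻¹) e
    rwa [CfsgLib.Fusion.conjBy_conjBy, inv_mul_cancel_left,
      hvfix (isComponent_map_equiv _ hK)] at this
  -- so `y = c y c⁻¹` commutes with the orbit
  set A := ⨆ r : R, CfsgLib.Fusion.conjBy (r : G) K
  have hcA : CfsgLib.Fusion.conjBy c A ≤ centralizer (A : Set G) := by
    rw [le_centralizer_iff]
    refine iSup_le fun r => ?_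
    rw [le_centralizer_iff, CfsgLib.Fusion.conjBy, Subgroup.map_iSup]
    refine iSup_le fun s => ?_
    rw [← CfsgLib.Fusion.conjBy, CfsgLib.Fusion.conjBy_conjBy,
      ← mem_centralizer_iff.1 hcR s s.2, ← CfsgLib.Fusion.conjBy_conjBy]
    refine commutator_eq_bot_iff_le_centralizer.1 (components_commute
      (isComponent_map_equiv _ (isComponent_map_equiv _ hK)) (isComponent_map_equiv _ hK) fun e => ?_)
    have e' : CfsgLib.Fusion.conjBy (s : G) (CfsgLib.Fusion.conjBy c K) =
        CfsgLib.Fusion.conjBy (r : G) K := e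
    have := congrArg (CfsgLib.Fusion.conjBy (s : G)⁻¹) e'
    rw [CfsgLib.Fusion.conjBy_inv_conjBy, CfsgLib.Fusion.conjBy_conjBy] at this
    exact hout _ (mul_mem (inv_mem s.2) r.2) this
  have hyA' : y ∈ centralizer (A : Set G) :=
    hcA (hcy ▸ CfsgLib.Fusion.conj_mem_conjBy hyA)
  have h1 : Cfsg.layer G ≤ centralizer ({y} : Set G) := by
    refine sSup_le fun L hL => ?_
    by_cases hLo : ∃ r ∈ R, L = CfsgLib.Fusion.conjBy r K
    · obtain ⟨r, hr, rfl⟩ := hLo
      intro x hx
      refine mem_centralizer_iff.2 fun t ht => ?_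
      rw [Set.mem_singleton_iff.1 ht]
      exact (mem_centralizer_iff.1 hyA' x
        (le_iSup (fun r : R => CfsgLib.Fusion.conjBy (r : G) K) ⟨r, hr⟩ hx)).symm
    · push Not at hLo
      have hLA : A ≤ centralizer (L : Set G) := iSup_le fun r =>
        commutator_eq_bot_iff_le_centralizer.1
          (components_commute (isComponent_map_equiv _ hK) hL (Ne.symm (hLo r r.2)))
      intro x hx
      refine mem_centralizer_iff.2 fun t ht => ?_
      rw [Set.mem_singleton_iff.1 ht]
      exact (mem_centralizer_iff.1 (hLA hyA) x hx).symm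
  exact hyc (mem_centralizer_iff.2 fun x hx =>
    (mem_centralizer_iff.1 (h1 hx) y (Set.mem_singleton y)).symm)

/-- `J` normalizes every component. -/
theorem le_normalizer_of_component {K : Subgroup G} (hK : Cfsg.IsComponent K) :
    J ≤ normalizer (K : Set G) := by
  let φ : G →* Equiv.Perm {L : Subgroup G // Cfsg.IsComponent L} :=
    { toFun := fun g =>
        { toFun := fun L => ⟨CfsgLib.Fusion.conjBy g L, isComponent_map_equiv _ L.2⟩
          invFun := fun L => ⟨CfsgLib.Fusion.conjBy g⁻¹ L, isComponent_map_equiv _ L.2⟩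
          left_inv := fun L => Subtype.ext (CfsgLib.Fusion.conjBy_inv_conjBy g _)
          right_inv := fun L => Subtype.ext (CfsgLib.Fusion.conjBy_conjBy_inv g _) }
      map_one' := Equiv.ext fun L => Subtype.ext (CfsgLib.Fusion.conjBy_one _)
      map_mul' := fun a b => Equiv.ext fun L => Subtype.ext (CfsgLib.Fusion.conjBy_conjBy a b _).symm }
  have hpow : IsPGroup p (J.map φ) := by
    rintro ⟨_, j, hj, rfl⟩
    obtain ⟨a, ha⟩ := hR.exists_card_eq
    refine ⟨a, Subtype.ext ?_⟩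
    rw [SubmonoidClass.coe_pow, OneMemClass.coe_one, ← map_pow, ← ha]
    refine Equiv.ext fun L => Subtype.ext ?_
    show CfsgLib.Fusion.conjBy (j ^ Nat.card R) (L : Subgroup G) = L
    obtain ⟨r, hr, hjr⟩ := exists_conjBy_eq_of_component hO hR hJ hJR hJO hJU L.2 hj
    have h : ∀ n : ℕ, CfsgLib.Fusion.conjBy (j ^ n) (L : Subgroup G) =
        CfsgLib.Fusion.conjBy (r ^ n) (L : Subgroup G) := by
      intro n
      induction n with
      | zero => simp
      | succ n ih =>
        rw [pow_succ', ← CfsgLib.Fusion.conjBy_conjBy, ih, CfsgLib.Fusion.conjBy_conjBy,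
          ← (mem_centralizer_iff.1 (hJR hj) (r ^ n) (pow_mem hr n)),
          ← CfsgLib.Fusion.conjBy_conjBy, hjr, CfsgLib.Fusion.conjBy_conjBy, ← pow_succ]
    rw [h, show r ^ Nat.card R = 1 from orderOf_dvd_iff_pow_eq_one.1
      (Subgroup.orderOf_dvd_natCard R hr),
      CfsgLib.Fusion.conjBy_one]
  haveI : Group.IsNilpotent (J.map φ) := hpow.isNilpotent
  have hbot : J.map φ = ⊥ := by
    rcases hJ with hJ | hJ
    · by_contra hc
      haveI : Nontrivial (J.map φ) := (nontrivial_iff_ne_bot _).2 hc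
      haveI : Group.IsPerfect (J.map φ) := Subgroup.isPerfect_iff.2 (by rw [← map_commutator, hJ])
      exact Group.IsPerfect.not_isSolvable (J.map φ) inferInstance
    · obtain ⟨k, hk⟩ := IsPGroup.iff_card.1 hpow
      refine Subgroup.eq_bot_of_card_eq _ (Nat.eq_one_of_dvd_coprimes (hJ.pow_right k) ?_ (dvd_of_eq hk))
      exact card_map_dvd J φ
  intro j hj
  rw [← CfsgLib.Fusion.conjBy_eq_iff]
  have h : φ j = 1 := (Subgroup.mem_bot).1 (hbot ▸ mem_map_of_mem φ hj)
  exact congrArg Subtype.val (Equiv.ext_iff.1 h ⟨K, hK⟩)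

/-- Once `J` acts on every component by inner automorphisms it lies in `E(X)`. -/
theorem le_layer_of_inner
    (hJp : ⁅J, J⁆ = J)
    (hinner : ∀ K : Subgroup G, Cfsg.IsComponent K → J ≤ K ⊔ centralizer (K : Set G)) :
    J ≤ Cfsg.layer G := by
  classical
  haveI : Fintype (Subgroup G) := Fintype.ofFinite _
  set E := Cfsg.layer G
  set O := Cfsg.pCore p G
  haveI := layer_normal (G := G)
  haveI := pCore_normal' (G := G) p
  have hEO : E ≤ centralizer (O : Set G) := sSup_le fun K hK => le_centralizer_pCore_of_isComponent hK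
  have h1 : ∀ j ∈ J, ∀ s : Finset (Subgroup G), (∀ K ∈ s, Cfsg.IsComponent K) →
      ∃ e ∈ E, ∀ K ∈ s, e⁻¹ * j ∈ centralizer (K : Set G) := by
    intro j hj s
    induction s using Finset.induction with
    | empty => exact fun _ => ⟨1, one_mem _, by simp⟩
    | insert K s _ ih =>
      intro hs
      obtain ⟨e, he, hes⟩ := ih fun L hL => hs L (Finset.mem_insert_of_mem hL)
      have hK := hs K (Finset.mem_insert_self K s)
      have hKn : K ≤ normalizer ((centralizer (K : Set G) : Subgroup G) : Set G) :=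
        le_normalizer.trans (normalizer_le_normalizer_centralizer K)
      have hEK : E ≤ K ⊔ centralizer (K : Set G) := sSup_le fun L hL => by
        by_cases h : L = K
        · exact h ▸ le_sup_left
        · exact le_sup_of_le_right
            (commutator_eq_bot_iff_le_centralizer.1 (components_commute hL hK h))
      have hmem : e⁻¹ * j ∈ centralizer (K : Set G) ⊔ K := by
        rw [sup_comm]
        exact mul_mem (inv_mem (hEK he)) (hinner K hK hj)
      obtain ⟨c, hc, k, hk, hck⟩ := mem_sup_exists hKn hmem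
      set k' := c * k * c⁻¹
      have hk' : k' = k := by
        show c * k * c⁻¹ = k
        rw [← mem_centralizer_iff.1 hc k hk, mul_inv_cancel_right]
      refine ⟨e * k, mul_mem he (component_le_layer hK hk), fun L hL => ?_⟩
      have e1 : (e * k)⁻¹ * j = k⁻¹ * (c * k) := by rw [hck]; group
      have e2 : (e * k)⁻¹ * j = c := by
        rw [e1, ← mem_centralizer_iff.1 hc k hk, inv_mul_cancel_left]
      rcases Finset.mem_insert.1 hL with rfl | hL
      · rw [e2]; exact hc
      · rcases eq_or_ne L K with rfl | hne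
        · rw [e2]; exact hc
        · rw [mul_inv_rev, mul_assoc]
          refine mul_mem (inv_mem ?_) (hes L hL)
          exact commutator_eq_bot_iff_le_centralizer.1
            (components_commute hK (hs L (Finset.mem_insert_of_mem hL)) hne.symm) hk
  have h2 : J ≤ E ⊔ O := by
    intro j hj
    obtain ⟨e, he, hes⟩ := h1 j hj (Finset.univ.filter Cfsg.IsComponent) (fun K hK => (Finset.mem_filter.1 hK).2)
    have hcF : e⁻¹ * j ∈ centralizer (Cfsg.generalizedFittingSubgroup G : Set G) := by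
      have hle : Cfsg.generalizedFittingSubgroup G ≤ centralizer ({e⁻¹ * j} : Set G) := by
        rw [Cfsg.generalizedFittingSubgroup, fitting_eq_pCore_of_pPrimeCore_eq_bot hO]
        refine sup_le (sSup_le fun K hK x hx => mem_centralizer_iff.2 fun t ht => ?_)
          fun x hx => mem_centralizer_iff.2 fun t ht => ?_
        · rw [Set.mem_singleton_iff.1 ht]
          exact (mem_centralizer_iff.1
            (hes K (Finset.mem_filter.2 ⟨Finset.mem_univ K, hK⟩)) x hx).symm
        · rw [Set.mem_singleton_iff.1 ht]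
          exact (mem_centralizer_iff.1 (mul_mem (inv_mem (hEO he)) (hJO hj)) x hx).symm
      exact mem_centralizer_iff.2 fun x hx =>
        (mem_centralizer_iff.1 (hle hx) _ (Set.mem_singleton _)).symm
    have hF := centralizer_generalizedFitting_le hcF
    rw [Cfsg.generalizedFittingSubgroup, fitting_eq_pCore_of_pPrimeCore_eq_bot hO] at hF
    have := mul_mem (mem_sup_left (T := O) he) hF
    rwa [mul_inv_cancel_left] at this
  set q := QuotientGroup.mk' E
  have h3 : J.map q ≤ O.map q := (map_mono h2).trans (by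
    rw [Subgroup.map_sup, show E.map q = ⊥ by
      rw [Subgroup.map_eq_bot_iff, QuotientGroup.ker_mk'], bot_sup_eq])
  by_contra hc
  haveI : Group.IsNilpotent (J.map q) := (((pCore_isPGroup p).map q).to_le h3).isNilpotent
  haveI : Nontrivial (J.map q) := (nontrivial_iff_ne_bot _).2 fun e =>
    hc (by rwa [Subgroup.map_eq_bot_iff, QuotientGroup.ker_mk'] at e)
  haveI : Group.IsPerfect (J.map q) := Subgroup.isPerfect_iff.2 (by rw [← map_commutator, hJp])
  exact Group.IsPerfect.not_isSolvable (J.map q) inferInstance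

end Setting

end CfsgLib.Coprime
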