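import Cfsg.Agent.Lib.Coprime.LBalance.Tools
import Cfsg.Agent.Lib.Coprime.Subnormal

/-!
# A small form of Alperin's fusion theorem

Fusion in a subgroup `A` is induced by a subgroup `M` modulo centralizers as soon as this holds for
normalizers of centric subgroups.
-/

set_option autoImplicit false
set_option linter.style.haveILetI false
set_option linter.unusedSectionVars false

namespace CfsgLib.Coprime

open Subgroup

variable {G : Type*} [Group G] [Finite G]

/-- The `p`-elements of `A` centralizing `Q` lie in `Q`. -/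
def CentricIn (p : ℕ) (A Q : Subgroup G) : Prop :=
  ∀ w ∈ A ⊓ centralizer (Q : Set G), ∀ k : ℕ, w ^ p ^ k = 1 → w ∈ Q

/-- `g` is the product of an element of `M` and an element of `A` centralizing `Q`. -/
def Factors (A M Q : Subgroup G) (g : G) : Prop :=
  ∃ m ∈ M, ∃ c ∈ A ⊓ centralizer (Q : Set G), g = m * c

theorem Factors.mono {A M Q Q' : Subgroup G} {g : G} (h : Factors A M Q g) (hQ : Q' ≤ Q) :
    Factors A M Q' g := by
  obtain ⟨m, hm, c, hc, rfl⟩ := h
  exact ⟨m, hm, c, ⟨hc.1, centralizer_le hQ hc.2⟩, rfl⟩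

theorem conj_eq_of_factors {A M Q : Subgroup G} {g m c : G} (hc : c ∈ centralizer (Q : Set G))
    (hg : g = m * c) : CfsgLib.Fusion.conjBy g Q = CfsgLib.Fusion.conjBy m Q := by
  rw [hg, ← CfsgLib.Fusion.conjBy_conjBy, CfsgLib.Fusion.conjBy_eq_iff.2 (Subgroup.centralizer_le_normalizer _ hc)]

variable {A M : Subgroup G}

theorem Factors.inv (hMA : M ≤ A) {Q : Subgroup G} {g : G} (h : Factors A M Q g) :
    Factors A M (CfsgLib.Fusion.conjBy g Q) g⁻¹ := by
  obtain ⟨m, hm, c, hc, hg⟩ := h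
  rw [conj_eq_of_factors (A := A) (M := M) hc.2 hg]
  refine ⟨m⁻¹, inv_mem hm, m * c⁻¹ * m⁻¹, Subgroup.mem_inf.2 ⟨mul_mem (mul_mem (hMA hm)
    (inv_mem hc.1)) (inv_mem (hMA hm)), mem_centralizer_iff.2 ?_⟩, by rw [hg]; group⟩
  intro x hx
  have h := mem_centralizer_iff.1 (inv_mem hc.2) _ (CfsgLib.Fusion.mem_conjBy.1 hx)
  have h' := congrArg (fun t => m * t * m⁻¹) h
  simpa [mul_assoc] using h'

theorem Factors.mul (hMA : M ≤ A) {Q : Subgroup G} {g g' : G} (h : Factors A M Q g)
    (h' : Factors A M (CfsgLib.Fusion.conjBy g Q) g') : Factors A M Q (g' * g) := by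
  obtain ⟨m, hm, c, hc, hg⟩ := h
  rw [conj_eq_of_factors (A := A) (M := M) hc.2 hg] at h'
  obtain ⟨m', hm', c', hc', rfl⟩ := h'
  refine ⟨m' * m, mul_mem hm' hm, m⁻¹ * c' * m * c, Subgroup.mem_inf.2
    ⟨mul_mem (mul_mem (mul_mem (inv_mem (hMA hm)) hc'.1) (hMA hm)) hc.1, mul_mem ?_ hc.2⟩,
    by rw [hg]; group⟩
  refine mem_centralizer_iff.2 fun x hx => ?_
  have h := mem_centralizer_iff.1 hc'.2 _ (CfsgLib.Fusion.conj_mem_conjBy (g := m) hx)
  have h' := congrArg (fun t => m⁻¹ * t * m) h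
  simpa [mul_assoc] using h'

variable {p : ℕ} [hp : Fact p.Prime]

/-- A `p`-subgroup of the Sylow group `P` receives its centralizer's `p`-elements. -/
theorem mem_of_isPGroup_sup {T H : Subgroup G} (hT : IsPGroup p T) (hTH : T ≤ H)
    (hTi : ¬ p ∣ T.relIndex H) {w : G} (hw : w ∈ H) {k : ℕ} (hwk : w ^ p ^ k = 1)
    (hwT : w ∈ centralizer (T : Set G)) : w ∈ T := by
  have hle : zpowers w ≤ normalizer (T : Set G) :=
    zpowers_le.2 (Subgroup.centralizer_le_normalizer _ hwT)
  have h := CfsgLib.Fusion.eq_of_le_of_isPGroup_of_not_dvd_relIndex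
    ((isPGroup_zpowers hwk).to_sup_of_normal_right' hT hle)
    (le_sup_right : T ≤ zpowers w ⊔ T) (sup_le (zpowers_le.2 hw) hTH) hTi
  rw [← h]
  exact mem_sup_left (mem_zpowers w)

theorem factors_of_centric {P : Subgroup G} (hP : IsPGroup p P) (hPA : P ≤ A)
    (hPi : ¬ p ∣ P.relIndex A) (hMA : M ≤ A)
    (hyp : ∀ Q ≤ P, CentricIn p A Q → ∀ n ∈ A, n ∈ normalizer (Q : Set G) → Factors A M Q n)
    {Q : Subgroup G} (hQ : Q ≤ P) {g : G} (hg : g ∈ A) (hgQ : CfsgLib.Fusion.conjBy g Q ≤ P) :
    Factors A M Q g := by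
  induction hd : Nat.card P - Nat.card Q using Nat.strongRecOn generalizing Q g with
  | ind d ih =>
    subst hd
    rcases eq_or_lt_of_le hQ with rfl | hlt
    · exact hyp Q le_rfl (fun w hw k hk => mem_of_isPGroup_sup hP hPA hPi hw.1 hk hw.2) g hg
        (CfsgLib.Fusion.conjBy_eq_iff.1 (CfsgLib.Fusion.conjBy_eq_of_le hgQ))
    set R := CfsgLib.Fusion.conjBy g Q with hR
    have hcardR : Nat.card R = Nat.card Q := CfsgLib.Fusion.card_conjBy g Q
    have hRlt : R < P := lt_of_le_of_ne hgQ fun e =>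
      (Nat.lt_of_lt_of_le (card_lt_of_lt hlt) (le_of_eq (e ▸ hcardR))).false
    have IH : ∀ {Q' : Subgroup G}, Q' ≤ P → Nat.card Q < Nat.card Q' → ∀ {x : G}, x ∈ A →
        CfsgLib.Fusion.conjBy x Q' ≤ P → Factors A M Q' x := by
      intro Q' hQ' hlt' x hx hxQ
      exact ih _ (by
        have := Subgroup.card_le_of_le hQ'
        omega) hQ' hx hxQ rfl
    -- move `R` to a fully normalized conjugate
    set H := A ⊓ normalizer (R : Set G)
    obtain ⟨T, hRT, hTH, hTp, hTi⟩ := CfsgLib.Fusion.exists_le_not_dvd_relIndex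
      (H := H) (hP.to_le (inf_le_left (b := normalizer (R : Set G))))
      (inf_le_inf_right _ hPA)
    obtain ⟨k, hk, hkT⟩ := CfsgLib.Fusion.exists_conj_le_of_not_dvd_relIndex hP hPA hPi hTp
      (hTH.trans inf_le_left)
    set R' := CfsgLib.Fusion.conjBy k R with hR'
    have hR'P : R' ≤ P := (CfsgLib.Fusion.conjBy_mono ((le_inf hgQ le_normalizer).trans hRT)).trans hkT
    have hcardR' : Nat.card R' = Nat.card Q := (CfsgLib.Fusion.card_conjBy k R).trans hcardR
    have hkN : CfsgLib.Fusion.conjBy k T ≤ P ⊓ normalizer (R' : Set G) :=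
      le_inf hkT (CfsgLib.Fusion.conjBy_normalizer k R ▸ CfsgLib.Fusion.conjBy_mono (hTH.trans inf_le_right))
    have hR'i : ¬ p ∣ (P ⊓ normalizer (R' : Set G)).relIndex (A ⊓ normalizer (R' : Set G)) := by
      intro hd
      have h1 := CfsgLib.Fusion.not_dvd_relIndex_conjBy k hTi
      have e : CfsgLib.Fusion.conjBy k H = A ⊓ normalizer (R' : Set G) := by
        rw [CfsgLib.Fusion.conjBy, map_inf _ _ _ (MulAut.conj k).injective, ← CfsgLib.Fusion.conjBy,
          ← CfsgLib.Fusion.conjBy, CfsgLib.Fusion.conjBy_normalizer, CfsgLib.Fusion.conjBy_eq_iff.2 (le_normalizer hk)]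
      rw [e] at h1
      exact h1 (hd.trans (relIndex_dvd_of_le_left _ hkN))
    have hFk : Factors A M R k := (IH (Q' := P ⊓ normalizer (R : Set G)) inf_le_left
      (hcardR ▸ card_lt_of_lt (lt_inf_normalizer hP hRlt)) hk
      ((CfsgLib.Fusion.conjBy_mono hRT).trans hkT)).mono (le_inf hgQ le_normalizer)
    -- move the normalizer of `Q`
    have hkgQ : CfsgLib.Fusion.conjBy (k * g) Q = R' := by rw [← CfsgLib.Fusion.conjBy_conjBy]
    have hNQ : CfsgLib.Fusion.conjBy (k * g) (P ⊓ normalizer (Q : Set G)) ≤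
        A ⊓ normalizer (R' : Set G) := by
      refine le_inf ?_ ?_
      · exact (CfsgLib.Fusion.conjBy_mono (inf_le_left.trans hPA)).trans
          (le_of_eq (CfsgLib.Fusion.conjBy_eq_iff.2 (le_normalizer (mul_mem hk hg))))
      · rw [← hkgQ, ← CfsgLib.Fusion.conjBy_normalizer]
        exact CfsgLib.Fusion.conjBy_mono inf_le_right
    obtain ⟨n, hn, hnle⟩ := CfsgLib.Fusion.exists_conj_le_of_not_dvd_relIndex
      (hP.to_le inf_le_left) (inf_le_inf_right _ hPA) hR'i
      ((hP.to_le inf_le_left).map _) hNQ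
    rw [CfsgLib.Fusion.conjBy_conjBy] at hnle
    have hFall : Factors A M Q (n * (k * g)) := (IH (Q' := P ⊓ normalizer (Q : Set G)) inf_le_left
      (card_lt_of_lt (lt_inf_normalizer hP hlt)) (mul_mem hn.1 (mul_mem hk hg))
      (hnle.trans inf_le_left)).mono (le_inf hQ le_normalizer)
    have hnR' : CfsgLib.Fusion.conjBy n R' = R' := CfsgLib.Fusion.conjBy_eq_iff.2 hn.2
    -- the element `n` of `normalizer R'`
    have hFn : Factors A M R' n := by
      set T₀ := P ⊓ centralizer (R' : Set G)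
      have hT₀i : ¬ p ∣ T₀.relIndex (A ⊓ centralizer (R' : Set G)) := by
        have hN : (P ⊓ normalizer (R' : Set G)) ≤ A ⊓ normalizer (R' : Set G) :=
          inf_le_inf_right _ hPA
        set K := A ⊓ normalizer (R' : Set G)
        haveI : ((A ⊓ centralizer (R' : Set G)).subgroupOf K).Normal := by
          refine (normal_subgroupOf_iff_le_normalizer
            (inf_le_inf_left _ (Subgroup.centralizer_le_normalizer _))).2 ?_
          exact inf_le_normalizer (inf_le_left.trans le_normalizer)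
            (inf_le_right.trans (normalizer_le_normalizer_centralizer R'))
        have hS : IsPGroup p ((P ⊓ normalizer (R' : Set G)).subgroupOf K) :=
          (hP.to_le inf_le_left).comap_subtype
        have h := CfsgLib.Fusion.not_dvd_relIndex_inf_of_normal (hS.toSylow hR'i)
          ((A ⊓ centralizer (R' : Set G)).subgroupOf K)
        rw [show ((hS.toSylow hR'i : Sylow p K) : Subgroup K) =
            (P ⊓ normalizer (R' : Set G)).subgroupOf K from rfl,
          show (P ⊓ normalizer (R' : Set G)).subgroupOf K ⊓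
            (A ⊓ centralizer (R' : Set G)).subgroupOf K =
            (P ⊓ normalizer (R' : Set G) ⊓ (A ⊓ centralizer (R' : Set G))).subgroupOf K from
            (comap_inf _ _ _).symm,
          relIndex_subgroupOf (inf_le_inf_left _ (Subgroup.centralizer_le_normalizer _))] at h
        refine fun hd => h (hd.trans (relIndex_dvd_of_le_left _ ?_))
        exact le_inf (inf_le_left.trans inf_le_left) (inf_le_right.trans inf_le_right)
      have hT₀le : T₀ ≤ A ⊓ centralizer (R' : Set G) := inf_le_inf_right _ hPA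
      by_cases hc : T₀ ≤ R'
      · refine hyp R' hR'P (fun w hw k hk => ?_) n hn.1 hn.2
        obtain ⟨h, hh, hle⟩ := CfsgLib.Fusion.exists_conj_le_of_not_dvd_relIndex
          (hP.to_le inf_le_left) hT₀le hT₀i (isPGroup_zpowers hk) (zpowers_le.2 hw)
        have hz : h * w * h⁻¹ ∈ R' := hc (hle (CfsgLib.Fusion.conj_mem_conjBy (mem_zpowers w)))
        have h' := mem_centralizer_iff.1 (inv_mem hh.2) _ hz
        have e : h⁻¹ * (h * w * h⁻¹) * h = h * w * h⁻¹ := by
          rw [← h', inv_mul_cancel_right]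
        rw [show h⁻¹ * (h * w * h⁻¹) * h = w by group] at e
        rwa [e]
      · have hconj : CfsgLib.Fusion.conjBy n T₀ ≤ A ⊓ centralizer (R' : Set G) := by
          refine le_inf ((CfsgLib.Fusion.conjBy_mono (inf_le_left.trans hPA)).trans
            (le_of_eq (CfsgLib.Fusion.conjBy_eq_iff.2 (le_normalizer hn.1)))) ?_
          refine (CfsgLib.Fusion.conjBy_mono inf_le_right).trans (le_of_eq ?_)
          rw [CfsgLib.Fusion.conjBy_centralizer, hnR']
        obtain ⟨c, hc', hcle⟩ := CfsgLib.Fusion.exists_conj_le_of_not_dvd_relIndex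
          (hP.to_le inf_le_left) hT₀le hT₀i ((hP.to_le inf_le_left).map _) hconj
        rw [CfsgLib.Fusion.conjBy_conjBy] at hcle
        have hcn : CfsgLib.Fusion.conjBy (c * n) R' = R' := by
          rw [← CfsgLib.Fusion.conjBy_conjBy, hnR', CfsgLib.Fusion.conjBy_eq_iff.2 (Subgroup.centralizer_le_normalizer _ hc'.2)]
        have hlt' : Nat.card Q < Nat.card ↥(R' ⊔ T₀) :=
          hcardR' ▸ card_lt_of_lt (lt_of_le_of_ne le_sup_left fun e => hc (e ▸ le_sup_right))
        have hF : Factors A M R' (c * n) := (IH (sup_le hR'P inf_le_left) hlt' (mul_mem hc'.1 hn.1)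
          (by
            rw [CfsgLib.Fusion.conjBy, Subgroup.map_sup]
            exact sup_le (hcn.le.trans hR'P) (hcle.trans inf_le_left))).mono le_sup_left
        have hFc : Factors A M R' c⁻¹ :=
          ⟨1, one_mem _, c⁻¹, inv_mem hc', by rw [one_mul]⟩
        have h2 := hF.mul hMA (g' := c⁻¹) (by rw [hcn]; exact hFc)
        rwa [inv_mul_cancel_left] at h2
    have hFn' : Factors A M R' n⁻¹ := hnR' ▸ hFn.inv hMA
    have hkg : Factors A M Q (k * g) := by
      have h := hFall.mul hMA (g' := n⁻¹) (by rw [← CfsgLib.Fusion.conjBy_conjBy, hkgQ, hnR']; exact hFn')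
      rwa [inv_mul_cancel_left] at h
    have h := hkg.mul hMA (g' := k⁻¹) (by rw [hkgQ]; exact hFk.inv hMA)
    rwa [inv_mul_cancel_left] at h

end CfsgLib.Coprime
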