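import Cfsg.Agent.Lib.Coprime.LBalance.Inner
import Cfsg.Prelude.Def_Balance

/-!
# `p'`-cores of centralizers of `p`-subgroups and the components (balance)
-/

set_option autoImplicit false
set_option linter.style.haveILetI false
set_option linter.unusedSectionVars false

namespace CfsgLib.Coprime

open Subgroup
open scoped commutatorElement

variable {G : Type*} [Group G] [Finite G] {p : ℕ} [hp : Fact p.Prime]

theorem le_coreIn {V H : Subgroup G} (hVH : V ≤ H) (hn : H ≤ normalizer (V : Set G))
    (hV : (Nat.card V).Coprime p) : V ≤ coreIn p H := by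
  haveI : (V.subgroupOf H).Normal := (normal_subgroupOf_iff_le_normalizer hVH).2 hn
  have h := le_pPrimeCore (N := V.subgroupOf H)
    (by rwa [Nat.card_congr (subgroupOfEquivOfLe hVH).toEquiv])
  rw [← map_subgroupOf_eq_of_le hVH]
  exact map_mono h

/-- `O_{p'}(C(R))` centralizes `O_p`, and `C_E(R)` modulo its `p'`-core. -/
theorem coreCentralizer_data {R : Subgroup G} (hR : IsPGroup p R) :
    ∀ B : Subgroup G, B = coreIn p (centralizer (R : Set G)) →
      (Nat.card B).Coprime p ∧ B ≤ centralizer (R : Set G) ∧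
      B ≤ centralizer (Cfsg.pCore p G : Set G) ∧
      ⁅Cfsg.layer G ⊓ centralizer (R : Set G), B⁆ ≤
        coreIn p (Cfsg.layer G ⊓ centralizer (R : Set G)) ∧
      coreIn p (Cfsg.layer G ⊓ centralizer (R : Set G)) ≤ B := by
  intro B hB
  haveI hUn := pCore_normal' (G := G) p
  haveI := layer_normal (G := G)
  set C := centralizer (R : Set G)
  have hcop : (Nat.card B).Coprime p := hB ▸ coprime_card_coreIn hp.out _
  have hBC : B ≤ C := hB ▸ coreIn_le _ _
  have hCB : C ≤ normalizer (B : Set G) :=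
    hB ▸ le_normalizer.trans (normalizer_le_normalizer_coreIn _ _)
  have hcomm : ∀ A : Subgroup G, A ≤ C → C ≤ normalizer (A : Set G) → ⁅A, B⁆ ≤ A ⊓ B := by
    intro A hAC hn
    rw [commutator_le]
    intro a ha b hb
    rw [commutatorElement_def]
    refine Subgroup.mem_inf.2 ⟨?_, ?_⟩
    · rw [show a * b * a⁻¹ * b⁻¹ = a * (b * a⁻¹ * b⁻¹) by group]
      exact mul_mem ha ((Subgroup.mem_normalizer_iff.1 (hn (hBC hb)) _).1 (inv_mem ha))
    · exact mul_mem ((Subgroup.mem_normalizer_iff.1 (hCB (hAC ha)) _).1 hb) (inv_mem hb)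
  refine ⟨hcop, hBC, ?_, ?_, ?_⟩
  · refine pq_lemma hR hcop (pCore_isPGroup p) (le_centralizer_iff.1 hBC)
      (by rw [Subgroup.normalizer_eq_top (Cfsg.pCore p G)]; exact le_top)
      (by rw [Subgroup.normalizer_eq_top (Cfsg.pCore p G)]; exact le_top) ?_
    rw [← commutator_eq_bot_iff_le_centralizer, eq_bot_iff,
      ← pPrime_inf_pGroup_eq_bot hcop (pCore_isPGroup p), inf_comm B]
    refine (hcomm _ inf_le_right (inf_le_normalizer
      (by rw [Subgroup.normalizer_eq_top (Cfsg.pCore p G)]; exact le_top) le_normalizer)).trans ?_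
    exact inf_le_inf_right _ inf_le_left
  · have hn : C ≤ normalizer ((Cfsg.layer G ⊓ C : Subgroup G) : Set G) := inf_le_normalizer
      (by rw [Subgroup.normalizer_eq_top (Cfsg.layer G)]; exact le_top) le_normalizer
    refine (hcomm _ inf_le_right hn).trans (le_coreIn inf_le_left ?_
      (hcop.coprime_dvd_left (card_dvd_of_le inf_le_right)))
    exact inf_le_normalizer le_normalizer (inf_le_right.trans hCB)
  · rw [hB]
    refine le_coreIn ((coreIn_le _ _).trans inf_le_right) ?_ (coprime_card_coreIn hp.out _)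
    exact (inf_le_normalizer (by rw [Subgroup.normalizer_eq_top (Cfsg.layer G)]; exact le_top)
      le_normalizer).trans (normalizer_le_normalizer_coreIn _ _)

theorem coreCentralizer_le_normalizer_component (hO : Cfsg.pPrimeCore p G = ⊥) {R : Subgroup G}
    (hR : IsPGroup p R) {K : Subgroup G} (hK : Cfsg.IsComponent K) :
    coreIn p (centralizer (R : Set G)) ≤ normalizer (K : Set G) := by
  obtain ⟨h1, h2, h3, h4, -⟩ := coreCentralizer_data hR _ rfl
  exact le_normalizer_of_component hO hR (Or.inr h1) h2 h3 h4 hK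

theorem centralizer_zpowers_eq (x : G) :
    centralizer ((zpowers x : Subgroup G) : Set G) = centralizer ({x} : Set G) := by
  rw [zpowers_eq_closure, centralizer_closure]

theorem centralizerPPrimeCore_eq (x : G) :
    Cfsg.centralizerPPrimeCore p x = coreIn p (centralizer ((zpowers x : Subgroup G) : Set G)) := by
  rw [centralizer_zpowers_eq]; rfl

/-- The partial norm `k · xkx⁻¹ ⋯ x^(n-1)kx^(1-n)`. -/
def normProd (x k : G) : ℕ → G
  | 0 => 1
  | n + 1 => normProd x k n * (x ^ n * k * (x ^ n)⁻¹)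

theorem conj_normProd (x k : G) : ∀ n : ℕ, k * (x * normProd x k n * x⁻¹) = normProd x k (n + 1)
  | 0 => by simp [normProd]
  | n + 1 => by
    show k * (x * (normProd x k n * (x ^ n * k * (x ^ n)⁻¹)) * x⁻¹) =
      normProd x k (n + 1) * (x ^ (n + 1) * k * (x ^ (n + 1))⁻¹)
    rw [← conj_normProd x k n, pow_succ' x n]
    group

/-- An element of order `p` moving a component: its centralizer's `p'`-core centralizes it. -/
theorem coreCentralizer_le_centralizer_of_moved (hO : Cfsg.pPrimeCore p G = ⊥) {x : G}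
    (hx : x ^ p = 1) {K : Subgroup G} (hK : Cfsg.IsComponent K)
    (hxK : x ∉ normalizer (K : Set G)) :
    Cfsg.centralizerPPrimeCore p x ≤ centralizer (K : Set G) := by
  haveI := layer_normal (G := G)
  rw [centralizerPPrimeCore_eq]
  set R := zpowers x
  have hR : IsPGroup p R := isPGroup_zpowers (k := 1) (by rwa [pow_one])
  obtain ⟨hcop, hBC, -, hBU, -⟩ := coreCentralizer_data hR _ rfl
  set B := coreIn p (centralizer (R : Set G))
  set E := Cfsg.layer G
  have hxord : orderOf x = p := orderOf_eq_prime hx fun e => hxK (e ▸ one_mem _)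
  have hne : ∀ i, 0 < i → i < p → x ^ i ∉ normalizer (K : Set G) := by
    intro i h0 hi h
    have hcop : i.Coprime (orderOf x) := by
      rw [hxord]; exact ((hp.out.coprime_iff_not_dvd).2 (Nat.not_dvd_of_pos_of_lt h0 hi)).symm
    obtain ⟨m, hm⟩ := exists_pow_eq_self_of_coprime hcop
    exact hxK (hm ▸ pow_mem h m)
  have hsep : ∀ i j, i < j → j < p → ∀ a ∈ K, ∀ b ∈ K,
      Commute (x ^ i * a * (x ^ i)⁻¹) (x ^ j * b * (x ^ j)⁻¹) := by
    intro i j hij hj a ha b hb
    refine commutator_eq_bot_iff_forall.1 (components_commute (isComponent_map_equiv (MulAut.conj (x ^ i)) hK)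
      (isComponent_map_equiv (MulAut.conj (x ^ j)) hK) fun e => ?_) _
      (CfsgLib.Fusion.conj_mem_conjBy ha) _ (CfsgLib.Fusion.conj_mem_conjBy hb)
    refine hne (j - i) (Nat.sub_pos_of_lt hij) (lt_of_le_of_lt (Nat.sub_le _ _) hj)
      (CfsgLib.Fusion.conjBy_eq_iff.1 ?_)
    have e' : CfsgLib.Fusion.conjBy (x ^ j) K = CfsgLib.Fusion.conjBy (x ^ i) K := e.symm
    have h := congrArg (CfsgLib.Fusion.conjBy (x ^ i)⁻¹) e'
    rw [CfsgLib.Fusion.conjBy_inv_conjBy, CfsgLib.Fusion.conjBy_conjBy] at h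
    rwa [show (x ^ i)⁻¹ * x ^ j = x ^ (j - i) from by
      rw [inv_mul_eq_iff_eq_mul, ← pow_add, Nat.add_sub_cancel' hij.le]] at h
  have hcommN : ∀ n m, n ≤ m → m < p → ∀ a ∈ K, ∀ b ∈ K,
      Commute (normProd x a n) (x ^ m * b * (x ^ m)⁻¹) := by
    intro n
    induction n with
    | zero => intro m _ _ a _ b _; exact Commute.one_left _
    | succ n ih =>
      intro m hnm hm a ha b hb
      exact (ih m (Nat.le_of_succ_le hnm) hm a ha b hb).mul_left (hsep n m hnm hm a ha b hb)
  have hmul : ∀ n, n ≤ p → ∀ a ∈ K, ∀ b ∈ K,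
      normProd x (a * b) n = normProd x a n * normProd x b n := by
    intro n
    induction n with
    | zero => intro _ a _ b _; exact (mul_one 1).symm
    | succ n ih =>
      intro hn a ha b hb
      show normProd x (a * b) n * (x ^ n * (a * b) * (x ^ n)⁻¹) =
        normProd x a n * (x ^ n * a * (x ^ n)⁻¹) * (normProd x b n * (x ^ n * b * (x ^ n)⁻¹))
      rw [ih (Nat.le_of_succ_le hn) a ha b hb, mul_assoc (normProd x a n) (normProd x b n),
        mul_assoc (normProd x a n) (x ^ n * a * (x ^ n)⁻¹)]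
      congr 1
      have h := (hcommN n n le_rfl hn b hb a ha).eq
      calc normProd x b n * (x ^ n * (a * b) * (x ^ n)⁻¹)
          = (normProd x b n * (x ^ n * a * (x ^ n)⁻¹)) * (x ^ n * b * (x ^ n)⁻¹) := by group
        _ = (x ^ n * a * (x ^ n)⁻¹ * normProd x b n) * (x ^ n * b * (x ^ n)⁻¹) := by rw [h]
        _ = _ := mul_assoc _ _ _
  have hone : ∀ n, normProd x 1 n = 1 := by
    intro n
    induction n with
    | zero => rfl
    | succ n ih => show normProd x 1 n * _ = 1; rw [ih]; group
  let φ : K →* G :=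
    { toFun := fun k => normProd x k p
      map_one' := hone p
      map_mul' := fun a b => hmul p le_rfl a a.2 b b.2 }
  -- `φ k = k · rest`, with `rest` commuting with `K`
  have hrest : ∀ k ∈ K, ∀ l ∈ K, Commute l (k⁻¹ * normProd x k p) := by
    intro k hk l hl
    have h : ∀ n, 1 ≤ n → n ≤ p → Commute l (k⁻¹ * normProd x k n) := by
      intro n h1
      induction n, h1 using Nat.le_induction with
      | base => intro _; simp [normProd]
      | succ n h1 ih =>
        intro hn
        show Commute l (k⁻¹ * (normProd x k n * (x ^ n * k * (x ^ n)⁻¹)))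
        rw [← mul_assoc]
        refine (ih (Nat.le_of_succ_le hn)).mul_right ?_
        have := hsep 0 n h1 hn l hl k hk
        rwa [pow_zero, one_mul, inv_one, mul_one] at this
    exact h p hp.out.one_le le_rfl
  have hφE : ∀ k : K, φ k ∈ E := by
    intro k
    have h : ∀ n, normProd x (k : G) n ∈ E := by
      intro n
      induction n with
      | zero => exact one_mem _
      | succ n ih => exact mul_mem ih (Subgroup.Normal.conj_mem inferInstance _ (component_le_layer hK k.2) _)
    exact h p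
  have hφx : ∀ k : K, x * φ k * x⁻¹ = φ k := by
    intro k
    show x * normProd x (k : G) p * x⁻¹ = normProd x (k : G) p
    have h := conj_normProd x (k : G) p
    rw [show normProd x (k : G) (p + 1) = normProd x (k : G) p * k by
      show normProd x (k : G) p * (x ^ p * k * (x ^ p)⁻¹) = _
      rw [hx]; group] at h
    have hc := (hrest k k.2 k k.2).eq
    calc x * normProd x (k : G) p * x⁻¹ = (k : G)⁻¹ * (normProd x (k : G) p * k) := by
          rw [← h]; group
      _ = ((k : G)⁻¹ * normProd x (k : G) p) * k := (mul_assoc _ _ _).symm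
      _ = (k : G) * ((k : G)⁻¹ * normProd x (k : G) p) := hc.symm
      _ = _ := mul_inv_cancel_left _ _
  have hφU : ∀ k : K, φ k ∈ E ⊓ centralizer (R : Set G) := fun k => Subgroup.mem_inf.2 ⟨hφE k, by
    rw [centralizer_zpowers_eq, mem_centralizer_iff]
    intro y hy
    rw [Set.mem_singleton_iff.1 hy]
    exact mul_inv_eq_iff_eq_mul.1 (hφx k)⟩
  obtain ⟨y, k, hk, hy⟩ := exists_pElement_not_mem_center (p := p) hK.2
    (dvd_card_of_isComponent hO hK)
  set pre := (coreIn p (E ⊓ centralizer (R : Set G))).comap φ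
  haveI : pre.Normal := ⟨fun a ha b => by
    show φ (b * a * b⁻¹) ∈ coreIn p _
    rw [map_mul, map_mul, map_inv]
    exact (Subgroup.mem_normalizer_iff.1
      (normalizer_le_normalizer_coreIn p _ (le_normalizer (hφU b))) _).1 ha⟩
  have hpre : pre ≤ center K := by
    refine (subnormal_eq_top_or_le_center hK.2 (Normal.isSubnormal inferInstance)).resolve_left
      fun h => hy ?_
    have hd : φ y ∈ coreIn p (E ⊓ centralizer (R : Set G)) ⊓ zpowers (φ y) :=
      ⟨(h ▸ mem_top y : y ∈ pre), mem_zpowers _⟩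
    rw [pPrime_inf_pGroup_eq_bot (coprime_card_coreIn hp.out _)
      (isPGroup_zpowers (k := k) (by rw [← map_pow, hk, map_one])), Subgroup.mem_bot] at hd
    refine mem_center_iff.2 fun l => Subtype.ext ?_
    have h1 : Commute (l : G) ((y : G)⁻¹ * normProd x (y : G) p) := hrest y y.2 l l.2
    rw [show normProd x (y : G) p = 1 from hd, mul_one] at h1
    exact (Commute.inv_right_iff.1 h1).eq
  have hBN : B ≤ normalizer (K : Set G) := coreCentralizer_le_normalizer_component hO hR hK
  intro b hb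
  refine mem_centralizer_of_commutator_central (commutator_self_of_isComponent hK) fun k hk => ?_
  have hbk : b * k * b⁻¹ ∈ K := (Subgroup.mem_normalizer_iff.1 (hBN hb) k).1 hk
  refine Subgroup.mem_inf.2 ⟨mul_mem hbk (inv_mem hk), mem_centralizer_iff.2 fun l hl => ?_⟩
  have hbx : Commute x b := by
    have := hBC hb
    rw [centralizer_zpowers_eq] at this
    exact mem_centralizer_iff.1 this x (Set.mem_singleton x)
  have hmem : (⟨b * k * b⁻¹, hbk⟩ * (⟨k, hk⟩ : K)⁻¹ : K) ∈ pre := by
    show φ _ ∈ coreIn p _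
    rw [map_mul, map_inv]
    show normProd x (b * k * b⁻¹) p * (normProd x k p)⁻¹ ∈ _
    have e : ∀ n, normProd x (b * k * b⁻¹) n = b * normProd x k n * b⁻¹ := by
      intro n
      induction n with
      | zero => simp [normProd]
      | succ n ih =>
        show normProd x (b * k * b⁻¹) n * (x ^ n * (b * k * b⁻¹) * (x ^ n)⁻¹) =
          b * (normProd x k n * (x ^ n * k * (x ^ n)⁻¹)) * b⁻¹
        have h := (hbx.pow_left n).eq
        rw [ih, show x ^ n * (b * k * b⁻¹) * (x ^ n)⁻¹ = (x ^ n * b) * k * (x ^ n * b)⁻¹ by group, h]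
        group
    rw [e]
    have h1 := inv_mem (hBU (commutator_mem_commutator (hφU ⟨k, hk⟩) hb))
    rwa [commutatorElement_inv, commutatorElement_def] at h1
  exact congrArg Subtype.val (mem_center_iff.1 (hpre hmem) ⟨l, hl⟩)

/-- An element centralizing a component: its centralizer's `p'`-core centralizes it. -/
theorem coreCentralizer_le_centralizer_of_centralized (hO : Cfsg.pPrimeCore p G = ⊥) {x : G}
    {K : Subgroup G} (hK : Cfsg.IsComponent K) (hxK : x ∈ centralizer (K : Set G)) :
    Cfsg.centralizerPPrimeCore p x ≤ centralizer (K : Set G) := by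
  set C := centralizer ({x} : Set G)
  have hKC : K ≤ C := fun k hk => mem_centralizer_iff.2 fun y hy => by
    rw [Set.mem_singleton_iff.1 hy]; exact (mem_centralizer_iff.1 hxK k hk).symm
  have h := (component_le_or_commutator_eq_bot (isComponent_subgroupOf hK hKC)
    (Normal.isSubnormal (inferInstance : (Cfsg.pPrimeCore p C).Normal))).resolve_left fun hle => by
      refine pPrimeCore_not_dvd (G := C) hp.out ((dvd_card_of_isComponent hO hK).trans ?_)
      rw [← Nat.card_congr (subgroupOfEquivOfLe hKC).toEquiv]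
      exact card_dvd_of_le hle
  have h2 := congrArg (Subgroup.map C.subtype) h
  rw [map_commutator, map_subgroupOf_eq_of_le hKC, Subgroup.map_bot, commutator_comm,
    commutator_eq_bot_iff_le_centralizer] at h2
  exact h2

/-- In the group `H / C_H(K)` of automorphisms of a component `K` (with `K ≤ H`) the `p'`-core is
trivial. -/
theorem pPrimeCore_automizer_eq_bot (hO : Cfsg.pPrimeCore p G = ⊥) {K H : Subgroup G}
    (hK : Cfsg.IsComponent K) (hKH : K ≤ H) (hHK : H ≤ normalizer (K : Set G))
    [((centralizer (K : Set G)).subgroupOf H).Normal] :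
    Cfsg.pPrimeCore p (H ⧸ (centralizer (K : Set G)).subgroupOf H) = ⊥ := by
  haveI : (K.subgroupOf H).Normal := (normal_subgroupOf_iff_le_normalizer hKH).2 hHK
  set q := QuotientGroup.mk' ((centralizer (K : Set G)).subgroupOf H)
  have hq1 : ∀ g : H, q g = 1 ↔ (g : G) ∈ centralizer (K : Set G) := fun g =>
    (QuotientGroup.eq_one_iff g).trans mem_subgroupOf
  set N := (Cfsg.pPrimeCore p (H ⧸ (centralizer (K : Set G)).subgroupOf H)).comap q
  haveI : (N.subgroupOf (K.subgroupOf H)).Normal := inferInstance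
  set e := subgroupOfEquivOfLe hKH
  set M := (N.subgroupOf (K.subgroupOf H)).map e.toMonoidHom
  haveI : M.Normal := Normal.map inferInstance _ e.surjective
  have hM : M ≤ center K := by
    refine (subnormal_eq_top_or_le_center hK.2
      (Normal.isSubnormal (inferInstance : M.Normal))).resolve_left fun h => ?_
    obtain ⟨x, k, hk, hx⟩ := exists_pElement_not_mem_center (p := p) hK.2
      (dvd_card_of_isComponent hO hK)
    obtain ⟨y, hy, hyx⟩ : x ∈ M := h ▸ mem_top x
    have hxk : (x : G) ^ p ^ k = 1 := by simpa using congrArg Subtype.val hk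
    have hd : q (y : H) ∈ Cfsg.pPrimeCore p _ ⊓ zpowers (q (y : H)) := ⟨hy, mem_zpowers _⟩
    rw [pPrime_inf_pGroup_eq_bot (pPrimeCore_coprime hp.out) (isPGroup_zpowers (k := k) (by
      rw [← map_pow, show (y : H) ^ p ^ k = 1 from Subtype.ext (by
        have : ((y : H) : G) = x := congrArg Subtype.val hyx
        simpa [this] using hxk), map_one])), Subgroup.mem_bot, hq1] at hd
    refine hx (mem_center_iff.2 fun l => Subtype.ext ?_)
    have : ((y : H) : G) = x := congrArg Subtype.val hyx
    rw [this] at hd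
    exact mem_centralizer_iff.1 hd l l.2
  rw [eq_bot_iff]
  intro z hz
  obtain ⟨g, rfl⟩ := QuotientGroup.mk'_surjective _ z
  rw [Subgroup.mem_bot, hq1]
  refine mem_centralizer_of_commutator_central (commutator_self_of_isComponent hK) fun k hk => ?_
  have hgk : (g : G) * k * (g : G)⁻¹ ∈ K := (Subgroup.mem_normalizer_iff.1 (hHK g.2) k).1 hk
  refine Subgroup.mem_inf.2 ⟨mul_mem hgk (inv_mem hk), mem_centralizer_iff.2 fun l hl => ?_⟩
  have hmem : (g * (⟨k, hKH hk⟩ : H) * g⁻¹ * (⟨k, hKH hk⟩ : H)⁻¹ : H) ∈ N := by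
    rw [mul_assoc g, mul_assoc g]
    refine mul_mem hz ?_
    show q _ ∈ Cfsg.pPrimeCore p _
    rw [map_mul, map_mul, map_inv, map_inv]
    exact Subgroup.Normal.conj_mem inferInstance _ (inv_mem hz) _
  have hM' : (⟨_, mul_mem hgk (inv_mem hk)⟩ : K) ∈ M :=
    ⟨⟨_, mem_subgroupOf.2 (mul_mem hgk (inv_mem hk))⟩, mem_subgroupOf.2 hmem, rfl⟩
  exact congrArg Subtype.val (mem_center_iff.1 (hM hM') ⟨l, hl⟩)

/-- The signalizer `Δ(A)` centralizes a component `K` when the automorphism groups of `K` that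
occur are locally balanced. -/
theorem signalizerDelta_le_centralizer_component (hO : Cfsg.pPrimeCore p G = ⊥) {A : Subgroup G}
    (hA : Cfsg.IsElementaryAbelian p A) (hA1 : A ≠ ⊥) {K : Subgroup G} (hK : Cfsg.IsComponent K)
    (hloc : ∀ (H : Subgroup G), K ≤ H → H ≤ normalizer (K : Set G) →
      ∀ [((centralizer (K : Set G)).subgroupOf H).Normal],
      ∀ A' : Subgroup (H ⧸ (centralizer (K : Set G)).subgroupOf H),
        Cfsg.IsElementaryAbelian p A' → Nat.card A' = Nat.card A → Cfsg.signalizerDelta p A' = ⊥) :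
    Cfsg.signalizerDelta p A ≤ centralizer (K : Set G) := by
  have hDB : ∀ a ∈ A, a ≠ 1 → Cfsg.signalizerDelta p A ≤ Cfsg.centralizerPPrimeCore p a :=
    fun a ha h1 => iInf_le (fun a : {a : G // a ∈ A ∧ a ≠ 1} =>
      Cfsg.centralizerPPrimeCore p (a : G)) ⟨a, ha, h1⟩
  by_cases hmv : ∃ a ∈ A, a ≠ 1 ∧ a ∉ normalizer (K : Set G)
  · obtain ⟨a, ha, h1, haK⟩ := hmv
    exact (hDB a ha h1).trans (coreCentralizer_le_centralizer_of_moved hO (hA.2 a ha) hK haK)
  push Not at hmv
  by_cases hcn : ∃ a ∈ A, a ≠ 1 ∧ a ∈ centralizer (K : Set G)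
  · obtain ⟨a, ha, h1, haK⟩ := hcn
    exact (hDB a ha h1).trans (coreCentralizer_le_centralizer_of_centralized hO hK haK)
  push Not at hcn
  have hAN : A ≤ normalizer (K : Set G) := fun a ha => by
    rcases eq_or_ne a 1 with rfl | h1
    · exact one_mem _
    · exact hmv a ha h1
  set D := Cfsg.signalizerDelta p A with hD
  obtain ⟨a₀, ha₀, ha₀1⟩ : ∃ a ∈ A, a ≠ 1 := by
    by_contra h
    push Not at h
    exact hA1 ((eq_bot_iff_forall _).2 h)
  have hAp : ∀ a ∈ A, IsPGroup p (zpowers a) := fun a ha =>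
    isPGroup_zpowers (k := 1) (by rw [pow_one]; exact hA.2 a ha)
  have hDN : D ≤ normalizer (K : Set G) := by
    refine (hDB a₀ ha₀ ha₀1).trans ?_
    rw [centralizerPPrimeCore_eq]
    exact coreCentralizer_le_normalizer_component hO (hAp a₀ ha₀) hK
  have hAc : ∀ a ∈ A, ∀ b ∈ A, a * b = b * a := fun a ha b hb =>
    congrArg Subtype.val (hA.1.is_comm.comm (⟨a, ha⟩ : A) ⟨b, hb⟩)
  have hAB : ∀ a ∈ A, A ≤ normalizer ((Cfsg.centralizerPPrimeCore p a : Subgroup G) : Set G) :=
    fun a ha b hb => normalizer_le_normalizer_coreIn p _ (le_normalizer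
      (show b ∈ centralizer ({a} : Set G) from mem_centralizer_iff.2 fun y hy => by
        rw [Set.mem_singleton_iff.1 hy]; exact hAc a ha b hb))
  set C := centralizer (K : Set G)
  set H := (C ⊔ K) ⊔ (A ⊔ D)
  have hCKN : C ⊔ K ≤ normalizer (K : Set G) := sup_le (centralizer_le_normalizer _) le_normalizer
  have hHN : H ≤ normalizer (K : Set G) := sup_le hCKN (sup_le hAN hDN)
  have hCH : C ≤ H := le_sup_of_le_left le_sup_left
  haveI : (C.subgroupOf H).Normal := (normal_subgroupOf_iff_le_normalizer hCH).2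
    (hHN.trans (normalizer_le_normalizer_centralizer K))
  have hAH : A ≤ H := le_sup_of_le_right le_sup_left
  have hDH : D ≤ H := le_sup_of_le_right le_sup_right
  set q := QuotientGroup.mk' (C.subgroupOf H)
  have hq1 : ∀ g : H, q g = 1 ↔ (g : G) ∈ C := fun g =>
    (QuotientGroup.eq_one_iff g).trans mem_subgroupOf
  set A' := (A.subgroupOf H).map q
  have hinj : Set.InjOn q (A.subgroupOf H : Set H) := by
    intro a ha b hb e
    by_contra hne
    refine hcn ((a : G) * (b : G)⁻¹) (mul_mem ha (inv_mem hb)) ?_ ((hq1 (a * b⁻¹)).1 ?_)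
    · exact fun h => hne (Subtype.ext (mul_inv_eq_one.1 h))
    · rw [map_mul, map_inv, e, mul_inv_cancel]
  have hA'card : Nat.card A' = Nat.card A := by
    rw [← Nat.card_congr (subgroupOfEquivOfLe hAH).toEquiv]
    exact Nat.card_image_of_injOn hinj
  have hA' : Cfsg.IsElementaryAbelian p A' := by
    refine ⟨⟨⟨?_⟩⟩, ?_⟩
    · rintro ⟨_, a, ha, rfl⟩ ⟨_, b, hb, rfl⟩
      refine Subtype.ext ?_
      show q a * q b = q b * q a
      rw [← map_mul, ← map_mul]
      exact congrArg q (Subtype.ext (hAc a ha b hb))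
    · rintro _ ⟨a, ha, rfl⟩
      rw [← map_pow, show a ^ p = 1 from Subtype.ext (by simpa using hA.2 a ha), map_one]
  have hloc' := hloc H (le_sup_of_le_left le_sup_right) hHN A' hA' hA'card
  have hle : (D.subgroupOf H).map q ≤ Cfsg.signalizerDelta p A' := by
    refine le_iInf ?_
    rintro ⟨y, ⟨⟨a, haH⟩, ha, rfl⟩, ha1⟩
    have haA : a ∈ A := ha
    have ha1' : a ≠ 1 := fun e => ha1 (by subst e; exact map_one q)
    set B := Cfsg.centralizerPPrimeCore p a with hB
    have hRp := hAp a haA
    have hBe : B = coreIn p (centralizer ((zpowers a : Subgroup G) : Set G)) :=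
      centralizerPPrimeCore_eq a
    obtain ⟨hBcop, hBC, hBO, hBU, hVB⟩ := coreCentralizer_data hRp B hBe
    have haB : ∀ b ∈ B, a * b = b * a := fun b hb =>
      mem_centralizer_iff.1 (coreIn_le p (centralizer ({a} : Set G)) hb) a (Set.mem_singleton a)
    refine le_trans (b := ((B ⊓ H).subgroupOf H).map q)
      (map_mono (comap_mono (le_inf (hDB a haA ha1') hDH))) ?_
    refine le_coreIn ?_ ?_ ?_
    · rintro _ ⟨b, hb, rfl⟩
      refine mem_centralizer_iff.2 fun y hy => ?_
      rw [Set.mem_singleton_iff.1 hy]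
      show q _ * q b = q b * q _
      rw [← map_mul, ← map_mul]
      exact congrArg q (Subtype.ext (haB _ (mem_subgroupOf.1 hb).1))
    · intro z hz
      obtain ⟨h, rfl⟩ := QuotientGroup.mk'_surjective _ z
      -- decompose `h` as `c k r`
      obtain ⟨n, hn, r, hr, hnr⟩ := mem_sup_exists (N := C ⊔ K) (H := A ⊔ D)
        (Coprime.sup_le_normalizer
          ((sup_le hAN hDN).trans (normalizer_le_normalizer_centralizer K)) (sup_le hAN hDN)) h.2
      obtain ⟨c, hc, k, hk, hck⟩ := mem_sup_exists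
        (le_normalizer.trans (normalizer_le_normalizer_centralizer K)) hn
      have hkH : k ∈ H := mem_sup_left (mem_sup_right hk)
      have hrH : r ∈ H := mem_sup_right hr
      have hcH : c ∈ H := hCH hc
      have hqh : q h = q ⟨k, hkH⟩ * q ⟨r, hrH⟩ := by
        rw [show h = ⟨c, hcH⟩ * ⟨k, hkH⟩ * ⟨r, hrH⟩ from Subtype.ext (by
          show (h : G) = c * k * r
          rw [hck, hnr]), map_mul, map_mul, (hq1 ⟨c, hcH⟩).2 hc, one_mul]
      have hADa : A ⊔ D ≤ centralizer ({a} : Set G) := sup_le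
        (fun b hb => mem_centralizer_iff.2 fun y hy => by
          rw [Set.mem_singleton_iff.1 hy]; exact hAc a haA b hb)
        ((hDB a haA ha1').trans (coreIn_le _ _))
      have hrB : r ∈ normalizer (B : Set G) :=
        normalizer_le_normalizer_coreIn p _ (le_normalizer (hADa hr))
      have hra : q ⟨r, hrH⟩ * q ⟨a, haH⟩ = q ⟨a, haH⟩ * q ⟨r, hrH⟩ := by
        rw [← map_mul, ← map_mul]
        exact congrArg q (Subtype.ext (mem_centralizer_iff.1 (hADa hr) a (Set.mem_singleton a)).symm)
      have hz' : q ⟨a, haH⟩ * q h = q h * q ⟨a, haH⟩ :=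
        mem_centralizer_iff.1 hz _ (Set.mem_singleton _)
      have hka : Commute (q ⟨a, haH⟩) (q ⟨k, hkH⟩) := by
        rw [hqh, mul_assoc (q ⟨k, hkH⟩), hra, ← mul_assoc, ← mul_assoc] at hz'
        exact mul_right_cancel hz'
      have hkU : k ∈ relCent (zpowers a) := by
        refine mem_relCent_iff.2 ⟨component_le_layer hK hk, fun s hs => ?_⟩
        obtain ⟨i, rfl⟩ := mem_zpowers_iff.1 hs
        refine inf_centralizer_le_centralizer_layer hK (Subgroup.mem_inf.2
          ⟨mul_mem ((Subgroup.mem_normalizer_iff.1 (zpow_mem (hAN haA) i) k).1 hk) (inv_mem hk), ?_⟩)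
        refine (hq1 ((⟨a, haH⟩ : H) ^ i * ⟨k, hkH⟩ * ((⟨a, haH⟩ : H) ^ i)⁻¹ *
          (⟨k, hkH⟩ : H)⁻¹)).1 ?_
        rw [map_mul, map_mul, map_mul, map_inv, map_inv, map_zpow, (hka.zpow_left i).eq,
          mul_inv_cancel_right, mul_inv_cancel]
      have hkB : k ∈ normalizer (B : Set G) := by
        have hconj : ∀ k ∈ relCent (zpowers a), ∀ b ∈ B, k * b * k⁻¹ ∈ B := by
          intro k hk b hb
          have h1 := hVB (commutator_relCent_le hO hRp (Or.inr hBcop) hBC hBO hBU
            (commutator_mem_commutator hk hb))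
          rw [commutatorElement_def] at h1
          have := mul_mem h1 hb
          rwa [inv_mul_cancel_right] at this
        refine Subgroup.mem_normalizer_iff.2 fun b => ⟨hconj k hkU b, fun hb => ?_⟩
        have := hconj _ (inv_mem hkU) _ hb
        rwa [show k⁻¹ * (k * b * k⁻¹) * k⁻¹⁻¹ = b by group] at this
      have hkr : (⟨k, hkH⟩ * ⟨r, hrH⟩ : H) ∈ normalizer (((B ⊓ H).subgroupOf H : Subgroup H) : Set H) := by
        refine Subgroup.mem_normalizer_iff.2 fun b => ?_
        simp only [mem_subgroupOf, Subgroup.mem_inf]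
        have := Subgroup.mem_normalizer_iff.1 (mul_mem hkB hrB) (b : G)
        exact ⟨fun hb => ⟨this.1 hb.1, SetLike.coe_mem _⟩, fun hb => ⟨this.2 hb.1, b.2⟩⟩
      rw [hqh, ← map_mul]
      exact le_normalizer_map q (mem_map_of_mem q hkr)
    · refine Nat.Coprime.coprime_dvd_left (card_map_dvd _ q) ?_
      rw [Nat.card_congr (subgroupOfEquivOfLe inf_le_right).toEquiv]
      exact hBcop.coprime_dvd_left (card_dvd_of_le inf_le_left)
  rw [hloc', le_bot_iff, Subgroup.map_eq_bot_iff, QuotientGroup.ker_mk'] at hle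
  intro d hd
  exact mem_subgroupOf.1 (hle (mem_subgroupOf.2 hd : (⟨d, hDH hd⟩ : H) ∈ _))

/-- `Δ(A) = 1` when all components are locally balanced. -/
theorem signalizerDelta_eq_bot (hO : Cfsg.pPrimeCore p G = ⊥) {A : Subgroup G}
    (hA : Cfsg.IsElementaryAbelian p A) (hA1 : A ≠ ⊥)
    (hloc : ∀ K : Subgroup G, Cfsg.IsComponent K →
      ∀ (H : Subgroup G), K ≤ H → H ≤ normalizer (K : Set G) →
      ∀ [((centralizer (K : Set G)).subgroupOf H).Normal],
      ∀ A' : Subgroup (H ⧸ (centralizer (K : Set G)).subgroupOf H),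
        Cfsg.IsElementaryAbelian p A' → Nat.card A' = Nat.card A → Cfsg.signalizerDelta p A' = ⊥) :
    Cfsg.signalizerDelta p A = ⊥ := by
  obtain ⟨a, ha, ha1⟩ : ∃ a ∈ A, a ≠ 1 := by
    by_contra h
    push Not at h
    exact hA1 ((eq_bot_iff_forall _).2 h)
  set D := Cfsg.signalizerDelta p A
  have hDB : D ≤ coreIn p (centralizer ((zpowers a : Subgroup G) : Set G)) := by
    rw [← centralizerPPrimeCore_eq]
    exact iInf_le (fun a : {a : G // a ∈ A ∧ a ≠ 1} => Cfsg.centralizerPPrimeCore p (a : G))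
      ⟨a, ha, ha1⟩
  obtain ⟨hcop, -, hBO, -, -⟩ := coreCentralizer_data
    (isPGroup_zpowers (p := p) (k := 1) (x := a) (by rw [pow_one]; exact hA.2 a ha)) _ rfl
  have hE : D ≤ centralizer (Cfsg.layer G : Set G) := by
    rw [le_centralizer_iff]
    refine sSup_le fun K hK => le_centralizer_iff.1 ?_
    exact signalizerDelta_le_centralizer_component hO hA hA1 hK (hloc K hK)
  have hF : D ≤ centralizer (Cfsg.generalizedFittingSubgroup G : Set G) := by
    rw [le_centralizer_iff, Cfsg.generalizedFittingSubgroup,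
      fitting_eq_pCore_of_pPrimeCore_eq_bot hO]
    exact sup_le (le_centralizer_iff.1 hE) (le_centralizer_iff.1 (hDB.trans hBO))
  have h1 : D ≤ Cfsg.pCore p G := by
    rw [← fitting_eq_pCore_of_pPrimeCore_eq_bot hO, ← generalizedFitting_inf_centralizer_layer]
    exact le_inf (hF.trans centralizer_generalizedFitting_le) hE
  rw [eq_bot_iff, ← pPrime_inf_pGroup_eq_bot hcop (pCore_isPGroup p)]
  exact le_inf hDB h1

end CfsgLib.Coprime
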