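import Cfsg.Agent.Lib.Coprime.LBalance.Inner
import Cfsg.Agent.Lib.Invol.QuasiDihedralMaximal

/-!
# L-balance

`L_{p'}(N_X(R)) ≤ L_{p'}(X)` for a `p`-subgroup `R`: under the Schreier hypothesis for every prime,
and unconditionally for `p = 2` (Gorenstein–Walter, via Glauberman's Z*-theorem).
-/

set_option autoImplicit false
set_option linter.style.haveILetI false
set_option linter.unusedSectionVars false

namespace CfsgLib.Coprime

open Subgroup
open scoped commutatorElement

variable {G : Type*} [Group G] [Finite G] {p : ℕ} [hp : Fact p.Prime]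

/-- The `p`-layer of a subgroup subnormal in `B` lies in the `p`-layer of `B`. -/
theorem pLayer_map_le_of_subgroupOf {A B : Subgroup G} (hAB : A ≤ B)
    (h : (A.subgroupOf B).IsSubnormal) :
    (Cfsg.pLayer p A).map A.subtype ≤ (Cfsg.pLayer p B).map B.subtype := by
  rw [← map_pLayer_equiv (subgroupOfEquivOfLe hAB), Subgroup.map_map,
    show A.subtype.comp (subgroupOfEquivOfLe hAB).toMonoidHom =
      B.subtype.comp (A.subgroupOf B).subtype from MonoidHom.ext fun _ => rfl, ← Subgroup.map_map]
  exact map_mono (pLayer_map_subtype_le h)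

theorem pLayer_centralizer_le_normalizer (R : Subgroup G) :
    (Cfsg.pLayer p (centralizer (R : Set G))).map (centralizer (R : Set G)).subtype ≤
      (Cfsg.pLayer p (normalizer (R : Set G))).map (normalizer (R : Set G)).subtype :=
  pLayer_map_le_of_subgroupOf (centralizer_le_normalizer _) (Normal.isSubnormal
    ((normal_subgroupOf_iff_le_normalizer (centralizer_le_normalizer _)).2
      (normalizer_le_normalizer_centralizer R)))

/-- A perfect subgroup which is, modulo a `p'`-group normal in `N`, the `p`-component `J` of `N`,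
centralizes the normal `p`-subgroups of `N`. -/
theorem pComponent_commutes_pGroup {N : Type*} [Group N] [Finite N] {J A : Subgroup N} [A.Normal]
    (hJ : Cfsg.IsPComponent p J) (hA : IsPGroup p A) : ⁅A, J⁆ = ⊥ := by
  have h1 : ⁅A, J⁆ ≤ Cfsg.pPrimeCore p N := by
    rw [← QuotientGroup.ker_mk' (Cfsg.pPrimeCore p N), ← Subgroup.map_eq_bot_iff, map_commutator,
      commutator_comm]
    haveI : (A.map (QuotientGroup.mk' (Cfsg.pPrimeCore p N))).Normal :=
      Normal.map inferInstance _ (QuotientGroup.mk'_surjective _)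
    haveI : Group.IsNilpotent (A.map (QuotientGroup.mk' (Cfsg.pPrimeCore p N))) :=
      (hA.map _).isNilpotent
    exact component_commutator_solvable_eq_bot hJ.2.1 inferInstance
      (by rw [Subgroup.normalizer_eq_top]; exact le_top)
  rw [eq_bot_iff, ← pPrime_inf_pGroup_eq_bot (pPrimeCore_coprime (G := N) hp.out) hA]
  exact le_inf h1 (commutator_le_left A J)

/-- The properties of a `p`-component of `N(R)` in a group with trivial `p'`-core, and the
dichotomy: it lies in `E(X)` or centralizes `C_E(R)` modulo its `p'`-core. -/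
theorem pComponent_normalizer_data {R : Subgroup G}
    (hR : IsPGroup p R) {J₀ : Subgroup ↥(normalizer (R : Set G))} (hJ₀ : Cfsg.IsPComponent p J₀) :
    ∀ J : Subgroup G, J = J₀.map (normalizer (R : Set G)).subtype →
    ⁅J, J⁆ = J ∧ pClosure p J = J ∧ J ≤ centralizer (R : Set G) ∧
      J ≤ centralizer (Cfsg.pCore p G : Set G) ∧
      (J ≤ Cfsg.layer G ∨ ⁅Cfsg.layer G ⊓ centralizer (R : Set G), J⁆ ≤
        coreIn p (Cfsg.layer G ⊓ centralizer (R : Set G))) := by
  intro J hJ
  haveI := pCore_normal' (G := G) p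
  haveI := layer_normal (G := G)
  have hperf : ⁅J, J⁆ = J := by rw [hJ, ← map_commutator, commutator_self_pComponent hJ₀]
  have hcomm : ∀ A : Subgroup G, A ≤ (normalizer (R : Set G)) → IsPGroup p A → (normalizer (R : Set G)) ≤ normalizer (A : Set G) →
      J ≤ centralizer (A : Set G) := by
    intro A hAN hA hn
    haveI : (A.subgroupOf (normalizer (R : Set G))).Normal := (normal_subgroupOf_iff_le_normalizer hAN).2 hn
    have h := congrArg (Subgroup.map (normalizer (R : Set G)).subtype)
      (pComponent_commutes_pGroup hJ₀ (A := A.subgroupOf (normalizer (R : Set G))) hA.comap_subtype)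
    rw [map_commutator, Subgroup.map_bot, map_subgroupOf_eq_of_le hAN, ← hJ, commutator_comm,
      commutator_eq_bot_iff_le_centralizer] at h
    exact h
  have hJR : J ≤ centralizer (R : Set G) := hcomm R le_normalizer hR le_rfl
  have hJO : J ≤ centralizer (Cfsg.pCore p G : Set G) := by
    refine perfect_le_centralizer_of_fixed hR (pCore_isPGroup p) hperf
      (by rw [Subgroup.normalizer_eq_top (Cfsg.pCore p G)]; exact le_top)
      (by rw [Subgroup.normalizer_eq_top (Cfsg.pCore p G)]; exact le_top) (le_centralizer_iff.1 hJR) ?_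
    refine le_centralizer_iff.1 (hcomm _ (inf_le_right.trans (centralizer_le_normalizer _))
      ((pCore_isPGroup p).to_le inf_le_left) (inf_le_normalizer
        (by rw [Subgroup.normalizer_eq_top (Cfsg.pCore p G)]; exact le_top) (normalizer_le_normalizer_centralizer R)))
  refine ⟨hperf, by rw [hJ, ← map_pClosure, pClosure_pComponent hJ₀], hJR, hJO, ?_⟩
  set U := Cfsg.layer G ⊓ centralizer (R : Set G)
  have hUN : U ≤ (normalizer (R : Set G)) := inf_le_right.trans (centralizer_le_normalizer _)
  set U₀ := U.subgroupOf (normalizer (R : Set G))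
  haveI : U₀.Normal := (normal_subgroupOf_iff_le_normalizer hUN).2
    (inf_le_normalizer (by rw [Subgroup.normalizer_eq_top (Cfsg.layer G)]; exact le_top)
      (normalizer_le_normalizer_centralizer R))
  rcases component_le_or_commutator_eq_bot hJ₀.2.1
    ((Normal.isSubnormal (inferInstance : U₀.Normal)).map
      (QuotientGroup.mk'_surjective (Cfsg.pPrimeCore p ↥(normalizer (R : Set G))))) with h | h
  · left
    have h1 : J₀ ≤ U₀ := by
      rw [eq_pComponentOver hJ₀]
      refine le_trans (pClosure_mono (comap_mono h)) ?_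
      refine pClosure_le_of_isSubnormal (Normal.isSubnormal inferInstance) fun hd =>
        pPrimeCore_not_dvd (G := ↥(normalizer (R : Set G))) hp.out (hd.trans ?_)
      rw [comap_map_eq, QuotientGroup.ker_mk']
      exact relIndex_sup_dvd_card _ _
    rw [hJ]
    exact (map_mono h1).trans (by rw [map_subgroupOf_eq_of_le hUN]; exact inf_le_left)
  · right
    have h1 : ⁅U₀, J₀⁆ ≤ Cfsg.pPrimeCore p ↥(normalizer (R : Set G)) ⊓ U₀ := by
      refine le_inf ?_ (commutator_le_left U₀ J₀)
      rw [← QuotientGroup.ker_mk' (Cfsg.pPrimeCore p ↥(normalizer (R : Set G))), ← Subgroup.map_eq_bot_iff, map_commutator,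
        commutator_comm]
      exact h
    rw [← map_pPrimeCore_of_isSubnormal (Normal.isSubnormal inferInstance)] at h1
    have h2 := map_mono (f := (normalizer (R : Set G)).subtype) h1
    rw [map_commutator, map_subgroupOf_eq_of_le hUN, ← hJ] at h2
    refine h2.trans (le_of_eq ?_)
    rw [coreIn, ← map_pPrimeCore_equiv (subgroupOfEquivOfLe hUN), Subgroup.map_map,
      Subgroup.map_map]
    rfl

/-- L-balance for a group with trivial `p'`-core, given inner action on components. -/
theorem pLayer_normalizer_le_layer (hO : Cfsg.pPrimeCore p G = ⊥) {R : Subgroup G}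
    (hR : IsPGroup p R)
    (hinner : ∀ J : Subgroup G, ⁅J, J⁆ = J → pClosure p J = J → J ≤ centralizer (R : Set G) →
      J ≤ centralizer (Cfsg.pCore p G : Set G) →
      ⁅Cfsg.layer G ⊓ centralizer (R : Set G), J⁆ ≤
        coreIn p (Cfsg.layer G ⊓ centralizer (R : Set G)) →
      ∀ K : Subgroup G, Cfsg.IsComponent K → J ≤ K ⊔ centralizer (K : Set G)) :
    (Cfsg.pLayer p (normalizer (R : Set G))).map (normalizer (R : Set G)).subtype ≤
      Cfsg.layer G := by
  refine map_le_iff_le_comap.2 (sSup_le fun J₀ hJ₀ => map_le_iff_le_comap.1 ?_)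
  obtain ⟨h1, h2, h3, h4, h5⟩ := pComponent_normalizer_data hR hJ₀ _ rfl
  rcases h5 with h5 | h5
  · exact h5
  · exact le_layer_of_inner hO hR (Or.inl h1) h3 h4 h5 h1 (hinner _ h1 h2 h3 h4 h5)

/-- Reduction of L-balance to `X / O_{p'}(X)`. -/
theorem pLayer_normalizer_le_of_quotient {R : Subgroup G} (hR : IsPGroup p R)
    (h : (Cfsg.pLayer p ↥(normalizer
        ((R.map (QuotientGroup.mk' (Cfsg.pPrimeCore p G)) : Subgroup _) : Set (G ⧸ Cfsg.pPrimeCore p G)))).map
        (normalizer ((R.map (QuotientGroup.mk' (Cfsg.pPrimeCore p G)) : Subgroup _) : Set (G ⧸ Cfsg.pPrimeCore p G))).subtype ≤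
      Cfsg.layer (G ⧸ Cfsg.pPrimeCore p G)) :
    (Cfsg.pLayer p (normalizer (R : Set G))).map (normalizer (R : Set G)).subtype ≤
      Cfsg.pLayer p G := by
  set q := QuotientGroup.mk' (Cfsg.pPrimeCore p G) with hq
  set N := normalizer (R : Set G)
  set N' := normalizer ((R.map q : Subgroup _) : Set (G ⧸ Cfsg.pPrimeCore p G))
  let f : N →* N' := (q.comp N.subtype).codRestrict N'
    fun x => le_normalizer_map q (mem_map_of_mem q x.2)
  have hfs : Function.Surjective f := by
    intro y
    obtain ⟨g, hg⟩ := QuotientGroup.mk'_surjective (Cfsg.pPrimeCore p G) (y : G ⧸ Cfsg.pPrimeCore p G)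
    obtain ⟨o, ho, hn⟩ := exists_mem_normalizer_lift (pPrimeCore_not_dvd hp.out) hR (g := g)
      (hg ▸ y.2)
    refine ⟨⟨o * g, hn⟩, Subtype.ext ?_⟩
    show q (o * g) = _
    rw [map_mul, hg, show q o = 1 from (QuotientGroup.eq_one_iff o).2 ho, one_mul]
  have hker : ¬ p ∣ Nat.card f.ker := by
    rw [← card_map_of_injective N.subtype_injective]
    refine fun h => pPrimeCore_not_dvd (G := G) hp.out (h.trans (card_dvd_of_le ?_))
    rintro _ ⟨x, hx, rfl⟩
    exact (QuotientGroup.eq_one_iff (x : G)).1 (congrArg Subtype.val (MonoidHom.mem_ker.1 hx))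
  have h1 : ((Cfsg.pLayer p N).map N.subtype).map q ≤ Cfsg.layer (G ⧸ Cfsg.pPrimeCore p G) := by
    rw [Subgroup.map_map, show q.comp N.subtype = N'.subtype.comp f from MonoidHom.ext fun _ => rfl,
      ← Subgroup.map_map, map_pLayer_of_ker hfs hker]
    exact h
  rw [← pClosure_pLayer (G := N), map_pClosure, pLayer_eq_pClosure (G := G)]
  exact pClosure_mono (map_le_iff_le_comap.1 h1)

/-- L-balance under the Schreier hypothesis. -/
theorem lBalance_of_solvable_out
    (hS : ∀ K : Subgroup (G ⧸ Cfsg.pPrimeCore p G), Cfsg.IsComponent K →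
      Group.IsSolvable (Cfsg.Out (↥K ⧸ center ↥K)))
    {R : Subgroup G} (hR : IsPGroup p R) :
    (Cfsg.pLayer p (normalizer (R : Set G))).map (normalizer (R : Set G)).subtype ≤
      Cfsg.pLayer p G := by
  refine pLayer_normalizer_le_of_quotient hR ?_
  have hO := pPrimeCore_quotient_eq_bot (G := G) hp.out
  refine pLayer_normalizer_le_layer hO (hR.map _) fun J h1 _ h3 h4 h5 K hK => ?_
  exact le_sup_centralizer_of_solvable_out hK.2 (hS K hK) h1
    (le_normalizer_of_component hO (hR.map _) (Or.inl h1) h3 h4 h5 hK)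

/-- L-balance for the prime 2 (no Schreier hypothesis). -/
theorem lBalance_two {X : Type*} [Group X] [Finite X] [Fact (Nat.Prime 2)] :
    ∀ T : Subgroup X, IsPGroup 2 T →
      (Cfsg.pLayer 2 (centralizer (T : Set X))).map (centralizer (T : Set X)).subtype ≤
        Cfsg.pLayer 2 X := by
  intro T
  induction hn : Nat.card T using Nat.strongRecOn generalizing T with
  | ind n ih =>
    subst hn
    intro hT
    rcases eq_or_ne T ⊥ with rfl | hne
    · exact pLayer_map_subtype_le (Normal.isSubnormal inferInstance)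
    haveI : Nontrivial T := (nontrivial_iff_ne_bot T).2 hne
    obtain ⟨M, hM, -⟩ := (eq_top_or_exists_le_coatom (⊥ : Subgroup T)).resolve_left bot_ne_top
    have hidx := CfsgLib.Invol.index_coatom_two hT hM
    set T₀ := M.map T.subtype with hT₀
    obtain ⟨t, htM⟩ : ∃ t : T, t ∉ M := by
      by_contra h
      push Not at h
      exact hM.1 ((eq_top_iff' M).2 h)
    have hT₀T : T₀ ≤ T := map_subtype_le _
    have hlt : Nat.card T₀ < Nat.card T := by
      rw [hT₀, card_map_of_injective T.subtype_injective, ← card_mul_index M, hidx]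
      have := Nat.card_pos (α := M)
      omega
    have hIH := ih _ hlt T₀ rfl (hT.to_le hT₀T)
    haveI : M.Normal := normal_of_index_eq_two hidx
    have hTn : T ≤ normalizer (T₀ : Set X) := by
      rw [hT₀]
      intro g hg
      refine le_normalizer_map T.subtype ⟨⟨g, hg⟩, ?_, rfl⟩
      rw [normalizer_eq_top M]; exact mem_top _
    set C₀ := centralizer (T₀ : Set X)
    set C := centralizer (T : Set X)
    set Y := C₀ ⊔ T
    have hCC₀ : C ≤ C₀ := centralizer_le hT₀T
    have hTC₀ : T ≤ normalizer (C₀ : Set X) := hTn.trans (normalizer_le_normalizer_centralizer T₀)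
    haveI hC₀n : (C₀.subgroupOf Y).Normal := (normal_subgroupOf_iff_le_normalizer le_sup_left).2
      (sup_le le_normalizer hTC₀)
    set TY := T.subgroupOf Y
    have hTYp : IsPGroup 2 TY := hT.comap_subtype
    have hT₀Y : T₀ ≤ Y := hT₀T.trans le_sup_right
    haveI : (T₀.subgroupOf Y).Normal := (normal_subgroupOf_iff_le_normalizer hT₀Y).2
      (sup_le (centralizer_le_normalizer _) hTn)
    -- the single step, in `Y`
    have hstep : (Cfsg.pLayer 2 ↥(normalizer (TY : Set Y))).map (normalizer (TY : Set Y)).subtype ≤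
        Cfsg.pLayer 2 Y := by
      refine pLayer_normalizer_le_of_quotient hTYp ?_
      have hO := pPrimeCore_quotient_eq_bot (G := Y) (Fact.out : (Nat.Prime 2))
      set π := QuotientGroup.mk' (Cfsg.pPrimeCore 2 Y)
      haveI : ((T₀.subgroupOf Y).map π).Normal :=
        Normal.map inferInstance _ (QuotientGroup.mk'_surjective _)
      have hE : ∀ m ∈ M, π ⟨((m : T) : X), le_sup_right (a := C₀) m.2⟩ ∈
          centralizer (Cfsg.layer (Y ⧸ Cfsg.pPrimeCore 2 Y) : Set _) := by
        intro m hm
        have hmem : π ⟨((m : T) : X), le_sup_right (a := C₀) m.2⟩ ∈ (T₀.subgroupOf Y).map π :=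
          mem_map_of_mem π (mem_subgroupOf.2 ⟨m, hm, rfl⟩)
        have hp0 : IsPGroup 2 ((T₀.subgroupOf Y).map π) :=
          ((hT.to_le hT₀T).comap_subtype).map π
        have hle : Cfsg.layer (Y ⧸ Cfsg.pPrimeCore 2 Y) ≤
            centralizer ((Cfsg.pCore 2 (Y ⧸ Cfsg.pPrimeCore 2 Y) : Subgroup _) : Set _) :=
          sSup_le fun K hK => le_centralizer_pCore_of_isComponent hK
        exact le_centralizer_iff.1 hle (le_pCore hp0 hmem)
      refine pLayer_normalizer_le_layer hO (hTYp.map π) fun J h1 h2 h3 h4 h5 K hK => ?_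
      refine le_sup_centralizer_two hO (hTYp.map π) h1 h2 h3 h4 h5
        (t := π ⟨(t : X), le_sup_right (a := C₀) t.2⟩)
        (mem_map_of_mem π (mem_subgroupOf.2 t.2)) ?_ ?_ hK
      · rw [← map_mul]
        exact hE (t * t) (mul_self_mem_of_index_two hidx t)
      · rintro _ ⟨⟨s, hsY⟩, hs, rfl⟩
        by_cases hsM : (⟨s, mem_subgroupOf.1 hs⟩ : T) ∈ M
        · exact Or.inl (hE _ hsM)
        · refine Or.inr ?_
          rw [← map_inv, ← map_mul]
          exact hE (t⁻¹ * ⟨s, mem_subgroupOf.1 hs⟩)
            ((mul_mem_iff_of_index_two hidx).2 (by simp [htM, hsM]))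
    -- `L(Y) = L(C(T₀))`
    have hLY : (Cfsg.pLayer 2 Y).map Y.subtype ≤ (Cfsg.pLayer 2 C₀).map C₀.subtype := by
      have hq : Group.IsSolvable (Y ⧸ C₀.subgroupOf Y) := by
        haveI : Group.IsNilpotent (Y ⧸ C₀.subgroupOf Y) := by
          refine IsPGroup.isNilpotent (p := 2) ?_
          obtain ⟨k, hk⟩ := IsPGroup.iff_card.1 hT
          have hd : (C₀.subgroupOf Y).index ∣ 2 ^ k := by
            rw [← hk]
            show C₀.relIndex (C₀ ⊔ T) ∣ Nat.card T
            refine Nat.dvd_of_mul_dvd_mul_left (Nat.card_pos (α := C₀)) ?_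
            rw [Subgroup.relIndex,
              ← Nat.card_congr (subgroupOfEquivOfLe (le_sup_left : C₀ ≤ C₀ ⊔ T)).toEquiv,
              card_mul_index, Nat.card_congr (subgroupOfEquivOfLe (le_sup_left : C₀ ≤ C₀ ⊔ T)).toEquiv,
              mul_comm, sup_comm]
            exact card_sup_dvd_of_le_normalizer hTC₀
          obtain ⟨j, _, hj⟩ := (Nat.dvd_prime_pow Nat.prime_two).1 hd
          exact IsPGroup.of_card (n := j) (by rw [← index_eq_card]; exact hj)
        infer_instance
      have h := pLayer_le_of_isSolvable_quotient (G := Y) (p := 2) hq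
      rw [← pLayer_map_subtype_eq (Normal.isSubnormal hC₀n) h, Subgroup.map_map,
        ← map_pLayer_equiv (subgroupOfEquivOfLe (le_sup_left : C₀ ≤ Y)).symm, Subgroup.map_map]
      exact le_of_eq rfl
    refine le_trans ?_ ((map_mono (f := Y.subtype) hstep).trans (le_refl _) |>.trans (hLY.trans hIH))
    have hCY : C ≤ Y := hCC₀.trans le_sup_left
    have e : C.subgroupOf Y = centralizer (TY : Set Y) := by
      ext y
      rw [mem_subgroupOf, mem_centralizer_iff, mem_centralizer_iff]
      exact ⟨fun h s hs => Subtype.ext (h s (mem_subgroupOf.1 hs)),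
        fun h s hs => congrArg Subtype.val (h ⟨s, le_sup_right (a := C₀) hs⟩ (mem_subgroupOf.2 hs))⟩
    calc (Cfsg.pLayer 2 C).map C.subtype
        = ((Cfsg.pLayer 2 ↥(centralizer (TY : Set Y))).map (centralizer (TY : Set Y)).subtype).map
            Y.subtype := by
          rw [← map_pLayer_equiv ((subgroupOfEquivOfLe hCY).symm.trans (MulEquiv.subgroupCongr e)),
            Subgroup.map_map, Subgroup.map_map]
          rfl
      _ ≤ _ := map_mono (pLayer_centralizer_le_normalizer TY)

end CfsgLib.Coprime
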