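import Cfsg.Prelude.Def_Balance
import Cfsg.Agent.Lib.Coprime.LBalance.Main
import Cfsg.Agent.Lib.Coprime.LBalance.Cores
import Cfsg.Agent.Lib.Coprime.ExtendedTwoLayer
import Cfsg.Agent.S0227

/-!
# Core balance for the prime 2

`O(C(R)) ≤ L*(X)` for a 2-subgroup `R`, for every finite group `X`. The odd-order elements of
`O(C(R))` are moved by `F*` into the centraliser of a Sylow 2-subgroup of `F*`, whose odd-order
elements form its core by Glauberman's theorem on automorphisms centralising a Sylow 2-subgroup.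
-/

set_option autoImplicit false
set_option linter.style.haveILetI false
set_option linter.unusedSectionVars false

namespace CfsgLib.Coprime.CoreBalance

open Subgroup CfsgLib.Coprime
open scoped commutatorElement

universe u

variable {G : Type u} [Group G] [Finite G] [hp : Fact (Nat.Prime 2)]

/-- An element of odd order with a 2-power in `U` lies in `U`. -/
theorem mem_of_pow_two {U : Subgroup G} {d : G} (hd : (orderOf d).Coprime 2) {m : ℕ}
    (h : d ^ 2 ^ m ∈ U) : d ∈ U := by
  obtain ⟨i, hi⟩ := exists_pow_eq_self_of_coprime (x := d) (n := 2 ^ m) (hd.pow_right m).symm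
  rw [← hi]
  exact pow_mem h i

theorem orderOf_coprime {D : Subgroup G} (hD : (Nat.card D).Coprime 2) {d : G} (hd : d ∈ D) :
    (orderOf d).Coprime 2 := by
  refine hD.coprime_dvd_left ?_
  rw [← Subgroup.orderOf_mk d hd]
  exact orderOf_dvd_natCard _

/-- `(u f) ^ n ∈ U f ^ n`. -/
theorem mul_pow_mem {U : Subgroup G} {u f : G} (hu : u ∈ U) (hf : f ∈ normalizer (U : Set G))
    (n : ℕ) : (u * f) ^ n * (f ^ n)⁻¹ ∈ U := by
  induction n with
  | zero => simp
  | succ n ih =>
    rw [pow_succ, pow_succ,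
      show (u * f) ^ n * (u * f) * (f ^ n * f)⁻¹ =
        ((u * f) ^ n * (f ^ n)⁻¹) * (f ^ n * u * (f ^ n)⁻¹) by group]
    exact mul_mem ih ((Subgroup.mem_normalizer_iff.1 (pow_mem hf n) u).1 hu)

/-- Modulo a normal subgroup `A`, an odd-order subgroup of `O(C(R))` centralizes a Sylow
2-subgroup of `A`. -/
theorem exists_sylow_centralized {A D R : Subgroup G} [A.Normal] (hR : IsPGroup 2 R)
    (hD : (Nat.card D).Coprime 2) (hDR : D ≤ centralizer (R : Set G))
    (hDn : centralizer (R : Set G) ≤ normalizer (D : Set G)) :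
    ∃ T : Subgroup G, IsPGroup 2 T ∧ T ≤ A ∧ ¬ 2 ∣ T.relIndex A ∧
      ∀ d ∈ D, ∃ c ∈ centralizer (T : Set G), c * d⁻¹ ∈ A := by
  set q := QuotientGroup.mk' A with hq
  have hq1 : ∀ g : G, q g = 1 ↔ g ∈ A := fun g => QuotientGroup.eq_one_iff g
  have hAn : ∀ H : Subgroup G, H ≤ normalizer (A : Set G) := fun H => by
    rw [Subgroup.normalizer_eq_top A]; exact le_top
  set H := A ⊓ centralizer (R : Set G) with hH
  obtain ⟨S, -, hSH, hS, hSi⟩ := CfsgLib.Fusion.exists_le_not_dvd_relIndex (p := 2)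
    (IsPGroup.of_bot (p := 2) (G := G)) (bot_le : (⊥ : Subgroup G) ≤ H)
  set Good : Set (Subgroup G) := {Q | IsPGroup 2 Q ∧ R ≤ Q ∧ Q ≤ A ⊔ R ∧ CentricIn 2 A Q ∧
    ∀ d ∈ D, ∃ c ∈ centralizer (Q : Set G), c * d⁻¹ ∈ A}
  have hne : Good.Nonempty := by
    refine ⟨S ⊔ R, hS.to_sup_of_normal_right' hR ((hSH.trans inf_le_right).trans
      (centralizer_le_normalizer _)), le_sup_right,
      sup_le ((hSH.trans inf_le_left).trans le_sup_left) le_sup_right, fun w hw k hk => ?_, ?_⟩
    · exact mem_sup_left (mem_of_isPGroup_sup hS hSH hSi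
        ⟨hw.1, centralizer_le (show R ≤ S ⊔ R from le_sup_right) hw.2⟩
        hk (centralizer_le (show S ≤ S ⊔ R from le_sup_left) hw.2))
    · intro d hd
      have hV : (Nat.card ↥(A ⊓ D)).Coprime 2 := hD.coprime_dvd_left (card_dvd_of_le inf_le_right)
      obtain ⟨v, hv, hvd⟩ := exists_mul_mem_centralizer hV hS
        (inf_le_normalizer (hAn S) ((hSH.trans inf_le_right).trans hDn)) (j := d) (fun s hs => by
          refine Subgroup.mem_inf.2 ⟨?_, ?_⟩
          · exact mul_mem ((inferInstance : A.Normal).conj_mem s (hSH hs).1 d)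
              (inv_mem (hSH hs).1)
          · rw [show d * s * d⁻¹ * s⁻¹ = d * (s * d⁻¹ * s⁻¹) by group]
            exact mul_mem hd
              ((Subgroup.mem_normalizer_iff.1 (hDn (hSH hs).2) _).1 (inv_mem hd)))
      refine ⟨v * d, mem_centralizer_iff.2 fun x hx => ?_, by rw [mul_inv_cancel_right]; exact hv.1⟩
      have h : S ⊔ R ≤ centralizer ({v * d} : Set G) := by
        refine sup_le (fun s hs => ?_) (fun s hs => ?_) <;>
          refine mem_centralizer_iff.2 fun y hy => ?_ <;> rw [Set.mem_singleton_iff.1 hy]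
        · exact (mem_centralizer_iff.1 hvd s hs).symm
        · exact (mem_centralizer_iff.1 (mul_mem (hDR hv.2) (hDR hd)) s hs).symm
      exact (mem_centralizer_iff.1 (h hx) _ (Set.mem_singleton _)).symm
  obtain ⟨Q, ⟨hQp, hRQ, hQX, hQc, hQD⟩, hQmax⟩ := exists_maximal_of_wellFoundedGT (· ∈ Good) hne
  obtain ⟨T, hQT, hTX, hTp, hTi⟩ := CfsgLib.Fusion.exists_le_not_dvd_relIndex hQp hQX
  have hQeq : Q = T := by
    by_contra hne'
    obtain ⟨x, hx, hxQ⟩ := SetLike.exists_of_lt (lt_inf_normalizer hTp (lt_of_le_of_ne hQT hne'))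
    obtain ⟨y, hy, r, hr, rfl⟩ := mem_sup_exists (hAn R) (hTX hx.1)
    have hrQ : r ∈ Q := hRQ hr
    have hyT : y ∈ T := by
      have := mul_mem (show y * r ∈ T from hx.1) (inv_mem (hQT hrQ))
      rwa [mul_inv_cancel_right] at this
    have hyN : y ∈ normalizer (Q : Set G) := by
      have := mul_mem (show y * r ∈ normalizer (Q : Set G) from hx.2) (inv_mem (le_normalizer hrQ))
      rwa [mul_inv_cancel_right] at this
    have hyQ : y ∉ Q := fun h => hxQ (mul_mem h hrQ)
    set L := centralizer (Q : Set G) ⊓ (A ⊔ D) with hL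
    have hLQ : L ≤ centralizer (Q : Set G) := inf_le_left
    have hLA : ∀ w ∈ L, ∀ k : ℕ, w ^ 2 ^ k = 1 → w ∈ A := by
      intro w hw k hk
      obtain ⟨a, ha, d, hd, hwd⟩ := mem_sup_exists (hAn D) hw.2
      refine (hq1 w).1 ?_
      have hwq : q w = q d := by rw [← hwd, map_mul, (hq1 a).2 ha, one_mul]
      have ho : (orderOf (q w)).Coprime 2 :=
        (orderOf_coprime hD hd).coprime_dvd_left (hwq ▸ orderOf_map_dvd q d)
      have := mem_of_pow_two (G := G ⧸ A) (U := ⊥) ho (m := k)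
        (by rw [← map_pow, hk, map_one]; exact one_mem _)
      exact Subgroup.mem_bot.1 this
    set W := coreIn 2 L with hW
    have hyW : zpowers y ≤ normalizer (W : Set G) := by
      refine le_trans ?_ (normalizer_le_normalizer_coreIn _ _)
      exact inf_le_normalizer (zpowers_le.2 (normalizer_le_normalizer_centralizer Q hyN))
        ((zpowers_le.2 (mem_sup_left hy)).trans (le_normalizer (H := A ⊔ D)))
    obtain ⟨m, hm⟩ := hTp ⟨y, hyT⟩
    have hm' : y ^ 2 ^ m = 1 := by simpa using congrArg Subtype.val hm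
    have hV : (Nat.card ↥(A ⊓ W)).Coprime 2 :=
      (coprime_card_coreIn Nat.prime_two L).coprime_dvd_left (card_dvd_of_le inf_le_right)
    have hnew : Q ⊔ zpowers y ∈ Good := by
      refine ⟨hTp.to_le (sup_le hQT (zpowers_le.2 hyT)), le_sup_of_le_left hRQ,
        sup_le hQX (zpowers_le.2 (mem_sup_left hy)), fun w hw j hj => mem_sup_left
          (hQc w ⟨hw.1, centralizer_le (show Q ≤ Q ⊔ zpowers y from le_sup_left) hw.2⟩ j hj), ?_⟩
      intro d hd
      obtain ⟨c, hc, hcd⟩ := hQD d hd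
      have hcL : c ∈ L := ⟨hc, by
        have := mul_mem (mem_sup_left (T := D) hcd) (mem_sup_right (S := A) hd)
        rwa [inv_mul_cancel_right] at this⟩
      obtain ⟨z, hz, w, hw, hzw⟩ := exists_mul_core_of_central (p := 2) hLQ
        (fun w hw k hk => hQc w ⟨hLA w hw k hk, hLQ hw⟩ k hk) hcL
      have hzA : z ∈ A := by
        obtain ⟨k, hk⟩ := hQp ⟨z, hz.2⟩
        exact hLA z hz.1 k (by simpa using congrArg Subtype.val hk)
      obtain ⟨v, hv, hvw⟩ := exists_mul_mem_centralizer hV (isPGroup_zpowers hm')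
        (inf_le_normalizer (hAn _) hyW) (j := w) (fun s hs => by
          have hsA : s ∈ A := zpowers_le.2 hy hs
          refine Subgroup.mem_inf.2
            ⟨mul_mem ((inferInstance : A.Normal).conj_mem s hsA w) (inv_mem hsA), ?_⟩
          rw [show w * s * w⁻¹ * s⁻¹ = w * (s * w⁻¹ * s⁻¹) by group]
          exact mul_mem hw ((Subgroup.mem_normalizer_iff.1 (hyW hs) _).1 (inv_mem hw)))
      refine ⟨v * w, mem_centralizer_iff.2 fun x hx => ?_, ?_⟩
      · have hvwQ : v * w ∈ centralizer (Q : Set G) :=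
          hLQ (mul_mem (coreIn_le _ _ hv.2) (coreIn_le _ _ hw))
        have h : Q ⊔ zpowers y ≤ centralizer ({v * w} : Set G) := by
          refine sup_le (fun s hs => ?_) (fun s hs => ?_) <;>
            refine mem_centralizer_iff.2 fun t ht => ?_ <;> rw [Set.mem_singleton_iff.1 ht]
          · exact (mem_centralizer_iff.1 hvwQ s hs).symm
          · exact (mem_centralizer_iff.1 hvw s hs).symm
        exact (mem_centralizer_iff.1 (h hx) _ (Set.mem_singleton _)).symm
      · have e : q w = q d := by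
          have h1 : q c = q d := by rw [← mul_inv_eq_one, ← map_inv, ← map_mul, (hq1 _).2 hcd]
          rw [← h1, hzw, map_mul, (hq1 z).2 hzA, one_mul]
        refine (hq1 _).1 ?_
        rw [map_mul, map_mul, (hq1 v).2 hv.1, one_mul, map_inv, e, mul_inv_cancel]
    exact hyQ ((hQmax hnew le_sup_left) (mem_sup_right (mem_zpowers y)))
  subst hQeq
  refine ⟨Q ⊓ A, hQp.to_le inf_le_left, inf_le_right, fun h => hTi (h.trans (dvd_of_eq ?_)),
    fun d hd => ?_⟩
  · have e : A ⊔ R = A ⊔ Q := le_antisymm (sup_le le_sup_left (hRQ.trans le_sup_right))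
      (sup_le le_sup_left hQX)
    have h1 := relIndex_mul_relIndex (Q ⊓ A) A (A ⊔ R) inf_le_right le_sup_left
    have h2 := relIndex_mul_relIndex (Q ⊓ A) Q (A ⊔ R) inf_le_left hQX
    have h3 : A.relIndex (A ⊔ R) = (Q ⊓ A).relIndex Q := by
      rw [inf_relIndex_left, e, sup_comm, relIndex_sup_right]
    rw [h3, mul_comm] at h1
    exact Nat.eq_of_mul_eq_mul_left (Nat.pos_of_ne_zero (index_ne_zero_of_finite (H := (Q ⊓ A).subgroupOf Q))) (h1.trans h2.symm)
  · obtain ⟨c, hc, hcd⟩ := hQD d hd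
    exact ⟨c, centralizer_le (show Q ⊓ A ≤ Q from inf_le_left) hc, hcd⟩

/-- Glauberman: the odd-order part of the centralizer of a Sylow 2-subgroup of `F*` is its core. -/
theorem exists_pow_mem_core (hO : Cfsg.pPrimeCore 2 G = ⊥) {T : Subgroup G} (hT : IsPGroup 2 T)
    (hTA : T ≤ Cfsg.generalizedFittingSubgroup G)
    (hTi : ¬ 2 ∣ T.relIndex (Cfsg.generalizedFittingSubgroup G))
    {c : G} (hc : c ∈ centralizer (T : Set G)) :
    ∃ m : ℕ, c ^ 2 ^ m ∈ coreIn 2 (centralizer (T : Set G)) := by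
  set A := Cfsg.generalizedFittingSubgroup G with hA
  haveI : A.Normal := generalizedFitting_normal
  have hOA : ∀ N : Subgroup ↥A, N.Normal → Odd (Nat.card N) → N = ⊥ := by
    intro N hN ho
    have hsn : (N.map A.subtype).IsSubnormal :=
      (Normal.isSubnormal hN).trans' (Normal.isSubnormal inferInstance)
    have h := le_pPrimeCore_of_isSubnormal Nat.prime_two hsn (by
      rw [card_map_of_injective A.subtype_injective]; exact ho.coprime_two_right)
    rw [hO, le_bot_iff, map_eq_bot_iff_of_injective _ A.subtype_injective] at h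
    exact h
  set S : Sylow 2 ↥A := (hT.comap_subtype (K := A)).toSylow hTi with hS
  have hSmem : ∀ s : ↥A, s ∈ S ↔ (s : G) ∈ T := fun s => Iff.rfl
  let Cc : Subgroup (MulAut ↥A) :=
    { carrier := {φ | ∀ s : ↥A, s ∈ S → φ s = s}
      one_mem' := fun s _ => rfl
      mul_mem' := fun {φ ψ} hφ hψ s hs => by
        rw [MulAut.mul_apply, hψ s hs, hφ s hs]
      inv_mem' := fun {φ} hφ s hs => by
        conv_lhs => rw [← hφ s hs]
        exact φ.symm_apply_apply s }
  obtain ⟨T', hT'⟩ : ∃ T' : Sylow 2 ↥Cc, True := ⟨Classical.arbitrary _, trivial⟩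
  obtain ⟨-, N, hN, hNc⟩ := (Cfsg.Agent.S0227.result hOA S Cc (fun φ => Iff.rfl)).1 T'
  haveI := hN
  set C := centralizer (T : Set G) with hC
  obtain ⟨φ, hφ⟩ : ∃ φ : ↥C →* ↥Cc, ∀ (x : ↥C) (a : ↥A),
      (((φ x : MulAut ↥A) a : ↥A) : G) = (x : G) * a * (x : G)⁻¹ :=
    ⟨((MulAut.conjNormal (H := A)).comp C.subtype).codRestrict Cc (fun x s hs => Subtype.ext (by
      show (x : G) * s * (x : G)⁻¹ = s
      rw [← mem_centralizer_iff.1 x.2 _ ((hSmem s).1 hs), mul_inv_cancel_right])), fun x a => rfl⟩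
  set M := (N.comap φ).map C.subtype with hM
  have hMC : M ≤ C := map_subtype_le _
  have hCM : C ≤ normalizer (M : Set G) := by
    refine (normal_subgroupOf_iff_le_normalizer hMC).1 ?_
    rw [Subgroup.subgroupOf, hM, comap_map_eq_self_of_injective C.subtype_injective]
    exact Normal.comap hN φ
  -- `2`-elements of `M` lie in `T`
  have hM2 : ∀ w ∈ M, ∀ k : ℕ, w ^ 2 ^ k = 1 → w ∈ T := by
    rintro _ ⟨x, hx, rfl⟩ k hk
    have hx2 : φ x ^ 2 ^ k = 1 := by rw [← map_pow, show x ^ 2 ^ k = 1 from Subtype.ext (by simpa using hk), map_one]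
    have hodd : (Nat.card N).Coprime 2 := by
      rw [Nat.coprime_comm, Nat.prime_two.coprime_iff_not_dvd, ← hNc.index_eq_card]
      exact T'.not_dvd_index
    have hx1 : φ x = 1 := Subgroup.mem_bot.1 (mem_of_pow_two (U := (⊥ : Subgroup ↥Cc))
      (orderOf_coprime hodd hx) (m := k) (by rw [hx2]; exact one_mem _))
    have hxA : (x : G) ∈ centralizer (A : Set G) := mem_centralizer_iff.2 fun a ha => by
      have h := hφ x ⟨a, ha⟩
      rw [hx1] at h
      exact (mul_inv_eq_iff_eq_mul.1 h.symm).symm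
    exact mem_of_isPGroup_sup hT hTA hTi (centralizer_generalizedFitting_le hxA) hk x.2
  obtain ⟨m, hm⟩ : ∃ m : ℕ, Nat.card ↥(T' : Subgroup ↥Cc) = 2 ^ m := IsPGroup.iff_card.1 T'.2
  have hcM : c ^ 2 ^ m ∈ M := by
    refine ⟨(⟨c, hc⟩ : ↥C) ^ 2 ^ m, ?_, by simp⟩
    show φ _ ∈ N
    rw [map_pow, ← hm, ← hNc.symm.index_eq_card]
    exact N.pow_index_mem _
  obtain ⟨z, hz, d, hd, hzd⟩ := exists_mul_core_of_central (p := 2) (W := M)
    (Q := T) (hMC) hM2 hcM
  obtain ⟨k, hk⟩ := hT ⟨z, hz.2⟩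
  have hk' : z ^ 2 ^ k = 1 := by simpa using congrArg Subtype.val hk
  have hcomm : Commute z d := (mem_centralizer_iff.1 (hMC (coreIn_le _ _ hd)) z hz.2)
  refine ⟨m + k, ?_⟩
  rw [pow_add, pow_mul, hzd, hcomm.mul_pow, hk', one_mul]
  refine pow_mem ((le_coreIn ((coreIn_le _ _).trans hMC)
    (hCM.trans (normalizer_le_normalizer_coreIn _ _)) (coprime_card_coreIn Nat.prime_two M)) hd) _

/-- Core balance with trivial core. -/
theorem core_balance_reduced (hO : Cfsg.pPrimeCore 2 G = ⊥) {R : Subgroup G} (hR : IsPGroup 2 R)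
    {P : Subgroup G} (hP : IsPGroup 2 P) (hPA : P ≤ Cfsg.generalizedFittingSubgroup G)
    (hPi : ¬ 2 ∣ P.relIndex (Cfsg.generalizedFittingSubgroup G)) :
    coreIn 2 (centralizer (R : Set G)) ≤ Cfsg.layer G ⊔ coreIn 2 (centralizer (P : Set G)) := by
  set A := Cfsg.generalizedFittingSubgroup G with hA
  haveI : A.Normal := generalizedFitting_normal
  haveI := layer_normal (G := G)
  set D := coreIn 2 (centralizer (R : Set G)) with hD
  have hDo := coprime_card_coreIn Nat.prime_two (centralizer (R : Set G))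
  obtain ⟨T, hTp, hTA, hTi, hTD⟩ := exists_sylow_centralized (A := A) hR hDo (coreIn_le _ _)
    (le_normalizer.trans (normalizer_le_normalizer_coreIn _ _))
  obtain ⟨a, ha, haT⟩ := CfsgLib.Fusion.exists_conj_le_of_not_dvd_relIndex hP hPA hPi hTp hTA
  set E := Cfsg.layer G
  set W := coreIn 2 (centralizer (P : Set G)) with hW
  set F := Cfsg.pCore 2 G
  have hAE : A = E ⊔ F := by
    rw [hA, Cfsg.generalizedFittingSubgroup, fitting_eq_pCore_of_pPrimeCore_eq_bot hO, sup_comm]
  haveI := pCore_normal' (G := G) 2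
  have hFA : F ≤ A := hAE ▸ le_sup_right
  have hFP : F ≤ P := by
    intro f hf
    have h := CfsgLib.Fusion.eq_of_le_of_isPGroup_of_not_dvd_relIndex
      (hP.to_sup_of_normal_right' (pCore_isPGroup 2)
        (by rw [Subgroup.normalizer_eq_top F]; exact le_top))
      (le_sup_left : P ≤ P ⊔ F) (sup_le hPA hFA) hPi
    exact h ▸ mem_sup_right hf
  have hFU : F ≤ normalizer ((E ⊔ W : Subgroup G) : Set G) := by
    refine Coprime.sup_le_normalizer (by rw [Subgroup.normalizer_eq_top E]; exact le_top) ?_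
    refine le_trans ?_ (centralizer_le_normalizer _)
    rw [le_centralizer_iff]
    exact (coreIn_le _ _).trans (centralizer_le hFP)
  intro d hd
  have hdo := orderOf_coprime hDo hd
  obtain ⟨c, hc, hcd⟩ := hTD d hd
  have hPT : CfsgLib.Fusion.conjBy a T = P :=
    (CfsgLib.Fusion.eq_of_le_of_isPGroup_of_not_dvd_relIndex hP haT hPA (by
      intro h
      refine hTi ?_
      rwa [show A = CfsgLib.Fusion.conjBy a A from
        (CfsgLib.Fusion.conjBy_eq_iff.2 (le_normalizer ha)).symm, CfsgLib.Fusion.conjBy,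
        CfsgLib.Fusion.conjBy, relIndex_map_map_of_injective _ _ (MulAut.conj a).injective] at h)).symm
  have hc' : a * c * a⁻¹ ∈ centralizer (P : Set G) := by
    rw [← hPT, ← CfsgLib.Fusion.conjBy_centralizer]
    exact CfsgLib.Fusion.conj_mem_conjBy hc
  obtain ⟨m, hm⟩ := exists_pow_mem_core hO hP hPA hPi hc'
  set q := QuotientGroup.mk' A
  have hq1 : ∀ g : G, q g = 1 ↔ g ∈ A := fun g => QuotientGroup.eq_one_iff g
  have hqd : q (a * c * a⁻¹) = q d := by
    have h1 : q c = q d := by rw [← mul_inv_eq_one, ← map_inv, ← map_mul, (hq1 _).2 hcd]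
    rw [map_mul, map_mul, map_inv, (hq1 a).2 ha, one_mul, inv_one, mul_one, h1]
  have hdm : d ∈ A ⊔ W := by
    refine mem_of_pow_two hdo (m := m) ?_
    have h2 : d ^ 2 ^ m * ((a * c * a⁻¹) ^ 2 ^ m)⁻¹ ∈ A := (hq1 _).1 (by
      rw [map_mul, map_inv, map_pow, map_pow, hqd, mul_inv_cancel])
    have := mul_mem (mem_sup_left (T := W) h2) (mem_sup_right (S := A) hm)
    rwa [inv_mul_cancel_right] at this
  rw [hAE, sup_comm E F, sup_assoc, sup_comm] at hdm
  obtain ⟨u, hu, f, hf, rfl⟩ := mem_sup_exists hFU hdm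
  obtain ⟨k, hk⟩ := pCore_isPGroup (G := G) 2 ⟨f, hf⟩
  have hk' : f ^ 2 ^ k = 1 := by simpa using congrArg Subtype.val hk
  refine mem_of_pow_two hdo (m := k) ?_
  have := mul_pow_mem hu (hFU hf) (2 ^ k)
  rwa [hk', inv_one, mul_one] at this

/-- A subgroup centralizing a 2-group modulo the core lifts to its centralizer. -/
theorem exists_lift_centralizer {P : Subgroup G} (hP : IsPGroup 2 P) {g : G}
    (hg : QuotientGroup.mk' (Cfsg.pPrimeCore 2 G) g ∈
      centralizer ((P.map (QuotientGroup.mk' (Cfsg.pPrimeCore 2 G)) : Subgroup _) : Set _)) :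
    ∃ c ∈ centralizer (P : Set G),
      QuotientGroup.mk' (Cfsg.pPrimeCore 2 G) c = QuotientGroup.mk' (Cfsg.pPrimeCore 2 G) g := by
  set q := QuotientGroup.mk' (Cfsg.pPrimeCore 2 G)
  obtain ⟨v, hv, hvg⟩ := exists_mul_mem_centralizer (j := g) (pPrimeCore_coprime Nat.prime_two) hP
    (by rw [Subgroup.normalizer_eq_top (Cfsg.pPrimeCore 2 G)]; exact le_top) (fun s hs => by
      refine (QuotientGroup.eq_one_iff (N := Cfsg.pPrimeCore 2 G) _).1 ?_
      show q (g * s * g⁻¹ * s⁻¹) = 1
      rw [map_mul, map_mul, map_mul, map_inv, map_inv,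
        ← mem_centralizer_iff.1 hg (q s) (mem_map_of_mem q hs), mul_inv_cancel_right, mul_inv_cancel])
  exact ⟨v * g, hvg, by rw [map_mul, show q v = 1 from (QuotientGroup.eq_one_iff v).2 hv, one_mul]⟩

/-- The image of the core of the centralizer of a 2-group modulo the core. -/
theorem map_coreIn_centralizer {P : Subgroup G} (hP : IsPGroup 2 P) :
    (coreIn 2 (centralizer (P : Set G))).map (QuotientGroup.mk' (Cfsg.pPrimeCore 2 G)) =
      coreIn 2 (centralizer
        ((P.map (QuotientGroup.mk' (Cfsg.pPrimeCore 2 G)) : Subgroup _) : Set _)) := by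
  set q := QuotientGroup.mk' (Cfsg.pPrimeCore 2 G)
  set C' := centralizer ((P.map q : Subgroup (G ⧸ Cfsg.pPrimeCore 2 G)) : Set (G ⧸ Cfsg.pPrimeCore 2 G))
  refine le_antisymm (le_coreIn ?_ ?_ ?_) ?_
  · rintro _ ⟨c, hc, rfl⟩
    refine mem_centralizer_iff.2 ?_
    rintro _ ⟨s, hs, rfl⟩
    rw [← map_mul, ← map_mul, mem_centralizer_iff.1 (coreIn_le _ _ hc) s hs]
  · intro z hz
    obtain ⟨g, rfl⟩ := QuotientGroup.mk'_surjective _ z
    obtain ⟨c, hc, hcg⟩ := exists_lift_centralizer hP hz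
    rw [← hcg]
    exact le_normalizer_map q (mem_map_of_mem q
      (normalizer_le_normalizer_coreIn _ _ (le_normalizer hc)))
  · exact (coprime_card_coreIn Nat.prime_two _).coprime_dvd_left (card_map_dvd _ q)
  · intro z hz
    obtain ⟨g, rfl⟩ := QuotientGroup.mk'_surjective _ z
    obtain ⟨c, hc, hcg⟩ := exists_lift_centralizer hP (coreIn_le _ _ hz)
    set V := centralizer (P : Set G) ⊓ (coreIn 2 C').comap q
    refine ⟨c, le_coreIn (V := V) inf_le_left ?_ ?_ ⟨hc, show q c ∈ coreIn 2 C' from by rw [hcg]; exact hz⟩, hcg⟩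
    · intro x hx
      refine (inf_le_normalizer ?_ ?_ : zpowers x ≤ normalizer (V : Set G)) (mem_zpowers x)
      · exact zpowers_le.2 (le_normalizer hx)
      · refine zpowers_le.2 (le_normalizer_comap q (mem_comap.2 ?_))
        refine normalizer_le_normalizer_coreIn _ _ (le_normalizer ?_)
        refine mem_centralizer_iff.2 ?_
        rintro _ ⟨s, hs, rfl⟩
        rw [← map_mul, ← map_mul, mem_centralizer_iff.1 hx s hs]
    · refine Nat.Coprime.coprime_dvd_left (card_dvd_of_le inf_le_right) ?_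
      refine Nat.Coprime.coprime_dvd_left (dvd_of_eq ?_)
        ((pPrimeCore_coprime (G := G) Nat.prime_two).mul_left
          (coprime_card_coreIn Nat.prime_two C'))
      rw [← relIndex_bot_left, ← relIndex_mul_relIndex ⊥ (Cfsg.pPrimeCore 2 G) _ bot_le (fun x hx => by
        rw [mem_comap, show q x = 1 from (QuotientGroup.eq_one_iff x).2 hx]; exact one_mem _),
        relIndex_bot_left]
      congr 1
      have e := relIndex_comap (⊥ : Subgroup (G ⧸ Cfsg.pPrimeCore 2 G)) q ((coreIn 2 C').comap q)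
      rw [MonoidHom.comap_bot, QuotientGroup.ker_mk',
        map_comap_eq_self_of_surjective (QuotientGroup.mk'_surjective _), relIndex_bot_left] at e
      exact e

/-- Core balance. -/
theorem core_balance {R : Subgroup G} (hR : IsPGroup 2 R) :
    coreIn 2 (centralizer (R : Set G)) ≤ Cfsg.extendedTwoLayer G := by
  set q := QuotientGroup.mk' (Cfsg.pPrimeCore 2 G) with hq
  obtain ⟨T⟩ : Nonempty (Sylow 2 ↥(twoM G)) := inferInstance
  set TG := (T : Subgroup ↥(twoM G)).map (twoM G).subtype with hTG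
  have hTGp : IsPGroup 2 TG := T.2.map _
  have hO := pPrimeCore_quotient_eq_bot (G := G) Nat.prime_two
  have hM : (twoM G).map q = Cfsg.generalizedFittingSubgroup (G ⧸ Cfsg.pPrimeCore 2 G) := by
    rw [twoM, Subgroup.map_sup, map_pLayer, Cfsg.pPrimePCore,
      map_comap_eq_self_of_surjective (QuotientGroup.mk'_surjective _),
      Cfsg.generalizedFittingSubgroup, fitting_eq_pCore_of_pPrimeCore_eq_bot hO, sup_comm]
  have hTM : TG ≤ twoM G := map_subtype_le _
  have hb := core_balance_reduced hO (hR.map q) (P := TG.map q) (hTGp.map q) (hM ▸ map_mono hTM)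
    (fun h => T.not_dvd_index (by
      rw [← hM] at h
      refine (h.trans (relIndex_map_dvd q hTM)).trans (dvd_of_eq ?_)
      rw [Subgroup.relIndex, hTG, Subgroup.subgroupOf,
        comap_map_eq_self_of_injective (twoM G).subtype_injective]))
  intro d hd
  have h1 : q d ∈ (Cfsg.pLayer 2 G ⊔ centCore (twoM G) (T : Subgroup ↥(twoM G))).map q := by
    rw [Subgroup.map_sup, map_pLayer, show centCore (twoM G) (T : Subgroup ↥(twoM G)) =
      coreIn 2 (centralizer (TG : Set G)) from rfl, map_coreIn_centralizer hTGp]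
    refine hb ?_
    rw [← map_coreIn_centralizer hR]
    exact mem_map_of_mem q hd
  obtain ⟨e, he, hed⟩ := h1
  rw [extendedTwoLayer_eq T]
  have ho : e⁻¹ * d ∈ Cfsg.oddCore G := (QuotientGroup.eq_one_iff _).1 (by
    show q (e⁻¹ * d) = 1
    rw [map_mul, map_inv, hed, inv_mul_cancel])
  have hle : Cfsg.pLayer 2 G ⊔ centCore (twoM G) (T : Subgroup ↥(twoM G)) ≤
      Cfsg.pLayer 2 G ⊔ Cfsg.oddCore G ⊔ centCore (twoM G) (T : Subgroup ↥(twoM G)) :=
    sup_le_sup le_sup_left le_rfl
  have := mul_mem (hle he) (mem_sup_left (mem_sup_right ho) :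
    e⁻¹ * d ∈ Cfsg.pLayer 2 G ⊔ Cfsg.oddCore G ⊔ centCore (twoM G) (T : Subgroup ↥(twoM G)))
  rwa [mul_inv_cancel_left] at this

end CfsgLib.Coprime.CoreBalance
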