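import Cfsg.Agent.Lib.Coprime.LBalance.CoreBalance

/-!
# Balance for the extended 2-layer
-/

set_option autoImplicit false
set_option linter.style.haveILetI false
set_option linter.unusedSectionVars false

namespace CfsgLib.Coprime.CoreBalance

open Subgroup CfsgLib.Coprime

universe u

variable {G : Type u} [Group G] [Finite G] [hp : Fact (Nat.Prime 2)]

/-- `L*(H)` as a subgroup of the ambient group. -/
abbrev extIn (H : Subgroup G) : Subgroup G := (Cfsg.extendedTwoLayer ↥H).map H.subtype

theorem coreIn_map_subtype (H : Subgroup G) (J : Subgroup ↥H) :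
    (coreIn 2 J).map H.subtype = coreIn 2 (J.map H.subtype) := by
  refine le_antisymm (le_coreIn (map_mono (coreIn_le _ _)) ?_ ?_) fun x hx => ?_
  · exact (map_mono (le_normalizer.trans (normalizer_le_normalizer_coreIn 2 J))).trans
      (le_normalizer_map _)
  · rw [card_map_of_injective H.subtype_injective]
    exact coprime_card_coreIn Nat.prime_two _
  · obtain ⟨y, hy, rfl⟩ := coreIn_le _ _ hx
    refine mem_map_of_mem H.subtype (le_coreIn (p := 2) (H := J)
      (V := (coreIn 2 (J.map H.subtype)).comap H.subtype) ?_ ?_ ?_ hx)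
    · intro z hz
      obtain ⟨w, hw, hwz⟩ := coreIn_le _ _ (mem_comap.1 hz)
      exact (Subtype.ext hwz : w = z) ▸ hw
    · refine le_trans (fun z hz => ?_) (le_normalizer_comap _)
      exact normalizer_le_normalizer_coreIn _ _ (le_normalizer (mem_map_of_mem H.subtype hz))
    · refine Nat.Coprime.coprime_dvd_left ?_ (coprime_card_coreIn Nat.prime_two (J.map H.subtype))
      rw [← card_map_of_injective H.subtype_injective]
      exact card_dvd_of_le (map_comap_le _ _)

theorem map_centralizer_subgroupOf {H P : Subgroup G} (hP : P ≤ H) :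
    (centralizer ((P.subgroupOf H : Subgroup ↥H) : Set ↥H)).map H.subtype =
      H ⊓ centralizer (P : Set G) := by
  refine le_antisymm ?_ ?_
  · rintro _ ⟨x, hx, rfl⟩
    exact Subgroup.mem_inf.2 ⟨x.2, mem_centralizer_iff.2 fun s hs =>
      congrArg Subtype.val (mem_centralizer_iff.1 hx ⟨s, hP hs⟩ hs)⟩
  · rintro x ⟨hx, hxc⟩
    exact ⟨⟨x, hx⟩, mem_centralizer_iff.2 fun s hs =>
      Subtype.ext (mem_centralizer_iff.1 hxc s hs), rfl⟩

theorem core_le_extIn {H P : Subgroup G} (hP : IsPGroup 2 P) (hPH : P ≤ H) :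
    coreIn 2 (H ⊓ centralizer (P : Set G)) ≤ extIn H := by
  rw [← map_centralizer_subgroupOf hPH, ← coreIn_map_subtype]
  exact map_mono (core_balance hP.comap_subtype)

/-- `L*(N) ≤ L*(H)` once the layers and the cores of the centralizers of 2-subgroups are. -/
theorem extIn_le {N H : Subgroup G}
    (hL : (Cfsg.pLayer 2 ↥N).map N.subtype ≤ (Cfsg.pLayer 2 ↥H).map H.subtype)
    (hc : ∀ T : Subgroup G, IsPGroup 2 T → T ≤ N →
      coreIn 2 (N ⊓ centralizer (T : Set G)) ≤ extIn H) : extIn N ≤ extIn H := by
  obtain ⟨T⟩ : Nonempty (Sylow 2 ↥(twoM ↥N)) := inferInstance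
  rw [extIn, extendedTwoLayer_eq T, Subgroup.map_sup, Subgroup.map_sup]
  refine sup_le (sup_le (hL.trans (map_mono ?_)) ?_) ?_
  · rw [extendedTwoLayer_eq_iSup]
    exact le_sup_left.trans le_sup_left
  · refine le_trans ?_ (hc ⊥ (IsPGroup.of_bot) bot_le)
    rw [show centralizer ((⊥ : Subgroup G) : Set G) = ⊤ from
      eq_top_iff.2 fun x _ => mem_centralizer_iff.2 fun s hs => by
        rw [Subgroup.mem_bot.1 hs, one_mul, mul_one], inf_top_eq]
    exact le_rfl
  · rw [centCore, coreIn_map_subtype]
    set TN := (T : Subgroup ↥(twoM ↥N)).map (twoM ↥N).subtype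
    have e : TN = (TN.map N.subtype).subgroupOf N := by
      rw [Subgroup.subgroupOf, comap_map_eq_self_of_injective N.subtype_injective]
    rw [e, map_centralizer_subgroupOf (map_subtype_le _)]
    exact hc _ ((T.2.map _).map _) (map_subtype_le _)

theorem extIn_mono_normal {N H : Subgroup G} (hNH : N ≤ H) (hn : H ≤ normalizer (N : Set G)) :
    extIn N ≤ extIn H := by
  refine extIn_le (pLayer_map_le_of_subgroupOf hNH (Normal.isSubnormal
    ((normal_subgroupOf_iff_le_normalizer hNH).2 hn))) fun T hT hTN => ?_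
  refine le_trans (le_coreIn ((coreIn_le _ _).trans (inf_le_inf_right _ hNH)) ?_
    (coprime_card_coreIn Nat.prime_two _)) (core_le_extIn hT (hTN.trans hNH))
  exact le_trans (inf_le_normalizer (inf_le_left.trans hn) (inf_le_right.trans le_normalizer))
    (normalizer_le_normalizer_coreIn _ _)

theorem extIn_centralizer_le {H R : Subgroup G} (hR : IsPGroup 2 R) (hRH : R ≤ H) :
    extIn (H ⊓ centralizer (R : Set G)) ≤ extIn H := by
  refine extIn_le ?_ fun T hT hTN => ?_
  · rw [← map_centralizer_subgroupOf hRH]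
    set J := centralizer ((R.subgroupOf H : Subgroup ↥H) : Set ↥H)
    rw [← map_pLayer_equiv (J.equivMapOfInjective H.subtype H.subtype_injective), Subgroup.map_map,
      show (J.map H.subtype).subtype.comp
        (J.equivMapOfInjective H.subtype H.subtype_injective).toMonoidHom =
          H.subtype.comp J.subtype from MonoidHom.ext fun _ => rfl, ← Subgroup.map_map]
    exact map_mono (lBalance_two _ hR.comap_subtype)
  · have hTR : IsPGroup 2 ↥(T ⊔ R) := hT.to_sup_of_normal_right' hR
      ((hTN.trans inf_le_right).trans (centralizer_le_normalizer _))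
    have e : H ⊓ centralizer (R : Set G) ⊓ centralizer (T : Set G) =
        H ⊓ centralizer ((T ⊔ R : Subgroup G) : Set G) := by
      refine le_antisymm (le_inf (inf_le_left.trans inf_le_left) ?_)
        (le_inf (le_inf inf_le_left (inf_le_right.trans (centralizer_le (show R ≤ T ⊔ R from le_sup_right))))
          (inf_le_right.trans (centralizer_le (show T ≤ T ⊔ R from le_sup_left))))
      rw [le_centralizer_iff]
      exact sup_le (le_centralizer_iff.1 inf_le_right)
        (le_centralizer_iff.1 (inf_le_left.trans inf_le_right))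
    rw [e]
    exact core_le_extIn hTR (sup_le (hTN.trans inf_le_left) hRH)

/-- `L*(L*(C(x)) ∩ C(y)) ≤ L*(C(y))` for commuting involutions. -/
theorem extended_two_layer_balance {x y : G} (hx : orderOf x = 2) (hxy : x * y = y * x) :
    extIn (extIn (centralizer ({x} : Set G)) ⊓ centralizer ({y} : Set G)) ≤
      extIn (centralizer ({y} : Set G)) := by
  set Cx := centralizer ({x} : Set G)
  set Cy := centralizer ({y} : Set G)
  haveI := extendedTwoLayer_normal (G := ↥Cx)
  have hxR : x ^ 2 ^ 1 = 1 := by rw [pow_one, ← hx, pow_orderOf_eq_one]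
  refine le_trans (extIn_mono_normal (H := Cy ⊓ Cx) (le_inf inf_le_right (inf_le_left.trans
    (map_subtype_le _))) (inf_le_normalizer (inf_le_right.trans ?_) (inf_le_left.trans le_normalizer))) ?_
  · intro g hg
    have hCx : Cx.map (MonoidHom.id G) = Cx := Subgroup.map_id _
    have h := le_normalizer_map Cx.subtype (mem_map_of_mem Cx.subtype
      (show (⟨g, hg⟩ : ↥Cx) ∈ normalizer ((Cfsg.extendedTwoLayer ↥Cx : Subgroup ↥Cx) : Set ↥Cx) by
        rw [Subgroup.normalizer_eq_top (Cfsg.extendedTwoLayer ↥Cx)]; exact mem_top _))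
    exact h
  · have e : Cx = centralizer ((zpowers x : Subgroup G) : Set G) := (centralizer_zpowers_eq x).symm
    rw [e]
    exact extIn_centralizer_le (isPGroup_zpowers hxR) (zpowers_le.2 (mem_centralizer_iff.2 fun z hz => by
      rw [Set.mem_singleton_iff.1 hz]; exact hxy.symm))

end CfsgLib.Coprime.CoreBalance
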