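import Cfsg.Agent.Lib.Coprime.LBalance.AlperinLite
import Cfsg.Agent.Lib.Invol.ZStar

/-!
# Perfect groups centralizing a Sylow 2-subgroup of `A` act on `A` as inner automorphisms

The core of L-balance for the prime 2, deduced from Glauberman's Z*-theorem.
-/

set_option autoImplicit false
set_option linter.style.haveILetI false
set_option linter.unusedSectionVars false

namespace CfsgLib.Coprime

open Subgroup
open scoped commutatorElement

variable {G : Type*} [Group G] [Finite G] [hp : Fact (Nat.Prime 2)]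

theorem conj_eq_self_of_commute {i x : G} (h : i * x = x * i) : x * i * x⁻¹ = i := by
  rw [← h, mul_inv_cancel_right]

/-- No involution of a perfect subgroup centralizes a Sylow 2-subgroup of `A`, when `A` has trivial
odd core and trivial centralizer. -/
theorem no_involution_centralizes_sylow {A P C₁ : Subgroup G} [A.Normal]
    (hO : Cfsg.pPrimeCore 2 A = ⊥) (hCA : centralizer (A : Set G) = ⊥) (hP : IsPGroup 2 P)
    (hPA : P ≤ A) (hPi : ¬ 2 ∣ P.relIndex A) (hC₁ : ⁅C₁, C₁⁆ = C₁)
    (hC₁P : C₁ ≤ centralizer (P : Set G)) {i : G} (hi : i ∈ C₁) : orderOf i ≠ 2 := by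
  intro hi2
  have hi2' : i ^ 2 ^ 1 = 1 := by rw [pow_one, ← hi2, pow_orderOf_eq_one]
  set M := A ⊓ centralizer ({i} : Set G)
  have hMi : ∀ {m : G}, m ∈ M → m * i * m⁻¹ = i := fun hm =>
    conj_eq_self_of_commute (mem_centralizer_iff.1 hm.2 i (Set.mem_singleton i))
  have hiP : ∀ x ∈ P, x * i = i * x := fun x hx => mem_centralizer_iff.1 (hC₁P hi) x hx
  -- normalizers of centric subgroups
  have hcen : ∀ Q ≤ P, CentricIn 2 A Q → ∀ n ∈ A, n ∈ normalizer (Q : Set G) →
      ∃ v ∈ coreIn 2 (A ⊓ centralizer (Q : Set G)), v * n * i * (v * n)⁻¹ = i := by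
    intro Q hQ hQc n hn hnQ
    have h1 : ∀ {j : G}, j ∈ C₁ → ⁅n, j⁆ ∈ coreIn 2 (A ⊓ centralizer (Q : Set G)) := fun hj =>
      commutator_le_core hQc hC₁ (hC₁P.trans (centralizer_le hQ)) hn hnQ hj
    have hiV : zpowers i ≤ normalizer
        ((coreIn 2 (A ⊓ centralizer (Q : Set G)) : Subgroup G) : Set G) := by
      refine le_trans ?_ (normalizer_le_normalizer_coreIn _ _)
      exact inf_le_normalizer (by rw [Subgroup.normalizer_eq_top A]; exact le_top)
        (zpowers_le.2 (le_normalizer (centralizer_le hQ (hC₁P hi))))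
    obtain ⟨v, hv, hvn⟩ := exists_mul_mem_centralizer (p := 2) (j := n)
      (coprime_card_coreIn Nat.prime_two _) (isPGroup_zpowers hi2') hiV (fun s hs => by
        have := h1 (zpowers_le.2 hi hs)
        rwa [commutatorElement_def] at this)
    exact ⟨v, hv, conj_eq_self_of_commute (mem_centralizer_iff.1 hvn i (mem_zpowers i))⟩
  -- fusion in `A` is induced by `C_A(i)`
  have hfac : ∀ {Q : Subgroup G}, Q ≤ P → ∀ {g : G}, g ∈ A → CfsgLib.Fusion.conjBy g Q ≤ P →
      Factors A M Q g := fun hQ _ hg hgQ => factors_of_centric hP hPA hPi inf_le_left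
    (fun Q hQ hQc n hn hnQ => by
      obtain ⟨v, hv, hvn⟩ := hcen Q hQ hQc n hn hnQ
      have hvC := coreIn_le _ _ hv
      refine ⟨v * n, ⟨mul_mem hvC.1 hn, mem_centralizer_iff.2 fun y hy => ?_⟩,
        n⁻¹ * v⁻¹ * n, Subgroup.mem_inf.2 ⟨mul_mem (mul_mem (inv_mem hn) (inv_mem hvC.1)) hn, ?_⟩,
        by group⟩
      · rw [Set.mem_singleton_iff.1 hy]
        rw [mul_inv_eq_iff_eq_mul] at hvn
        exact hvn.symm
      · have := (Subgroup.mem_normalizer_iff.1 (normalizer_le_normalizer_centralizer Q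
          (inv_mem hnQ)) _).1 (inv_mem hvC.2)
        rwa [inv_inv] at this) hQ hg hgQ
  by_cases hiA : i ∈ A
  · -- `i` is weakly closed in `P` with respect to `A`
    have hiPmem : i ∈ P := mem_of_isPGroup_sup hP hPA hPi hiA hi2' (hC₁P hi)
    set S : Sylow 2 A := (hP.comap_subtype (K := A)).toSylow hPi with hS
    have hz := CfsgLib.Invol.zstar_of_weakly_closed S (z := (⟨i, hiA⟩ : A))
      (by rw [← Subgroup.orderOf_coe]; exact hi2) (by
        intro g hg
        have hg' : (g : G) * i * (g : G)⁻¹ ∈ P := hg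
        obtain ⟨m, hm, c, hc, hgmc⟩ := hfac (zpowers_le.2 hiPmem) g.2 (by
          rw [CfsgLib.Fusion.conjBy, MonoidHom.map_zpowers, zpowers_le]; exact hg')
        refine Subtype.ext (show (g : G) * i * (g : G)⁻¹ = i from ?_)
        rw [hgmc, show m * c * i * (m * c)⁻¹ = m * (c * i * c⁻¹) * m⁻¹ by group,
          conj_eq_self_of_commute (mem_centralizer_iff.1 hc.2 i (mem_zpowers i)), hMi hm])
    have hmem : i ∈ centralizer (A : Set G) := mem_centralizer_iff.2 fun a ha => by
      have h := hz (⟨a, ha⟩ : A)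
      rw [hO, Subgroup.mem_bot] at h
      have h' := congrArg Subtype.val h
      simp only [Subgroup.coe_mul, InvMemClass.coe_inv, OneMemClass.coe_one] at h'
      rw [mul_inv_eq_one, mul_inv_eq_iff_eq_mul] at h'
      exact h'.symm
    rw [hCA, Subgroup.mem_bot] at hmem
    rw [hmem, orderOf_one] at hi2
    exact absurd hi2 (by norm_num)
  -- `i` is outside `A`: it is isolated in `X = A⟨i⟩`
  set X := A ⊔ zpowers i
  have hXmem : ∀ {x : G}, x ∈ X → ∃ a ∈ A, ∃ k ∈ zpowers i, a * k = x := fun hx =>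
    mem_sup_exists (by rw [Subgroup.normalizer_eq_top A]; exact le_top) hx
  have hPn : zpowers i ≤ normalizer (P : Set G) :=
    zpowers_le.2 (Subgroup.centralizer_le_normalizer _ (hC₁P hi))
  set S₀ := zpowers i ⊔ P
  have hS₀p : IsPGroup 2 S₀ := (isPGroup_zpowers hi2').to_sup_of_normal_right' hP hPn
  have hS₀X : S₀ ≤ X := sup_le le_sup_right (hPA.trans le_sup_left)
  have hiX : i ∈ X := mem_sup_right (mem_zpowers i)
  have hzi : ∀ k ∈ zpowers i, k = 1 ∨ k = i := by
    intro k hk
    obtain ⟨n, rfl⟩ := mem_zpowers_iff.1 hk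
    rw [← zpow_mod_orderOf i n, hi2]
    rcases Int.emod_two_eq_zero_or_one n with e | e
    · exact Or.inl (by rw [show (n % ((2 : ℕ) : ℤ)) = 0 from e, zpow_zero])
    · exact Or.inr (by rw [show (n % ((2 : ℕ) : ℤ)) = 1 from e, zpow_one])
  have hS₀A : S₀ ⊓ A = P := by
    refine CfsgLib.Fusion.eq_of_le_of_isPGroup_of_not_dvd_relIndex (hS₀p.to_le inf_le_left)
      (le_inf le_sup_right hPA) inf_le_right hPi
  have hS₀i : ¬ 2 ∣ S₀.relIndex X := by
    intro hd
    have e : X = A ⊔ S₀ := le_antisymm (sup_le le_sup_left (le_sup_of_le_right le_sup_left))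
      (sup_le le_sup_left hS₀X)
    rw [e, sup_comm] at hd
    refine hPi (hd.trans (dvd_of_eq ?_))
    have h1 := relIndex_sup_right S₀ A
    rw [← inf_relIndex_right P, inf_eq_left.2 hPA]
    refine Nat.eq_of_mul_eq_mul_left (Nat.card_pos (α := S₀)) ?_
    rw [Subgroup.relIndex, ← Nat.card_congr (subgroupOfEquivOfLe (le_sup_left : S₀ ≤ S₀ ⊔ A)).toEquiv,
      card_mul_index, Nat.card_congr (subgroupOfEquivOfLe (le_sup_left : S₀ ≤ S₀ ⊔ A)).toEquiv]
    have h2 : A.relIndex (S₀ ⊔ A) * Nat.card A = Nat.card ↥(S₀ ⊔ A) := by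
      rw [mul_comm, Subgroup.relIndex,
        ← Nat.card_congr (subgroupOfEquivOfLe (le_sup_right : A ≤ S₀ ⊔ A)).toEquiv, card_mul_index]
    have h3 : (S₀ ⊓ A).relIndex S₀ * Nat.card ↥(S₀ ⊓ A) = Nat.card S₀ := by
      rw [mul_comm, Subgroup.relIndex,
        ← Nat.card_congr (subgroupOfEquivOfLe (inf_le_left : S₀ ⊓ A ≤ S₀)).toEquiv, card_mul_index]
    have h4 : P.relIndex A * Nat.card P = Nat.card A := by
      rw [mul_comm, Subgroup.relIndex,
        ← Nat.card_congr (subgroupOfEquivOfLe hPA).toEquiv, card_mul_index]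
    rw [inf_relIndex_left, ← h1, hS₀A] at h3
    rw [← h2, ← h3, ← h4]
    ring
  set S : Sylow 2 X := (hS₀p.comap_subtype (K := X)).toSylow hS₀i
  have hodd := CfsgLib.Invol.zstar_of_weakly_closed S (z := (⟨i, hiX⟩ : X))
    (by rw [← Subgroup.orderOf_coe]; exact hi2) (by
      intro g hg
      refine Subtype.ext (show (g : G) * i * (g : G)⁻¹ = i from ?_)
      by_contra hne
      have hgS : (g : G) * i * (g : G)⁻¹ ∈ S₀ := hg
      -- the conjugate is `i u` with `g` in `A`
      obtain ⟨a, ha, k, hk, hak⟩ := hXmem g.2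
      have hga : (g : G) * i * (g : G)⁻¹ = a * i * a⁻¹ := by
        rw [← hak]
        rcases hzi k hk with rfl | rfl <;> group
      rw [hga] at hgS hne
      obtain ⟨u, hu⟩ : ∃ u, u = i⁻¹ * (a * i * a⁻¹) := ⟨_, rfl⟩
      have hx : a * i * a⁻¹ = i * u := by rw [hu]; group
      have huP : u ∈ P := by
        rw [← hS₀A]
        refine Subgroup.mem_inf.2 ⟨hu ▸ mul_mem (inv_mem (mem_sup_left (mem_zpowers i))) hgS, ?_⟩
        rw [hu, show i⁻¹ * (a * i * a⁻¹) = (i⁻¹ * a * i) * a⁻¹ by group]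
        exact mul_mem (by simpa using Subgroup.Normal.conj_mem (inferInstance : A.Normal) a ha i⁻¹)
          (inv_mem ha)
      -- make `C_P(u)` a Sylow subgroup of `C_A(u)`
      obtain ⟨W₂, hQW, hW₂, hW₂p, hW₂i⟩ := CfsgLib.Fusion.exists_le_not_dvd_relIndex
        (H := A ⊓ centralizer ({u} : Set G))
        (hP.to_le (inf_le_left (b := centralizer ({u} : Set G)))) (inf_le_inf_right _ hPA)
      obtain ⟨g₀, hg₀, hg₀le⟩ := CfsgLib.Fusion.exists_conj_le_of_not_dvd_relIndex hP hPA hPi hW₂p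
        (hW₂.trans inf_le_left)
      obtain ⟨m, hm, c, hc, hmc⟩ := hfac (inf_le_left (b := centralizer ({u} : Set G))) hg₀
        ((CfsgLib.Fusion.conjBy_mono hQW).trans hg₀le)
      have hcu : c * u * c⁻¹ = u := conj_eq_self_of_commute
        (mem_centralizer_iff.1 hc.2 u ⟨huP, mem_centralizer_iff.2 fun y hy => by
          rw [Set.mem_singleton_iff.1 hy]⟩)
      set u' := g₀ * u * g₀⁻¹ with hu'
      have huQ : u ∈ W₂ := hQW ⟨huP, mem_centralizer_iff.2 fun y hy => by
        rw [Set.mem_singleton_iff.1 hy]⟩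
      have hu'P : u' ∈ P := hg₀le (CfsgLib.Fusion.conj_mem_conjBy huQ)
      have hu'm : u' = m * u * m⁻¹ := by
        rw [hu', hmc, show m * c * u * (m * c)⁻¹ = m * (c * u * c⁻¹) * m⁻¹ by group, hcu]
      set a' := m * a with ha'
      have ha'A : a' ∈ A := mul_mem hm.1 ha
      have hx' : a' * i * a'⁻¹ = i * u' := by
        rw [ha', show m * a * i * (m * a)⁻¹ = m * (a * i * a⁻¹) * m⁻¹ by group, hx,
          show m * (i * u) * m⁻¹ = (m * i * m⁻¹) * (m * u * m⁻¹) by group, hMi hm, hu'm]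
      have hu'1 : u' ≠ 1 := by
        intro e
        have h1 : u = 1 := by
          rw [hu'm, mul_inv_eq_one] at e
          exact mul_left_cancel (e.trans (mul_one m).symm)
        exact hne (by rw [hx, h1, mul_one])
      set Q := P ⊓ centralizer ({u'} : Set G) with hQ
      have hQi : ¬ 2 ∣ Q.relIndex (A ⊓ centralizer ({u'} : Set G)) := by
        intro hd
        have h1 := CfsgLib.Fusion.not_dvd_relIndex_conjBy g₀ hW₂i
        have e : CfsgLib.Fusion.conjBy g₀ (A ⊓ centralizer ({u} : Set G)) =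
            A ⊓ centralizer ({u'} : Set G) := by
          rw [CfsgLib.Fusion.conjBy, map_inf _ _ _ (MulAut.conj g₀).injective,
            ← CfsgLib.Fusion.conjBy, ← CfsgLib.Fusion.conjBy,
            CfsgLib.Fusion.conjBy_eq_iff.2 (le_normalizer hg₀)]
          congr 1
          rw [← centralizer_closure, ← centralizer_closure ({u'} : Set G), ← zpowers_eq_closure,
            ← zpowers_eq_closure, CfsgLib.Fusion.conjBy_centralizer, CfsgLib.Fusion.conjBy,
            MonoidHom.map_zpowers]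
          rfl
        rw [e] at h1
        refine h1 (hd.trans (relIndex_dvd_of_le_left _ (le_inf hg₀le ?_)))
        exact ((CfsgLib.Fusion.conjBy_mono hW₂).trans e.le).trans inf_le_right
      have hu'Q : u' ∈ Q := ⟨hu'P, mem_centralizer_iff.2 fun y hy => by
        rw [Set.mem_singleton_iff.1 hy]⟩
      have hQA : Q ≤ A ⊓ centralizer ({u'} : Set G) := inf_le_inf_right _ hPA
      have hQcentric : CentricIn 2 A Q := fun w hw k hk => mem_of_isPGroup_sup
        (hP.to_le inf_le_left) hQA hQi (⟨hw.1, mem_centralizer_iff.2 fun y hy => by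
          rw [Set.mem_singleton_iff.1 hy]; exact mem_centralizer_iff.1 hw.2 u' hu'Q⟩) hk hw.2
      -- elements of `A` normalizing `Q` and fixing `i u'` fix `i`
      have hfix : ∀ y ∈ A, y ∈ normalizer (Q : Set G) → ∀ z, z = i ∨ z = i * u' →
          y * z * y⁻¹ = i * u' → y * i * y⁻¹ = i ∧ y * z * y⁻¹ = y * i * y⁻¹ * (y * (i⁻¹ * z) * y⁻¹) := by
        intro y hy hyQ z hz hyz
        refine ⟨?_, by group⟩
        obtain ⟨v, hv, hvy⟩ := hcen Q inf_le_left hQcentric y hy hyQ
        obtain ⟨d, hd⟩ : ∃ d, d = i⁻¹ * (y * i * y⁻¹) := ⟨_, rfl⟩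
        have hdV : d ∈ coreIn 2 (A ⊓ centralizer (Q : Set G)) := by
          have e : y * i * y⁻¹ = v⁻¹ * i * v := by
            rw [show y * i * y⁻¹ = v⁻¹ * (v * y * i * (v * y)⁻¹) * v by group, hvy]
          rw [hd, e, show i⁻¹ * (v⁻¹ * i * v) = (i⁻¹ * v⁻¹ * i) * v by group]
          refine mul_mem ?_ hv
          have hin : i⁻¹ ∈ normalizer
              ((coreIn 2 (A ⊓ centralizer (Q : Set G)) : Subgroup G) : Set G) :=
            normalizer_le_normalizer_coreIn _ _ (inf_le_normalizer (A := zpowers i)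
              (by rw [Subgroup.normalizer_eq_top A]; exact le_top)
              (zpowers_le.2 (le_normalizer (centralizer_le inf_le_left (hC₁P hi))))
              (inv_mem (mem_zpowers i)))
          have := (Subgroup.mem_normalizer_iff.1 hin _).1 (inv_mem hv)
          rwa [inv_inv] at this
        have hdQ : d ∈ Q := by
          rcases hz with rfl | rfl
          · rw [hd, hyz, inv_mul_cancel_left]; exact hu'Q
          · have e : d = u' * (y * u' * y⁻¹)⁻¹ := by
              rw [hd, show y * i * y⁻¹ = (y * (i * u') * y⁻¹) * (y * u' * y⁻¹)⁻¹ by group, hyz]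
              group
            rw [e]
            exact mul_mem hu'Q (inv_mem ((Subgroup.mem_normalizer_iff.1 hyQ u').1 hu'Q))
        have hd1 : d ∈ (⊥ : Subgroup G) := pPrime_inf_pGroup_eq_bot
          (coprime_card_coreIn Nat.prime_two _) (hP.to_le (inf_le_left : Q ≤ P)) ▸ ⟨hdV, hdQ⟩
        rw [Subgroup.mem_bot, hd, inv_mul_eq_one] at hd1
        exact hd1.symm
      -- a Sylow subgroup of `C_A(i u')` containing `Q`
      set P₁ := CfsgLib.Fusion.conjBy a' P with hP₁
      set B := A ⊓ centralizer ({i * u'} : Set G)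
      have hP₁B : P₁ ≤ B := by
        rintro _ ⟨x, hx, rfl⟩
        refine Subgroup.mem_inf.2 ⟨Subgroup.Normal.conj_mem inferInstance x (hPA hx) a',
          mem_centralizer_iff.2 fun y hy => ?_⟩
        rw [Set.mem_singleton_iff.1 hy, ← hx']
        simp only [MulEquiv.coe_toMonoidHom, MulAut.conj_apply]
        calc a' * i * a'⁻¹ * (a' * x * a'⁻¹) = a' * (i * x) * a'⁻¹ := by group
          _ = a' * (x * i) * a'⁻¹ := by rw [hiP x hx]
          _ = a' * x * a'⁻¹ * (a' * i * a'⁻¹) := by group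
      have hP₁i : ¬ 2 ∣ P₁.relIndex B := by
        intro hd
        have h1 := CfsgLib.Fusion.not_dvd_relIndex_conjBy a' hPi
        rw [CfsgLib.Fusion.conjBy_eq_iff.2 (le_normalizer ha'A)] at h1
        exact h1 (hd.trans (dvd_of_mul_right_eq _ (relIndex_mul_relIndex P₁ B A hP₁B inf_le_left)))
      have hQB : Q ≤ B := fun x hx => Subgroup.mem_inf.2 ⟨hPA hx.1, mem_centralizer_iff.2 fun y hy => by
        rw [Set.mem_singleton_iff.1 hy]
        calc i * u' * x = i * (u' * x) := mul_assoc _ _ _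
          _ = i * (x * u') := by rw [mem_centralizer_iff.1 hx.2 u' (Set.mem_singleton u')]
          _ = x * (i * u') := by rw [← mul_assoc, ← hiP x hx.1, mul_assoc]⟩
      obtain ⟨h, hh, hhle⟩ := CfsgLib.Fusion.exists_conj_le_of_not_dvd_relIndex (hP.map _) hP₁B hP₁i
        (hP.to_le inf_le_left) hQB
      set P₂ := CfsgLib.Fusion.conjBy h⁻¹ P₁ with hP₂
      have hP₂B : P₂ ≤ B := (CfsgLib.Fusion.conjBy_mono hP₁B).trans
        (le_of_eq (CfsgLib.Fusion.conjBy_eq_iff.2 (le_normalizer (inv_mem hh))))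
      have hQP₂ : Q ≤ P₂ := by
        have := CfsgLib.Fusion.conjBy_mono (g := h⁻¹) hhle
        rwa [CfsgLib.Fusion.conjBy_inv_conjBy] at this
      by_cases hQP : Q = P
      · have hcard : Nat.card P₂ = Nat.card P := by
          rw [hP₂, CfsgLib.Fusion.card_conjBy, hP₁, CfsgLib.Fusion.card_conjBy]
        have he : P₂ = P := (eq_of_le_of_card_ge (hQP ▸ hQP₂) hcard.le).symm
        rw [hP₂, hP₁, CfsgLib.Fusion.conjBy_conjBy, CfsgLib.Fusion.conjBy_eq_iff] at he
        have hy : h⁻¹ * a' * i * (h⁻¹ * a')⁻¹ = i * u' := by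
          rw [show h⁻¹ * a' * i * (h⁻¹ * a')⁻¹ = h⁻¹ * (a' * i * a'⁻¹) * h⁻¹⁻¹ by group, hx']
          exact conj_eq_self_of_commute
            (mem_centralizer_iff.1 (inv_mem hh.2) _ (Set.mem_singleton _))
        have h1 := (hfix _ (mul_mem (inv_mem hh.1) ha'A) (by rw [hQP]; exact he) i
          (Or.inl rfl) hy).1
        rw [hy] at h1
        exact hu'1 (mul_left_cancel (h1.trans (mul_one i).symm))
      · have hlt : Q < P₂ := lt_of_le_of_ne hQP₂ fun e => hQP (eq_of_le_of_card_ge inf_le_left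
          (by rw [e, hP₂, CfsgLib.Fusion.card_conjBy, hP₁, CfsgLib.Fusion.card_conjBy]))
        obtain ⟨y, hy, hyQ⟩ := SetLike.exists_of_lt
          (lt_inf_normalizer ((hP.map _).map _) hlt)
        have hyA : y ∈ A := (hP₂B hy.1).1
        have hyz : y * (i * u') * y⁻¹ = i * u' := conj_eq_self_of_commute
          (mem_centralizer_iff.1 (hP₂B hy.1).2 _ (Set.mem_singleton _))
        obtain ⟨h1, h2⟩ := hfix y hyA hy.2 _ (Or.inr rfl) hyz
        rw [hyz, h1, inv_mul_cancel_left] at h2
        have hyu : y ∈ A ⊓ centralizer ({u'} : Set G) :=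
          ⟨hyA, mem_centralizer_iff.2 fun t ht => by
            rw [Set.mem_singleton_iff.1 ht]
            have := mul_left_cancel h2
            calc u' * y = y * u' * y⁻¹ * y := by rw [← this]
              _ = y * u' := inv_mul_cancel_right _ _⟩
        obtain ⟨k, hk⟩ := ((hP.map _).map _ : IsPGroup 2 P₂) ⟨y, hy.1⟩
        have hle : Q ⊔ zpowers y ≤ P₂ := sup_le hQP₂ (zpowers_le.2 hy.1)
        have e := CfsgLib.Fusion.eq_of_le_of_isPGroup_of_not_dvd_relIndex
          (((hP.map _).map _ : IsPGroup 2 P₂).to_le hle) le_sup_left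
          (sup_le hQA (zpowers_le.2 hyu)) hQi
        exact hyQ (e ▸ mem_sup_right (mem_zpowers y)))
  -- `i` is central in `X`, so centralizes `A`
  have hmem : i ∈ centralizer (A : Set G) := mem_centralizer_iff.2 fun a ha => by
    have h := hodd (⟨a, mem_sup_left ha⟩ : X)
    have hcore : Cfsg.pPrimeCore 2 X = ⊥ := by
      set N := Cfsg.pPrimeCore 2 X
      haveI : (A.subgroupOf X).Normal := inferInstance
      have h1 : N ⊓ A.subgroupOf X = ⊥ := by
        rw [← map_pPrimeCore_of_isSubnormal (p := 2) (Normal.isSubnormal inferInstance),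
          show Cfsg.pPrimeCore 2 ↥(A.subgroupOf X) = ⊥ by
            rw [← map_pPrimeCore_equiv (subgroupOfEquivOfLe (le_sup_left : A ≤ X)).symm, hO,
              Subgroup.map_bot], Subgroup.map_bot]
      refine (eq_bot_iff_forall _).2 fun x hx => Subtype.ext ?_
      have hxc : (x : G) ∈ centralizer (A : Set G) := mem_centralizer_iff.2 fun b hb => by
        have h2 : (⟨b, mem_sup_left hb⟩ : X) * x * (⟨b, mem_sup_left hb⟩ : X)⁻¹ * x⁻¹ ∈
            N ⊓ A.subgroupOf X := by
          refine Subgroup.mem_inf.2 ⟨mul_mem (Subgroup.Normal.conj_mem inferInstance x hx _)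
            (inv_mem hx), ?_⟩
          rw [mem_subgroupOf]
          push_cast
          rw [show b * (x : G) * b⁻¹ * (x : G)⁻¹ = b * ((x : G) * b⁻¹ * (x : G)⁻¹) by group]
          exact mul_mem hb (Subgroup.Normal.conj_mem inferInstance _ (inv_mem hb) _)
        rw [h1, Subgroup.mem_bot] at h2
        have h3 := congrArg Subtype.val h2
        simp only [Subgroup.coe_mul, InvMemClass.coe_inv, OneMemClass.coe_one] at h3
        rw [mul_inv_eq_one, mul_inv_eq_iff_eq_mul] at h3
        exact h3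
      rw [hCA, Subgroup.mem_bot] at hxc
      exact hxc
    rw [hcore, Subgroup.mem_bot] at h
    have h' := congrArg Subtype.val h
    simp only [Subgroup.coe_mul, InvMemClass.coe_inv, OneMemClass.coe_one] at h'
    rw [mul_inv_eq_one, mul_inv_eq_iff_eq_mul] at h'
    exact h'.symm
  rw [hCA, Subgroup.mem_bot] at hmem
  rw [hmem, orderOf_one] at hi2
  exact absurd hi2 (by norm_num)

/-- A perfect group generated by 2-elements which centralizes a 2-element `t`, and modulo `A` also
a Sylow 2-subgroup of `C_A(t)`, lies in `A` (given `O(A) = 1` and `C(A) = 1`). -/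
theorem le_of_centralizes_local_sylow {A J S : Subgroup G} [A.Normal]
    (hO : Cfsg.pPrimeCore 2 A = ⊥) (hCA : centralizer (A : Set G) = ⊥)
    {t : G} {k : ℕ} (ht : t ^ 2 ^ k = 1) (hJ : ⁅J, J⁆ = J) (hJ2 : pClosure 2 J = J)
    (hS : IsPGroup 2 S) (hSle : S ≤ A ⊓ centralizer ({t} : Set G))
    (hSi : ¬ 2 ∣ S.relIndex (A ⊓ centralizer ({t} : Set G)))
    (hcov : ∀ j ∈ J, ∃ a ∈ A, a * j ∈ centralizer (S : Set G) ⊓ centralizer ({t} : Set G)) :
    J ≤ A := by
  set q := QuotientGroup.mk' A
  set Jb := J.map q with hJb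
  have hJbp : ⁅Jb, Jb⁆ = Jb := by rw [hJb, ← map_commutator, hJ]
  set X := A ⊔ zpowers t
  have hXmem : ∀ {x : G}, x ∈ X → ∃ a ∈ A, ∃ n ∈ zpowers t, a * n = x := fun hx =>
    mem_sup_exists (by rw [Subgroup.normalizer_eq_top A]; exact le_top) hx
  set Good : Set (Subgroup G) := {Q | IsPGroup 2 Q ∧ Q ≤ X ∧ t ∈ Q ∧ CentricIn 2 A Q ∧
    Jb ≤ (centralizer (Q : Set G)).map q}
  have hSt : S ≤ normalizer ((zpowers t : Subgroup G) : Set G) := by
    refine le_trans ?_ (Subgroup.centralizer_le_normalizer _)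
    rw [zpowers_eq_closure, centralizer_closure]
    exact hSle.trans inf_le_right
  have hne : Good.Nonempty := by
    refine ⟨S ⊔ zpowers t, hS.to_sup_of_normal_right' (isPGroup_zpowers ht) hSt,
      sup_le ((hSle.trans inf_le_left).trans le_sup_left) le_sup_right,
      mem_sup_right (mem_zpowers t), fun w hw n hn => ?_, ?_⟩
    · refine mem_sup_left (mem_of_isPGroup_sup hS hSle hSi ⟨hw.1, mem_centralizer_iff.2 fun y hy => ?_⟩
        hn (centralizer_le (show S ≤ S ⊔ zpowers t from le_sup_left) hw.2))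
      rw [Set.mem_singleton_iff.1 hy]
      exact mem_centralizer_iff.1 hw.2 t (mem_sup_right (mem_zpowers t))
    · rintro _ ⟨j, hj, rfl⟩
      obtain ⟨a, ha, haj⟩ := hcov j hj
      refine ⟨a * j, ?_, ?_⟩
      · refine mem_centralizer_iff.2 fun x hx => ?_
        have h : S ⊔ zpowers t ≤ centralizer ({a * j} : Set G) := by
          refine sup_le (fun s hs => mem_centralizer_iff.2 fun y hy => ?_)
            (zpowers_le.2 (mem_centralizer_iff.2 fun y hy => ?_))
          · rw [Set.mem_singleton_iff.1 hy]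
            exact (mem_centralizer_iff.1 haj.1 s hs).symm
          · rw [Set.mem_singleton_iff.1 hy]
            exact (mem_centralizer_iff.1 haj.2 t (Set.mem_singleton t)).symm
        exact (mem_centralizer_iff.1 (h hx) _ (Set.mem_singleton _)).symm
      · rw [map_mul, show q a = 1 from (QuotientGroup.eq_one_iff a).2 ha, one_mul]
  obtain ⟨Q, ⟨hQp, hQX, htQ, hQc, hQJ⟩, hQmax⟩ := exists_maximal_of_wellFoundedGT (· ∈ Good) hne
  obtain ⟨C₁, hC₁Q, hC₁, hC₁J⟩ := exists_perfect_le q hJbp hQJ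
  have hQi : ¬ 2 ∣ Q.relIndex X := by
    intro hd
    obtain ⟨T, hQT, hTX, hTp, hTi⟩ := CfsgLib.Fusion.exists_le_not_dvd_relIndex hQp hQX
    have hlt : Q < T := lt_of_le_of_ne hQT fun e => hTi (e ▸ hd)
    obtain ⟨x, hx, hxQ⟩ := SetLike.exists_of_lt (lt_inf_normalizer hTp hlt)
    obtain ⟨y, hy, n, hn, rfl⟩ := hXmem (hTX hx.1)
    have hnQ : n ∈ Q := zpowers_le.2 htQ hn
    have hyT : y ∈ T := by
      have := mul_mem (show y * n ∈ T from hx.1) (inv_mem (hQT hnQ)); rwa [mul_inv_cancel_right] at this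
    have hyN : y ∈ normalizer (Q : Set G) := by
      have := mul_mem (show y * n ∈ normalizer (Q : Set G) from hx.2) (inv_mem (le_normalizer hnQ)); rwa [mul_inv_cancel_right] at this
    have hyQ : y ∉ Q := fun h => hxQ (mul_mem h hnQ)
    obtain ⟨m, hm⟩ : ∃ m : ℕ, y ^ 2 ^ m = 1 := by
      obtain ⟨m, hm⟩ := hTp ⟨y, hyT⟩
      exact ⟨m, by simpa using congrArg Subtype.val hm⟩
    set V := coreIn 2 (A ⊓ centralizer (Q : Set G))
    have hyV : zpowers y ≤ normalizer (V : Set G) := by
      refine le_trans ?_ (normalizer_le_normalizer_coreIn _ _)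
      exact inf_le_normalizer (by rw [Subgroup.normalizer_eq_top A]; exact le_top)
        (zpowers_le.2 (normalizer_le_normalizer_centralizer Q hyN))
    have hnew : Q ⊔ zpowers y ∈ Good := by
      refine ⟨hTp.to_le (sup_le hQT (zpowers_le.2 hyT)), sup_le hQX
        (zpowers_le.2 (mem_sup_left hy)), mem_sup_left htQ, fun w hw j hj =>
          mem_sup_left (hQc w ⟨hw.1, centralizer_le (show Q ≤ Q ⊔ zpowers y from le_sup_left) hw.2⟩ j hj), ?_⟩
      rintro z hz
      rw [← hC₁J] at hz
      obtain ⟨c, hc, rfl⟩ := hz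
      obtain ⟨v, hv, hvc⟩ := exists_mul_mem_centralizer (p := 2) (j := c)
        (coprime_card_coreIn Nat.prime_two _) (isPGroup_zpowers hm) hyV (fun s hs => by
          have h1 := commutator_le_core hQc hC₁ hC₁Q (zpowers_le.2 hy hs)
            (zpowers_le.2 hyN hs) hc
          rw [← inv_mem_iff, commutatorElement_inv, commutatorElement_def] at h1
          exact h1)
      refine ⟨v * c, ?_, ?_⟩
      · refine mem_centralizer_iff.2 fun x hx => ?_
        have h : Q ⊔ zpowers y ≤ centralizer ({v * c} : Set G) := by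
          refine sup_le (fun s hs => mem_centralizer_iff.2 fun w hw => ?_)
            (fun s hs => mem_centralizer_iff.2 fun w hw => ?_)
          · rw [Set.mem_singleton_iff.1 hw]
            exact (mem_centralizer_iff.1 (mul_mem (coreIn_le _ _ hv).2 (hC₁Q hc)) s hs).symm
          · rw [Set.mem_singleton_iff.1 hw]
            exact (mem_centralizer_iff.1 hvc s hs).symm
        exact (mem_centralizer_iff.1 (h hx) _ (Set.mem_singleton _)).symm
      · rw [map_mul, show q v = 1 from (QuotientGroup.eq_one_iff v).2 (coreIn_le _ _ hv).1, one_mul]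
    exact hyQ (hQmax hnew le_sup_left (mem_sup_right (mem_zpowers y)))
  set P := Q ⊓ A
  have hPi : ¬ 2 ∣ P.relIndex A := by
    rw [inf_relIndex_right]
    intro hd
    haveI : (A.subgroupOf X).Normal := inferInstance
    have h := CfsgLib.Fusion.not_dvd_relIndex_inf_of_normal
      ((hQp.comap_subtype (K := X)).toSylow hQi) (A.subgroupOf X)
    rw [show (((hQp.comap_subtype (K := X)).toSylow hQi : Sylow 2 X) : Subgroup X) =
        Q.subgroupOf X from rfl,
      show Q.subgroupOf X ⊓ A.subgroupOf X = (Q ⊓ A).subgroupOf X from (comap_inf _ _ _).symm,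
      relIndex_subgroupOf le_sup_left, inf_relIndex_right] at h
    exact h hd
  have hC₁P : C₁ ≤ centralizer (P : Set G) := hC₁Q.trans (centralizer_le inf_le_left)
  -- `C₁` has odd order
  have hodd : ∀ x ∈ C₁, ∀ n : ℕ, x ^ 2 ^ n = 1 → x = 1 := by
    intro x hx n hn
    by_contra hne
    obtain ⟨j, _, hj⟩ := (Nat.dvd_prime_pow Nat.prime_two).1 (orderOf_dvd_of_pow_eq_one hn)
    obtain ⟨j, rfl⟩ : ∃ j', j = j' + 1 := Nat.exists_eq_succ_of_ne_zero fun e => hne (by
      rw [e, pow_zero, orderOf_eq_one_iff] at hj; exact hj)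
    refine no_involution_centralizes_sylow hO hCA (hQp.to_le inf_le_left) inf_le_right hPi hC₁
      hC₁P (pow_mem hx (2 ^ j)) ?_
    rw [orderOf_pow_of_dvd (by positivity) (by rw [hj, pow_succ]; exact dvd_mul_right _ _), hj,
      pow_succ, Nat.mul_div_cancel_left _ (by positivity)]
  have h1 : pClosure 2 C₁ = ⊥ := by
    rw [pClosure, Subgroup.closure_eq_bot_iff]
    rintro x ⟨hx, n, hn⟩
    exact hodd x hx n hn
  have h2 : Jb = ⊥ := by
    rw [hJb, ← hJ2, map_pClosure, ← hJb, ← hC₁J, ← map_pClosure, h1, Subgroup.map_bot]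
  rw [hJb, Subgroup.map_eq_bot_iff, QuotientGroup.ker_mk'] at h2
  exact h2

end CfsgLib.Coprime
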