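import Cfsg.Agent.Lib.Coprime.LBalance.Components
import Cfsg.Agent.Lib.Coprime.LBalance.Outer
import Cfsg.Prelude.Def_KGroupFacts

/-!
# Inducing inner automorphisms on a component

Either by the Schreier hypothesis, or, for `p = 2` and a group `R` inducing a cyclic group of
automorphisms with a square acting trivially, by Glauberman's Z*-theorem.
-/

set_option autoImplicit false
set_option linter.style.haveILetI false
set_option linter.unusedSectionVars false

namespace CfsgLib.Coprime

open Subgroup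
open scoped commutatorElement

variable {G : Type*} [Group G] [Finite G]

/-- Schreier: a perfect group normalizing a quasisimple `K` with `Out(K/Z(K))` solvable induces
inner automorphisms on it. -/
theorem le_sup_centralizer_of_solvable_out {K J : Subgroup G} (hK : Cfsg.IsQuasisimple K)
    (hout : Group.IsSolvable (Cfsg.Out (↥K ⧸ center ↥K))) (hJ : ⁅J, J⁆ = J)
    (hJK : J ≤ normalizer (K : Set G)) : J ≤ K ⊔ centralizer (K : Set G) := by
  have hKp : ⁅K, K⁆ = K := Subgroup.isPerfect_iff.1 hK.1
  let Ψ : MulAut ↥K →* MulAut (↥K ⧸ center ↥K) :=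
    { toFun := fun e => QuotientGroup.congr (center ↥K) (center ↥K) e (map_center_equiv e)
      map_one' := MulEquiv.ext fun x => QuotientGroup.induction_on x fun _ => rfl
      map_mul' := fun _ _ => MulEquiv.ext fun x => QuotientGroup.induction_on x fun _ => rfl }
  obtain ⟨Φ, hΦ⟩ : ∃ Φ : ↥(normalizer (K : Set G)) →* MulAut (↥K ⧸ center ↥K),
      ∀ (g : ↥(normalizer (K : Set G))) (k : ↥K), Φ g (QuotientGroup.mk k) =
        QuotientGroup.mk ⟨(g : G) * k * (g : G)⁻¹, (Subgroup.mem_normalizer_iff.1 g.2 k).1 k.2⟩ :=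
    ⟨Ψ.comp (normalizerMonoidHom K), fun g k => rfl⟩
  set J' := J.subgroupOf (normalizer (K : Set G))
  have hJ' : ⁅J', J'⁆ = J' := map_injective (Subgroup.subtype_injective _) (by
    rw [map_commutator, map_subgroupOf_eq_of_le hJK, hJ])
  set θ := (QuotientGroup.mk' (Cfsg.Inn (↥K ⧸ center ↥K))).comp Φ
  have hbot : J'.map θ = ⊥ := by
    by_contra hc
    haveI := hout
    haveI : Nontrivial (J'.map θ) := (nontrivial_iff_ne_bot _).2 hc
    haveI : Group.IsPerfect (J'.map θ) :=
      Subgroup.isPerfect_iff.2 (by rw [← map_commutator, hJ'])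
    exact Group.IsPerfect.not_isSolvable (J'.map θ) inferInstance
  intro j hj
  have h1 : θ ⟨j, hJK hj⟩ = 1 :=
    (Subgroup.mem_bot).1 (hbot ▸ mem_map_of_mem θ (mem_subgroupOf.2 hj : (⟨j, hJK hj⟩ : _) ∈ J'))
  obtain ⟨kb, hkb⟩ := (QuotientGroup.eq_one_iff _).1 h1
  obtain ⟨k, rfl⟩ := QuotientGroup.mk_surjective kb
  have hc : (k : G)⁻¹ * j ∈ centralizer (K : Set G) := by
    refine mem_centralizer_of_commutator_central hKp fun x hx => ?_
    have e := congrArg (fun φ : MulAut (↥K ⧸ center ↥K) => φ (QuotientGroup.mk ⟨x, hx⟩)) hkb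
    simp only [MulAut.conj_apply] at e
    rw [hΦ, ← QuotientGroup.mk_inv, ← QuotientGroup.mk_mul, ← QuotientGroup.mk_mul,
      QuotientGroup.eq] at e
    have hjx : j * x * j⁻¹ ∈ K := (Subgroup.mem_normalizer_iff.1 (hJK hj) x).1 hx
    obtain ⟨z, hzval, hz⟩ : ∃ z : G, z = ((k : G) * x * (k : G)⁻¹)⁻¹ * (j * x * j⁻¹) ∧
        z ∈ centralizer (K : Set G) := ⟨_, rfl, mem_centralizer_iff.2 fun y hy =>
          congrArg Subtype.val (mem_center_iff.1 e ⟨y, hy⟩)⟩
    refine Subgroup.mem_inf.2 ⟨?_, ?_⟩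
    · rw [show (k : G)⁻¹ * j * x * ((k : G)⁻¹ * j)⁻¹ * x⁻¹ =
        (k : G)⁻¹ * (j * x * j⁻¹) * k * x⁻¹ by group]
      exact mul_mem (mul_mem (mul_mem (inv_mem k.2) hjx) k.2) (inv_mem hx)
    · rw [show (k : G)⁻¹ * j * x * ((k : G)⁻¹ * j)⁻¹ * x⁻¹ =
        x * ((k : G)⁻¹ * z * k) * x⁻¹ by rw [hzval]; group]
      have h2 : ∀ y ∈ K, y * z * y⁻¹ = z := fun y hy => by
        rw [mem_centralizer_iff.1 hz y hy, mul_inv_cancel_right]
      have h3 := h2 _ (inv_mem k.2)
      rw [inv_inv] at h3
      rw [h3, h2 x hx]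
      exact hz
  have := mul_mem (mem_sup_left (T := centralizer (K : Set G)) k.2) (mem_sup_right (S := K) hc)
  rwa [mul_inv_cancel_left] at this

theorem relIndex_map_dvd {H : Type*} [Group H] (f : G →* H) {A B : Subgroup G} (h : A ≤ B) :
    (A.map f).relIndex (B.map f) ∣ A.relIndex B := by
  have e : (A.map f).subgroupOf (B.map f) = (A.subgroupOf B).map (f.subgroupMap B) := by
    refine Subgroup.map_injective (B.map f).subtype_injective ?_
    rw [map_subgroupOf_eq_of_le (map_mono h), Subgroup.map_map,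
      show (B.map f).subtype.comp (f.subgroupMap B) = f.comp B.subtype from rfl,
      ← Subgroup.map_map, map_subgroupOf_eq_of_le h]
  rw [Subgroup.relIndex, e]
  exact index_map_dvd _ (f.subgroupMap_surjective B)

/-- The case `p = 2`: `R` acts on `E(X)` as a cyclic group generated by `t` with `t²` trivial. -/
theorem le_sup_centralizer_two [hp : Fact (Nat.Prime 2)] {R J K : Subgroup G}
    (hO : Cfsg.pPrimeCore 2 G = ⊥) (hR : IsPGroup 2 R)
    (hJ : ⁅J, J⁆ = J) (hJ2 : pClosure 2 J = J) (hJR : J ≤ centralizer (R : Set G))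
    (hJO : J ≤ centralizer (Cfsg.pCore 2 G : Set G))
    (hJU : ⁅Cfsg.layer G ⊓ centralizer (R : Set G), J⁆ ≤
      coreIn 2 (Cfsg.layer G ⊓ centralizer (R : Set G)))
    {t : G} (htR : t ∈ R) (ht2 : t * t ∈ centralizer (Cfsg.layer G : Set G))
    (hRt : ∀ s ∈ R, s ∈ centralizer (Cfsg.layer G : Set G) ∨
      t⁻¹ * s ∈ centralizer (Cfsg.layer G : Set G))
    (hK : Cfsg.IsComponent K) : J ≤ K ⊔ centralizer (K : Set G) := by
  haveI := layer_normal (G := G)
  set E := Cfsg.layer G with hE
  have hJN := le_normalizer_of_component hO hR (Or.inl hJ) hJR hJO hJU hK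
  have hKE : K ≤ E := component_le_layer hK
  have hKp := commutator_self_of_isComponent hK
  have hJt : ∀ {j : G}, j ∈ J → t * j = j * t := fun hj => mem_centralizer_iff.1 (hJR hj) t htR
  have hkt : ∀ {k : G}, k ∈ E → ∀ {s : G}, s ∈ R →
      s * k * s⁻¹ = k ∨ s * k * s⁻¹ = t * k * t⁻¹ := by
    intro k hk s hs
    rcases hRt s hs with h | h
    · exact Or.inl (by rw [← mem_centralizer_iff.1 h k hk, mul_inv_cancel_right])
    · refine Or.inr ?_
      have h' : (t⁻¹ * s) * k * (t⁻¹ * s)⁻¹ = k := by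
        rw [← mem_centralizer_iff.1 h k hk, mul_inv_cancel_right]
      conv_rhs => rw [← h']
      group
  obtain ⟨x, k, hk, hx⟩ := exists_pElement_not_mem_center (p := 2) hK.2
    (dvd_card_of_isComponent hO hK)
  have hxk : (x : G) ^ 2 ^ k = 1 := by simpa using congrArg Subtype.val hk
  by_cases htK : t ∈ normalizer (K : Set G)
  · -- `t` normalizes `K`: pass to the automorphism group of `K`
    set N := normalizer (K : Set G)
    haveI : ((centralizer (K : Set G)).subgroupOf N).Normal :=
      (normal_subgroupOf_iff_le_normalizer (centralizer_le_normalizer _)).2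
        (normalizer_le_normalizer_centralizer K)
    haveI : (K.subgroupOf N).Normal := (normal_subgroupOf_iff_le_normalizer le_normalizer).2 le_rfl
    set q := QuotientGroup.mk' ((centralizer (K : Set G)).subgroupOf N)
    have hq1 : ∀ g : N, q g = 1 ↔ (g : G) ∈ centralizer (K : Set G) := fun g =>
      (QuotientGroup.eq_one_iff g).trans mem_subgroupOf
    set A := (K.subgroupOf N).map q
    haveI : A.Normal := Normal.map inferInstance _ (QuotientGroup.mk'_surjective _)
    have hCA : centralizer (A : Set (↥N ⧸ (centralizer (K : Set G)).subgroupOf N)) = ⊥ := by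
      rw [eq_bot_iff]
      intro y hy
      obtain ⟨g, rfl⟩ := QuotientGroup.mk'_surjective _ y
      rw [Subgroup.mem_bot, hq1]
      refine mem_centralizer_of_commutator_central hKp fun k hk => Subgroup.mem_inf.2
        ⟨mul_mem ((Subgroup.mem_normalizer_iff.1 g.2 k).1 hk) (inv_mem hk), ?_⟩
      have h : q (g * ⟨k, le_normalizer hk⟩ * g⁻¹ * (⟨k, le_normalizer hk⟩ : N)⁻¹) = 1 := by
        rw [map_mul, map_mul, map_mul, ← mem_centralizer_iff.1 hy (q ⟨k, le_normalizer hk⟩)
          (mem_map_of_mem q (mem_subgroupOf.2 hk)), map_inv, map_inv, mul_inv_cancel_right,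
          mul_inv_cancel]
      exact (hq1 _).1 h
    have hOA : Cfsg.pPrimeCore 2 A = ⊥ := by
      have hsur := (q.subgroupMap_surjective (K.subgroupOf N))
      set f := q.subgroupMap (K.subgroupOf N)
      set e := subgroupOfEquivOfLe (le_normalizer : K ≤ N)
      set M := ((Cfsg.pPrimeCore 2 A).comap f).map e.toMonoidHom
      haveI : M.Normal := Normal.map inferInstance _ e.surjective
      rw [← map_comap_eq_self_of_surjective hsur (Cfsg.pPrimeCore 2 A), Subgroup.map_eq_bot_iff]
      rcases subnormal_eq_top_or_le_center hK.2 (Normal.isSubnormal (inferInstance : M.Normal))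
        with h | h
      · exfalso
        have hx' : e.symm x ∈ (Cfsg.pPrimeCore 2 A).comap f := by
          obtain ⟨y, hy, hyx⟩ : x ∈ M := h ▸ mem_top x
          rw [show e.symm x = y from e.injective (by rw [e.apply_symm_apply]; exact hyx.symm)]
          exact hy
        have h1 : f (e.symm x) = 1 := by
          have hd : f (e.symm x) ∈ Cfsg.pPrimeCore 2 A ⊓ zpowers (f (e.symm x)) :=
            ⟨hx', mem_zpowers _⟩
          rw [pPrime_inf_pGroup_eq_bot (pPrimeCore_coprime Nat.prime_two)
            (isPGroup_zpowers (k := k) (by rw [← map_pow, ← map_pow, hk, map_one, map_one])),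
            Subgroup.mem_bot] at hd
          exact hd
        refine hx (mem_center_iff.2 fun y => Subtype.ext ?_)
        have h2 : q (e.symm x).1 = 1 := congrArg Subtype.val h1
        exact mem_centralizer_iff.1 ((hq1 _).1 h2) y y.2
      · intro y hy
        refine MonoidHom.mem_ker.2 (Subtype.ext ((hq1 _).2 (mem_centralizer_iff.2 fun z hz => ?_)))
        exact congrArg Subtype.val
          (mem_center_iff.1 (h (mem_map_of_mem e.toMonoidHom hy)) ⟨z, hz⟩)
    -- a Sylow subgroup of the fixed points of `t`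
    set W := relCent R ⊓ K
    obtain ⟨S, -, hSW, hSp, hSi⟩ := CfsgLib.Fusion.exists_le_not_dvd_relIndex (p := 2)
      (IsPGroup.of_bot (p := 2) (G := G)) (bot_le : (⊥ : Subgroup G) ≤ W)
    set tb := q ⟨t, htK⟩
    have hWN : W ≤ N := inf_le_right.trans le_normalizer
    have hWA : (W.subgroupOf N).map q = A ⊓ centralizer ({tb} : Set _) := by
      refine le_antisymm ?_ ?_
      · rintro _ ⟨g, hg, rfl⟩
        refine Subgroup.mem_inf.2 ⟨mem_map_of_mem q (mem_subgroupOf.2 hg.2),
          mem_centralizer_iff.2 fun y hy => ?_⟩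
        rw [Set.mem_singleton_iff.1 hy, ← mul_inv_eq_iff_eq_mul, ← mul_inv_eq_one]
        have hz := (hg.1.2 t htR).2
        simp only [tb, ← map_mul, ← map_inv]
        exact (hq1 _).2 (centralizer_le hKE hz)
      · rintro _ ⟨⟨g, hg, rfl⟩, hgt⟩
        refine ⟨g, Subgroup.mem_inf.2 ⟨mem_relCent_iff.2 ⟨hKE hg, fun s hs => ?_⟩, hg⟩, rfl⟩
        rcases hkt (hKE hg) hs with e | e <;> rw [e]
        · rw [mul_inv_cancel]; exact one_mem _
        · refine inf_centralizer_le_centralizer_layer hK (Subgroup.mem_inf.2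
            ⟨mul_mem ((Subgroup.mem_normalizer_iff.1 htK _).1 hg) (inv_mem hg), ?_⟩)
          refine (hq1 (⟨t, htK⟩ * g * (⟨t, htK⟩ : N)⁻¹ * g⁻¹)).1 ?_
          rw [map_mul, map_mul, map_mul, map_inv, map_inv,
            mem_centralizer_iff.1 hgt tb (Set.mem_singleton _), mul_inv_cancel_right, mul_inv_cancel]
    obtain ⟨m, hm⟩ := hR ⟨t, htR⟩
    have hSN : S ≤ N := hSW.trans hWN
    have hVN : coreIn 2 (E ⊓ centralizer (R : Set G)) ≤ N :=
      ((coreIn_le _ _).trans inf_le_left).trans (layer_le_normalizer_component hK)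
    have hEK : E ≤ centralizer (K : Set G) ⊔ K := sSup_le fun L hL => by
      by_cases h : L = K
      · exact h ▸ le_sup_right
      · exact le_sup_of_le_left
          (commutator_eq_bot_iff_le_centralizer.1 (components_commute hL hK h))
    have hKC : K ≤ normalizer ((centralizer (K : Set G) : Subgroup G) : Set G) :=
      le_normalizer.trans (normalizer_le_normalizer_centralizer K)
    have hle := le_of_centralizes_local_sylow (A := A) (J := (J.subgroupOf N).map q)
      (S := (S.subgroupOf N).map q) (t := tb) (k := m) hOA hCA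
      (by
        rw [show tb ^ 2 ^ m = q (⟨t, htK⟩ ^ 2 ^ m) from (map_pow q _ _).symm,
          show (⟨t, htK⟩ : N) ^ 2 ^ m = 1 from Subtype.ext (by simpa using congrArg Subtype.val hm),
          map_one])
      (by rw [← map_commutator, show ⁅J.subgroupOf N, J.subgroupOf N⁆ = J.subgroupOf N from
        map_injective N.subtype_injective (by rw [map_commutator, map_subgroupOf_eq_of_le hJN, hJ])])
      (by rw [← map_pClosure, show pClosure 2 (J.subgroupOf N) = J.subgroupOf N from
        map_injective N.subtype_injective (by rw [map_pClosure, map_subgroupOf_eq_of_le hJN, hJ2])])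
      ((hSp.comap_subtype).map q) (hWA ▸ map_mono (comap_mono hSW))
      (by
        rw [← hWA]
        refine fun hd => hSi (hd.trans ((relIndex_map_dvd q (comap_mono hSW)).trans ?_))
        rw [← subgroupOf, ← subgroupOf, relIndex_subgroupOf hWN])
      (by
        rintro _ ⟨j, hj, rfl⟩
        obtain ⟨v, hv, hvS⟩ := exists_centralizing hO hR (Or.inl hJ) hJR hJO hJU hSp
          (hSW.trans inf_le_left) (mem_subgroupOf.1 hj)
        refine ⟨q ⟨v, hVN hv⟩, ?_, Subgroup.mem_inf.2 ⟨?_, ?_⟩⟩
        · obtain ⟨c, hc, u, hu, hcu⟩ := mem_sup_exists hKC (hEK (coreIn_le _ _ hv).1)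
          refine ⟨⟨u, le_normalizer hu⟩, mem_subgroupOf.2 hu, ?_⟩
          rw [show (⟨v, hVN hv⟩ : N) = ⟨c, centralizer_le_normalizer _ hc⟩ * ⟨u, le_normalizer hu⟩
            from Subtype.ext hcu.symm, map_mul,
            (hq1 ⟨c, centralizer_le_normalizer _ hc⟩).2 hc, one_mul]
        · rw [← map_mul]
          refine mem_centralizer_iff.2 ?_
          rintro _ ⟨s, hs, rfl⟩
          rw [← map_mul, ← map_mul]
          exact congrArg q (Subtype.ext (mem_centralizer_iff.1 hvS _ (mem_subgroupOf.1 hs)))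
        · rw [← map_mul]
          refine mem_centralizer_iff.2 fun y hy => ?_
          rw [Set.mem_singleton_iff.1 hy]
          simp only [tb]
          rw [← map_mul, ← map_mul]
          refine congrArg q (Subtype.ext ?_)
          exact mem_centralizer_iff.1 (mul_mem (coreIn_le _ _ hv).2 (hJR (mem_subgroupOf.1 hj))) t htR)
    intro j hj
    obtain ⟨u, hu, huj⟩ := hle (mem_map_of_mem q (mem_subgroupOf.2 hj : (⟨j, hJN hj⟩ : N) ∈ _))
    have h := (hq1 (u⁻¹ * ⟨j, hJN hj⟩)).1 (by rw [map_mul, map_inv, huj, inv_mul_cancel])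
    have := mul_mem (mem_sup_left (T := centralizer (K : Set G)) (mem_subgroupOf.1 hu))
      (mem_sup_right (S := K) h)
    rwa [Subgroup.coe_mul, Subgroup.coe_inv, mul_inv_cancel_left] at this
  · -- `t` moves `K`
    set K' := CfsgLib.Fusion.conjBy t K
    have hK' : Cfsg.IsComponent K' := isComponent_map_equiv _ hK
    have hne : K ≠ K' := fun e => htK (CfsgLib.Fusion.conjBy_eq_iff.1 e.symm)
    have hcomm := commutator_eq_bot_iff_forall.1 (components_commute hK hK' hne)
    let φ : K →* G :=
      { toFun := fun k => (k : G) * (t * k * t⁻¹)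
        map_one' := by simp
        map_mul' := fun a b => by
          have h := hcomm b b.2 (t * a * t⁻¹) (CfsgLib.Fusion.conj_mem_conjBy a.2)
          show (a : G) * b * (t * ((a : G) * b) * t⁻¹) = _
          calc (a : G) * b * (t * ((a : G) * b) * t⁻¹)
              = (a : G) * ((b : G) * (t * a * t⁻¹)) * (t * b * t⁻¹) := by group
            _ = (a : G) * ((t * a * t⁻¹) * b) * (t * b * t⁻¹) := by rw [h]
            _ = _ := by group }
    have hφU : ∀ k : K, φ k ∈ E ⊓ centralizer (R : Set G) := by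
      intro k
      have hk' : t * k * t⁻¹ ∈ E := Subgroup.Normal.conj_mem inferInstance _ (hKE k.2) t
      refine Subgroup.mem_inf.2 ⟨mul_mem (hKE k.2) hk', mem_centralizer_iff.2 fun s hs => ?_⟩
      refine mul_inv_eq_iff_eq_mul.1 ?_
      show s * ((k : G) * (t * k * t⁻¹)) * s⁻¹ = (k : G) * (t * k * t⁻¹)
      rcases hkt (mul_mem (hKE k.2) hk') hs with e | e
      · exact e
      · rw [e]
        have h2 : t * t * (k : G) * (t * t)⁻¹ = k := by
          rw [← mem_centralizer_iff.1 ht2 k (hKE k.2), mul_inv_cancel_right]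
        calc t * ((k : G) * (t * k * t⁻¹)) * t⁻¹
            = (t * k * t⁻¹) * (t * t * k * (t * t)⁻¹) := by group
          _ = (t * k * t⁻¹) * k := by rw [h2]
          _ = _ := (hcomm k k.2 _ (CfsgLib.Fusion.conj_mem_conjBy k.2)).symm
    set pre := (coreIn 2 (E ⊓ centralizer (R : Set G))).comap φ
    haveI : pre.Normal := ⟨fun a ha b => by
      show φ (b * a * b⁻¹) ∈ coreIn 2 _
      rw [map_mul, map_mul, map_inv]
      exact (Subgroup.mem_normalizer_iff.1
        (normalizer_le_normalizer_coreIn 2 _ (le_normalizer (hφU b))) _).1 ha⟩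
    have hpre : pre ≤ center K := by
      refine (subnormal_eq_top_or_le_center hK.2 (Normal.isSubnormal inferInstance)).resolve_left
        fun h => hx ?_
      have hd : φ x ∈ coreIn 2 (E ⊓ centralizer (R : Set G)) ⊓ zpowers (φ x) :=
        ⟨(h ▸ mem_top x : x ∈ pre), mem_zpowers _⟩
      rw [pPrime_inf_pGroup_eq_bot (coprime_card_coreIn Nat.prime_two _)
        (isPGroup_zpowers (k := k) (by rw [← map_pow, hk, map_one])), Subgroup.mem_bot] at hd
      refine mem_center_iff.2 fun y => Subtype.ext ?_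
      have hd' : (x : G) * (t * x * t⁻¹) = 1 := hd
      have h1 : (x : G)⁻¹ ∈ K' :=
        (inv_eq_of_mul_eq_one_right hd').symm ▸ CfsgLib.Fusion.conj_mem_conjBy x.2
      exact hcomm y y.2 x (by simpa using inv_mem h1)
    intro j hj
    refine mem_sup_right (mem_centralizer_of_commutator_central hKp fun k hk => ?_)
    have hjk : j * k * j⁻¹ ∈ K := (Subgroup.mem_normalizer_iff.1 (hJN hj) k).1 hk
    refine Subgroup.mem_inf.2 ⟨mul_mem hjk (inv_mem hk), mem_centralizer_iff.2 fun y hy => ?_⟩
    have hmem : (⟨j * k * j⁻¹, hjk⟩ * (⟨k, hk⟩ : K)⁻¹ : K) ∈ pre := by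
      show φ _ ∈ coreIn 2 _
      rw [map_mul, map_inv]
      show j * k * j⁻¹ * (t * (j * k * j⁻¹) * t⁻¹) * (k * (t * k * t⁻¹))⁻¹ ∈ _
      have e : t * (j * k * j⁻¹) * t⁻¹ = j * (t * k * t⁻¹) * j⁻¹ := by
        rw [show t * (j * k * j⁻¹) * t⁻¹ = (t * j) * k * (t * j)⁻¹ by group, hJt hj]
        group
      rw [e, show j * k * j⁻¹ * (j * (t * k * t⁻¹) * j⁻¹) * (k * (t * k * t⁻¹))⁻¹ =
        j * (k * (t * k * t⁻¹)) * j⁻¹ * (k * (t * k * t⁻¹))⁻¹ by group]
      have hu : φ ⟨k, hk⟩ ∈ E ⊓ centralizer (R : Set G) := hφU _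
      have h1 := inv_mem (hJU (commutator_mem_commutator hu hj))
      rwa [commutatorElement_inv, commutatorElement_def] at h1
    exact congrArg Subtype.val (mem_center_iff.1 (hpre hmem) ⟨y, hy⟩)

end CfsgLib.Coprime
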