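import Cfsg.Agent.Lib.Coprime.ExtendedTwoLayer
import Cfsg.Agent.Lib.Coprime.SchurZassenhaus

/-!
# Tools for L-balance
-/

set_option autoImplicit false
set_option linter.style.haveILetI false
set_option linter.unusedSectionVars false

namespace CfsgLib.Coprime

open Subgroup
open scoped commutatorElement

variable {G : Type*} [Group G] [Finite G] {p : ℕ} [hp : Fact p.Prime]

theorem isPGroup_zpowers {x : G} {k : ℕ} (h : x ^ p ^ k = 1) : IsPGroup p (zpowers x) := by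
  obtain ⟨j, _, hj⟩ := (Nat.dvd_prime_pow hp.out).1 (orderOf_dvd_of_pow_eq_one h)
  exact IsPGroup.of_card (n := j) (by rw [Nat.card_zpowers, hj])

/-- Normalizers grow inside a `p`-group. -/
theorem lt_inf_normalizer {P Q : Subgroup G} (hP : IsPGroup p P) (h : Q < P) :
    Q < P ⊓ normalizer (Q : Set G) := by
  haveI : Group.IsNilpotent P := hP.isNilpotent
  have hne : Q.subgroupOf P < ⊤ := lt_top_iff_ne_top.2 fun e => h.not_ge (subgroupOf_eq_top.1 e)
  obtain ⟨x, hxN, hxQ⟩ := SetLike.exists_of_lt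
    (Group.normalizerCondition_of_isNilpotent _ hne)
  refine lt_of_le_of_ne (le_inf h.le le_normalizer) fun e => hxQ ?_
  rw [mem_subgroupOf, e]
  refine ⟨x.2, Subgroup.mem_normalizer_iff.2 fun y => ⟨fun hy => ?_, fun hy => ?_⟩⟩
  · exact (Subgroup.mem_normalizer_iff.1 hxN ⟨y, h.le hy⟩).1 hy
  · have hyP : y ∈ P := by
      have := mul_mem (mul_mem (inv_mem x.2) (h.le hy)) x.2
      rwa [show (x : G)⁻¹ * ((x : G) * y * (x : G)⁻¹) * (x : G) = y by group] at this
    exact (Subgroup.mem_normalizer_iff.1 hxN ⟨y, hyP⟩).2 hy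

/-- Three subgroups lemma, modulo a normalized subgroup. -/
theorem commutator_le_of_perfect {V A J : Subgroup G} (hAV : A ≤ normalizer (V : Set G))
    (hJV : J ≤ normalizer (V : Set G)) (hJ : ⁅J, J⁆ = J) (h : ⁅⁅A, J⁆, J⁆ ≤ V) : ⁅A, J⁆ ≤ V := by
  set N := normalizer (V : Set G)
  haveI : (V.subgroupOf N).Normal :=
    (normal_subgroupOf_iff_le_normalizer le_normalizer).2 le_rfl
  set q := QuotientGroup.mk' (V.subgroupOf N)
  have hAJ : ⁅A, J⁆ ≤ N := commutator_le.2 fun a ha j hj => by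
    rw [commutatorElement_def]
    exact mul_mem (mul_mem (mul_mem (hAV ha) (hJV hj)) (inv_mem (hAV ha))) (inv_mem (hJV hj))
  have e : ∀ B C : Subgroup G, B ≤ N → C ≤ N →
      (⁅B, C⁆.subgroupOf N) = ⁅B.subgroupOf N, C.subgroupOf N⁆ := by
    intro B C hB hC
    refine map_injective N.subtype_injective ?_
    rw [map_commutator, map_subgroupOf_eq_of_le hB, map_subgroupOf_eq_of_le hC,
      map_subgroupOf_eq_of_le (commutator_le.2 fun b hb c hc => by
        rw [commutatorElement_def]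
        exact mul_mem (mul_mem (mul_mem (hB hb) (hC hc)) (inv_mem (hB hb))) (inv_mem (hC hc)))]
  have key : ⁅(A.subgroupOf N).map q, (J.subgroupOf N).map q⁆ = ⊥ := by
    refine commutator_eq_bot_of_perfect ?_ ?_
    · rw [← map_commutator, ← e J J hJV hJV, hJ]
    · rw [← map_commutator, ← map_commutator, ← e A J hAV hJV, ← e _ J hAJ hJV,
        Subgroup.map_eq_bot_iff, QuotientGroup.ker_mk']
      exact Subgroup.comap_mono h
  rw [← map_commutator, ← e A J hAV hJV, Subgroup.map_eq_bot_iff, QuotientGroup.ker_mk'] at key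
  intro x hx
  exact mem_subgroupOf.1 (key (mem_subgroupOf.2 hx : (⟨x, hAJ hx⟩ : N) ∈ _))

/-- An element commuting with the `p`-group `S` modulo a `p'`-group `V` differs by an element of
`V` from one commuting with `S`. -/
theorem exists_mul_mem_centralizer {V S : Subgroup G} (hV : (Nat.card V).Coprime p)
    (hS : IsPGroup p S) (hSV : S ≤ normalizer (V : Set G)) {j : G}
    (hj : ∀ s ∈ S, j * s * j⁻¹ * s⁻¹ ∈ V) : ∃ v ∈ V, v * j ∈ centralizer (S : Set G) := by
  have hrel : ¬ p ∣ S.relIndex (S ⊔ V) := by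
    intro hd
    refine (hp.out.coprime_iff_not_dvd.1 hV.symm) (hd.trans (Nat.dvd_of_mul_dvd_mul_left
      (Nat.card_pos (α := S)) ?_))
    rw [Subgroup.relIndex, ← Nat.card_congr (subgroupOfEquivOfLe (le_sup_left : S ≤ S ⊔ V)).toEquiv,
      card_mul_index, Nat.card_congr (subgroupOfEquivOfLe (le_sup_left : S ≤ S ⊔ V)).toEquiv]
    exact card_sup_dvd_of_le_normalizer hSV
  have hle : S.map (MulAut.conj j).toMonoidHom ≤ S ⊔ V := by
    rintro _ ⟨s, hs, rfl⟩
    have := mul_mem (mem_sup_right (S := S) (hj s hs)) (mem_sup_left (T := V) hs)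
    rwa [inv_mul_cancel_right] at this
  obtain ⟨m, hm, hmle⟩ := CfsgLib.Fusion.exists_conj_le_of_not_dvd_relIndex hS
    (le_sup_left : S ≤ S ⊔ V) hrel (hS.map _) hle
  have hm' : m ∈ ((S ⊔ V : Subgroup G) : Set G) := hm
  rw [Subgroup.coe_mul_of_left_le_normalizer_right S V hSV] at hm'
  obtain ⟨y, hy, v, hv, rfl⟩ := hm'
  refine ⟨v, hv, mem_centralizer_iff.2 fun s hs => ?_⟩
  have h1 := hmle (CfsgLib.Fusion.conj_mem_conjBy (g := y * v)
    (mem_map_of_mem (MulAut.conj j).toMonoidHom hs))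
  simp only [MulEquiv.coe_toMonoidHom, MulAut.conj_apply] at h1
  have h2 := mul_mem (mul_mem (inv_mem hy) h1) hy
  rw [show y⁻¹ * (y * v * (j * s * j⁻¹) * (y * v)⁻¹) * y = v * j * s * (v * j)⁻¹ by group] at h2
  have h3 : v * j * s * (v * j)⁻¹ * s⁻¹ ∈ V := by
    rw [show v * j * s * (v * j)⁻¹ * s⁻¹ = v * (j * s * j⁻¹ * s⁻¹) * (s * v⁻¹ * s⁻¹) by group]
    exact mul_mem (mul_mem hv (hj s hs))
      ((Subgroup.mem_normalizer_iff.1 (hSV hs) _).1 (inv_mem hv))
  have h4 : v * j * s * (v * j)⁻¹ * s⁻¹ ∈ (⊥ : Subgroup G) :=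
    pPrime_inf_pGroup_eq_bot hV hS ▸ Subgroup.mem_inf.2 ⟨h3, mul_mem h2 (inv_mem hs)⟩
  rw [Subgroup.mem_bot, mul_inv_eq_one, mul_inv_eq_iff_eq_mul] at h4
  exact h4.symm

/-- A perfect group covering a perfect image can be found inside any covering subgroup. -/
theorem exists_perfect_le {H : Type*} [Group H] (f : G →* H) {C : Subgroup G} {J : Subgroup H}
    (hJ : ⁅J, J⁆ = J) (hle : J ≤ C.map f) : ∃ C₁ ≤ C, ⁅C₁, C₁⁆ = C₁ ∧ C₁.map f = J := by
  obtain ⟨C₁, ⟨h1, h2⟩, hmin⟩ := exists_minimal_of_wellFoundedLT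
    (fun D : Subgroup G => D ≤ C ∧ J ≤ D.map f) ⟨C, le_rfl, hle⟩
  have hsub : ∀ D : Subgroup G, D ≤ C₁ → J ≤ D.map f → D = C₁ := fun D hD hJD =>
    le_antisymm hD (hmin ⟨hD.trans h1, hJD⟩ hD)
  refine ⟨C₁, h1, hsub _ (commutator_le_self C₁) ?_, le_antisymm ?_ h2⟩
  · rw [map_commutator]
    exact hJ.ge.trans (commutator_mono h2 h2)
  · have h3 := hsub (C₁ ⊓ J.comap f) inf_le_left (fun y hy => by
      obtain ⟨x, hx, rfl⟩ := h2 hy
      exact ⟨x, ⟨hx, hy⟩, rfl⟩)
    rw [← h3]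
    exact map_le_iff_le_comap.2 inf_le_right

/-- If all `p`-elements of `W` lie in the subgroup `Q` centralized by `W`, then `W` is the product
of its `p`-elements and its `p'`-core. -/
theorem exists_mul_core_of_central {W Q : Subgroup G} (hQc : W ≤ centralizer (Q : Set G))
    (hQ : ∀ w ∈ W, ∀ k : ℕ, w ^ p ^ k = 1 → w ∈ Q) {w : G} (hw : w ∈ W) :
    ∃ z ∈ W ⊓ Q, ∃ d ∈ coreIn p W, w = z * d := by
  obtain ⟨P⟩ : Nonempty (Sylow p W) := inferInstance
  have hPQ : ∀ x ∈ (P : Subgroup W), (x : G) ∈ Q := fun x hx => by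
    obtain ⟨k, hk⟩ := P.2 ⟨x, hx⟩
    exact hQ x x.2 k (by simpa using congrArg (fun t : ↥(P : Subgroup W) => ((t : W) : G)) hk)
  have hPc : (P : Subgroup W) ≤ center W := fun x hx => mem_center_iff.2 fun y =>
    Subtype.ext (mem_centralizer_iff.1 (hQc y.2) x (hPQ x hx)).symm
  haveI : (P : Subgroup W).Normal :=
    ⟨fun x hx y => by rw [mem_center_iff.1 (hPc hx) y, mul_inv_cancel_right]; exact hx⟩
  obtain ⟨K, hK⟩ := Subgroup.exists_right_complement'_of_coprime P.card_coprime_index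
  haveI : K.Normal := ⟨fun k hk y => by
    obtain ⟨⟨⟨a, ha⟩, ⟨b, hb⟩⟩, rfl, -⟩ := hK.existsUnique y
    dsimp
    rw [show a * b * k * (a * b)⁻¹ = a * (b * k * b⁻¹) * a⁻¹ by group,
      ← mem_center_iff.1 (hPc ha) (b * k * b⁻¹), mul_inv_cancel_right]
    exact mul_mem (mul_mem hb hk) (inv_mem hb)⟩
  have hKp : ¬ p ∣ Nat.card K := by
    rw [← hK.symm.index_eq_card]
    exact P.not_dvd_index
  obtain ⟨⟨⟨a, ha⟩, ⟨b, hb⟩⟩, hab, -⟩ := hK.existsUnique ⟨w, hw⟩
  exact ⟨a, ⟨a.2, hPQ a ha⟩, b, ⟨b, le_pPrimeCore_of_not_dvd hp.out hKp hb, rfl⟩,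
    (congrArg Subtype.val hab).symm⟩

/-- If the `p`-elements of `W = A ∩ C(Q)` lie in `Q`, a perfect subgroup of `C(Q)` centralizes
`A ∩ N(Q)` modulo `O_{p'}(W)`. -/
theorem commutator_le_core {A Q J : Subgroup G} [A.Normal]
    (hQ : ∀ w ∈ A ⊓ centralizer (Q : Set G), ∀ k : ℕ, w ^ p ^ k = 1 → w ∈ Q)
    (hJ : ⁅J, J⁆ = J) (hJQ : J ≤ centralizer (Q : Set G)) {n : G} (hn : n ∈ A)
    (hnQ : n ∈ normalizer (Q : Set G)) {j : G} (hj : j ∈ J) :
    ⁅n, j⁆ ∈ coreIn p (A ⊓ centralizer (Q : Set G)) := by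
  set C := centralizer (Q : Set G) with hC
  set W := A ⊓ C
  have hCW : C ≤ normalizer (W : Set G) :=
    inf_le_normalizer (by rw [Subgroup.normalizer_eq_top A]; exact le_top) le_normalizer
  have hNW : normalizer (Q : Set G) ≤ normalizer (W : Set G) :=
    inf_le_normalizer (by rw [Subgroup.normalizer_eq_top A]; exact le_top)
      (normalizer_le_normalizer_centralizer Q)
  set V := coreIn p W with hV
  have hVn := normalizer_le_normalizer_coreIn p W
  have hWC : ⁅W, C⁆ ≤ V := by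
    rw [commutator_le]
    intro w hw c hc
    obtain ⟨z, hz, d, hd, rfl⟩ := exists_mul_core_of_central (p := p)
      (inf_le_right : W ≤ C) hQ hw
    have hzc : z * c = c * z := mem_centralizer_iff.1 hc z hz.2
    rw [commutatorElement_def, show z * d * c * (z * d)⁻¹ * c⁻¹ =
      (z * d) * c * d⁻¹ * (z⁻¹ * c⁻¹) by group, show z⁻¹ * c⁻¹ = c⁻¹ * z⁻¹ by
        rw [← mul_inv_rev, ← mul_inv_rev, hzc],
      show z * d * c * d⁻¹ * (c⁻¹ * z⁻¹) = z * (d * (c * d⁻¹ * c⁻¹)) * z⁻¹ by group]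
    exact (Subgroup.mem_normalizer_iff.1 (hVn (hCW hz.1.2)) _).1
      (mul_mem hd ((Subgroup.mem_normalizer_iff.1 (hVn (hCW hc)) _).1 (inv_mem hd)))
  refine commutator_le_of_perfect (A := zpowers n) (zpowers_le.2 (hVn (hNW hnQ)))
    (hJQ.trans (hCW.trans hVn)) hJ ?_ (commutator_mem_commutator (mem_zpowers n) hj)
  refine le_trans (commutator_mono ?_ hJQ) hWC
  rw [commutator_le]
  intro a ha c hc
  have haA : a ∈ A := zpowers_le.2 hn ha
  have haN : a ∈ normalizer (Q : Set G) := zpowers_le.2 hnQ ha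
  refine Subgroup.mem_inf.2 ⟨?_, ?_⟩
  · rw [commutatorElement_def, show a * c * a⁻¹ * c⁻¹ = a * (c * a⁻¹ * c⁻¹) by group]
    exact mul_mem haA (Subgroup.Normal.conj_mem inferInstance _ (inv_mem haA) c)
  · rw [commutatorElement_def]
    exact mul_mem ((Subgroup.mem_normalizer_iff.1
      (normalizer_le_normalizer_centralizer Q haN) c).1 (hJQ hc)) (inv_mem (hJQ hc))

end CfsgLib.Coprime
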