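import Cfsg.Prelude.Def_EvenTechniques
import Cfsg.Agent.Lib.Coprime.LBalance.LocalBalance

/-!
# Weak local balance gives weak balance

If the components are weakly locally `k`-balanced, then `⁅Δ(A), T⁆ = 1` in a group with trivial
`p'`-core, for a `p`-elementary abelian group `T` normalizing all components and commuting with `A`.
-/

set_option autoImplicit false
set_option linter.style.haveILetI false
set_option linter.unusedSectionVars false

namespace CfsgLib.Coprime

open Subgroup
open scoped commutatorElement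

variable {G : Type*} [Group G] [Finite G] {p : ℕ} [hp : Fact p.Prime]

theorem signalizerDelta_map_equiv {G' : Type*} [Group G'] [Finite G'] (e : G ≃* G') (A : Subgroup G) :
    (Cfsg.signalizerDelta p A).map e.toMonoidHom ≤ Cfsg.signalizerDelta p (A.map e.toMonoidHom) := by
  refine le_iInf ?_
  rintro ⟨_, ⟨a, ha, rfl⟩, ha1⟩
  rw [show Cfsg.centralizerPPrimeCore p ((⟨e.toMonoidHom a, ⟨a, ha, rfl⟩, ha1⟩ :
    {y : G' // y ∈ A.map e.toMonoidHom ∧ y ≠ 1}) : G') = Cfsg.centralizerPPrimeCore p (e a) from rfl,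
    ← map_centralizerPPrimeCore_equiv]
  exact map_mono (iInf_le (fun a : {a : G // a ∈ A ∧ a ≠ 1} =>
    Cfsg.centralizerPPrimeCore p (a : G)) ⟨a, ha, fun e' => ha1 (by simp [e'])⟩)

theorem commutator_signalizerDelta_le_centralizer_component (hO : Cfsg.pPrimeCore p G = ⊥)
    {A T : Subgroup G} (hA : Cfsg.IsElementaryAbelian p A) (hA1 : A ≠ ⊥)
    (hT : ∀ t ∈ T, t ^ p = 1) (hTA : ∀ t ∈ T, ∀ a ∈ A, a * t = t * a) (hAT : A ≤ T)
    {K : Subgroup G} (hK : Cfsg.IsComponent K) (hTN : T ≤ normalizer (K : Set G))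
    (hloc : ∀ (H : Subgroup G), K ≤ H → H ≤ normalizer (K : Set G) →
      ∀ [((centralizer (K : Set G)).subgroupOf H).Normal],
      ∀ A' : Subgroup (H ⧸ (centralizer (K : Set G)).subgroupOf H),
        Cfsg.IsElementaryAbelian p A' → Nat.card A' = Nat.card A →
        ∀ x, x ^ p = 1 → x ∈ centralizer (A' : Set _) →
          Cfsg.signalizerDelta p A' ≤ centralizer {x}) :
    ⁅Cfsg.signalizerDelta p A, T⁆ ≤ centralizer (K : Set G) := by
  have hDB : ∀ a ∈ A, a ≠ 1 → Cfsg.signalizerDelta p A ≤ Cfsg.centralizerPPrimeCore p a :=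
    fun a ha h1 => iInf_le (fun a : {a : G // a ∈ A ∧ a ≠ 1} =>
      Cfsg.centralizerPPrimeCore p (a : G)) ⟨a, ha, h1⟩
  have hAN : A ≤ normalizer (K : Set G) := hAT.trans hTN
  by_cases hcn : ∃ a ∈ A, a ≠ 1 ∧ a ∈ centralizer (K : Set G)
  · obtain ⟨a, ha, h1, haK⟩ := hcn
    rw [commutator_le]
    intro d hd t ht
    have hd' := (hDB a ha h1).trans (coreCentralizer_le_centralizer_of_centralized hO hK haK) hd
    have ht' := normalizer_le_normalizer_centralizer K (hTN ht)
    rw [commutatorElement_def, show d * t * d⁻¹ * t⁻¹ = d * (t * d⁻¹ * t⁻¹) by group]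
    exact mul_mem hd' ((Subgroup.mem_normalizer_iff.1 ht' _).1 (inv_mem hd'))
  push Not at hcn
  set D := Cfsg.signalizerDelta p A with hD
  obtain ⟨a₀, ha₀, ha₀1⟩ : ∃ a ∈ A, a ≠ 1 := by
    by_contra h
    push Not at h
    exact hA1 ((eq_bot_iff_forall _).2 h)
  have hAp : ∀ a ∈ A, IsPGroup p (zpowers a) := fun a ha =>
    isPGroup_zpowers (k := 1) (by rw [pow_one]; exact hA.2 a ha)
  have hDN : D ≤ normalizer (K : Set G) := by
    refine (hDB a₀ ha₀ ha₀1).trans ?_
    rw [centralizerPPrimeCore_eq]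
    exact coreCentralizer_le_normalizer_component hO (hAp a₀ ha₀) hK
  have hAc : ∀ a ∈ A, ∀ b ∈ A, a * b = b * a := fun a ha b hb =>
    congrArg Subtype.val (hA.1.is_comm.comm (⟨a, ha⟩ : A) ⟨b, hb⟩)
  have hAB : ∀ a ∈ A, A ≤ normalizer ((Cfsg.centralizerPPrimeCore p a : Subgroup G) : Set G) :=
    fun a ha b hb => normalizer_le_normalizer_coreIn p _ (le_normalizer
      (show b ∈ centralizer ({a} : Set G) from mem_centralizer_iff.2 fun y hy => by
        rw [Set.mem_singleton_iff.1 hy]; exact hAc a ha b hb))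
  set C := centralizer (K : Set G)
  set H := (C ⊔ K) ⊔ (T ⊔ D)
  have hCKN : C ⊔ K ≤ normalizer (K : Set G) := sup_le (centralizer_le_normalizer _) le_normalizer
  have hHN : H ≤ normalizer (K : Set G) := sup_le hCKN (sup_le hTN hDN)
  have hCH : C ≤ H := le_sup_of_le_left le_sup_left
  haveI : (C.subgroupOf H).Normal := (normal_subgroupOf_iff_le_normalizer hCH).2
    (hHN.trans (normalizer_le_normalizer_centralizer K))
  have hTH : T ≤ H := le_sup_of_le_right le_sup_left
  have hAH : A ≤ H := hAT.trans hTH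
  have hDH : D ≤ H := le_sup_of_le_right le_sup_right
  set q := QuotientGroup.mk' (C.subgroupOf H)
  have hq1 : ∀ g : H, q g = 1 ↔ (g : G) ∈ C := fun g =>
    (QuotientGroup.eq_one_iff g).trans mem_subgroupOf
  set A' := (A.subgroupOf H).map q
  have hinj : Set.InjOn q (A.subgroupOf H : Set H) := by
    intro a ha b hb e
    by_contra hne
    refine hcn ((a : G) * (b : G)⁻¹) (mul_mem ha (inv_mem hb)) ?_ ((hq1 (a * b⁻¹)).1 ?_)
    · exact fun h => hne (Subtype.ext (mul_inv_eq_one.1 h))
    · rw [map_mul, map_inv, e, mul_inv_cancel]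
  have hA'card : Nat.card A' = Nat.card A := by
    rw [← Nat.card_congr (subgroupOfEquivOfLe hAH).toEquiv]
    exact Nat.card_image_of_injOn hinj
  have hA' : Cfsg.IsElementaryAbelian p A' := by
    refine ⟨⟨⟨?_⟩⟩, ?_⟩
    · rintro ⟨_, a, ha, rfl⟩ ⟨_, b, hb, rfl⟩
      refine Subtype.ext ?_
      show q a * q b = q b * q a
      rw [← map_mul, ← map_mul]
      exact congrArg q (Subtype.ext (hAc a ha b hb))
    · rintro _ ⟨a, ha, rfl⟩
      rw [← map_pow, show a ^ p = 1 from Subtype.ext (by simpa using hA.2 a ha), map_one]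
  have hloc' := hloc H (le_sup_of_le_left le_sup_right) hHN A' hA' hA'card
  have hle : (D.subgroupOf H).map q ≤ Cfsg.signalizerDelta p A' := by
    refine le_iInf ?_
    rintro ⟨y, ⟨⟨a, haH⟩, ha, rfl⟩, ha1⟩
    have haA : a ∈ A := ha
    have ha1' : a ≠ 1 := fun e => ha1 (by subst e; exact map_one q)
    set B := Cfsg.centralizerPPrimeCore p a with hB
    have hRp := hAp a haA
    have hBe : B = coreIn p (centralizer ((zpowers a : Subgroup G) : Set G)) :=
      centralizerPPrimeCore_eq a
    obtain ⟨hBcop, hBC, hBO, hBU, hVB⟩ := coreCentralizer_data hRp B hBe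
    have haB : ∀ b ∈ B, a * b = b * a := fun b hb =>
      mem_centralizer_iff.1 (coreIn_le p (centralizer ({a} : Set G)) hb) a (Set.mem_singleton a)
    refine le_trans (b := ((B ⊓ H).subgroupOf H).map q)
      (map_mono (comap_mono (le_inf (hDB a haA ha1') hDH))) ?_
    refine le_coreIn ?_ ?_ ?_
    · rintro _ ⟨b, hb, rfl⟩
      refine mem_centralizer_iff.2 fun y hy => ?_
      rw [Set.mem_singleton_iff.1 hy]
      show q _ * q b = q b * q _
      rw [← map_mul, ← map_mul]
      exact congrArg q (Subtype.ext (haB _ (mem_subgroupOf.1 hb).1))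
    · intro z hz
      obtain ⟨h, rfl⟩ := QuotientGroup.mk'_surjective _ z
      -- decompose `h` as `c k r`
      obtain ⟨n, hn, r, hr, hnr⟩ := mem_sup_exists (N := C ⊔ K) (H := T ⊔ D)
        (Coprime.sup_le_normalizer
          ((sup_le hTN hDN).trans (normalizer_le_normalizer_centralizer K)) (sup_le hTN hDN)) h.2
      obtain ⟨c, hc, k, hk, hck⟩ := mem_sup_exists
        (le_normalizer.trans (normalizer_le_normalizer_centralizer K)) hn
      have hkH : k ∈ H := mem_sup_left (mem_sup_right hk)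
      have hrH : r ∈ H := mem_sup_right hr
      have hcH : c ∈ H := hCH hc
      have hqh : q h = q ⟨k, hkH⟩ * q ⟨r, hrH⟩ := by
        rw [show h = ⟨c, hcH⟩ * ⟨k, hkH⟩ * ⟨r, hrH⟩ from Subtype.ext (by
          show (h : G) = c * k * r
          rw [hck, hnr]), map_mul, map_mul, (hq1 ⟨c, hcH⟩).2 hc, one_mul]
      have hADa : T ⊔ D ≤ centralizer ({a} : Set G) := sup_le
        (fun b hb => mem_centralizer_iff.2 fun y hy => by
          rw [Set.mem_singleton_iff.1 hy]; exact hTA b hb a haA)
        ((hDB a haA ha1').trans (coreIn_le _ _))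
      have hrB : r ∈ normalizer (B : Set G) :=
        normalizer_le_normalizer_coreIn p _ (le_normalizer (hADa hr))
      have hra : q ⟨r, hrH⟩ * q ⟨a, haH⟩ = q ⟨a, haH⟩ * q ⟨r, hrH⟩ := by
        rw [← map_mul, ← map_mul]
        exact congrArg q (Subtype.ext (mem_centralizer_iff.1 (hADa hr) a (Set.mem_singleton a)).symm)
      have hz' : q ⟨a, haH⟩ * q h = q h * q ⟨a, haH⟩ :=
        mem_centralizer_iff.1 hz _ (Set.mem_singleton _)
      have hka : Commute (q ⟨a, haH⟩) (q ⟨k, hkH⟩) := by
        rw [hqh, mul_assoc (q ⟨k, hkH⟩), hra, ← mul_assoc, ← mul_assoc] at hz'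
        exact mul_right_cancel hz'
      have hkU : k ∈ relCent (zpowers a) := by
        refine mem_relCent_iff.2 ⟨component_le_layer hK hk, fun s hs => ?_⟩
        obtain ⟨i, rfl⟩ := mem_zpowers_iff.1 hs
        refine inf_centralizer_le_centralizer_layer hK (Subgroup.mem_inf.2
          ⟨mul_mem ((Subgroup.mem_normalizer_iff.1 (zpow_mem (hAN haA) i) k).1 hk) (inv_mem hk), ?_⟩)
        refine (hq1 ((⟨a, haH⟩ : H) ^ i * ⟨k, hkH⟩ * ((⟨a, haH⟩ : H) ^ i)⁻¹ *
          (⟨k, hkH⟩ : H)⁻¹)).1 ?_
        rw [map_mul, map_mul, map_mul, map_inv, map_inv, map_zpow, (hka.zpow_left i).eq,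
          mul_inv_cancel_right, mul_inv_cancel]
      have hkB : k ∈ normalizer (B : Set G) := by
        have hconj : ∀ k ∈ relCent (zpowers a), ∀ b ∈ B, k * b * k⁻¹ ∈ B := by
          intro k hk b hb
          have h1 := hVB (commutator_relCent_le hO hRp (Or.inr hBcop) hBC hBO hBU
            (commutator_mem_commutator hk hb))
          rw [commutatorElement_def] at h1
          have := mul_mem h1 hb
          rwa [inv_mul_cancel_right] at this
        refine Subgroup.mem_normalizer_iff.2 fun b => ⟨hconj k hkU b, fun hb => ?_⟩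
        have := hconj _ (inv_mem hkU) _ hb
        rwa [show k⁻¹ * (k * b * k⁻¹) * k⁻¹⁻¹ = b by group] at this
      have hkr : (⟨k, hkH⟩ * ⟨r, hrH⟩ : H) ∈ normalizer (((B ⊓ H).subgroupOf H : Subgroup H) : Set H) := by
        refine Subgroup.mem_normalizer_iff.2 fun b => ?_
        simp only [mem_subgroupOf, Subgroup.mem_inf]
        have := Subgroup.mem_normalizer_iff.1 (mul_mem hkB hrB) (b : G)
        exact ⟨fun hb => ⟨this.1 hb.1, SetLike.coe_mem _⟩, fun hb => ⟨this.2 hb.1, b.2⟩⟩
      rw [hqh, ← map_mul]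
      exact le_normalizer_map q (mem_map_of_mem q hkr)
    · refine Nat.Coprime.coprime_dvd_left (card_map_dvd _ q) ?_
      rw [Nat.card_congr (subgroupOfEquivOfLe inf_le_right).toEquiv]
      exact hBcop.coprime_dvd_left (card_dvd_of_le inf_le_left)
  rw [commutator_le]
  intro d hd t ht
  let dh : H := ⟨d, hDH hd⟩
  let th : H := ⟨t, hTH ht⟩
  have hx := hloc' (q th) (by
      rw [← map_pow, show th ^ p = 1 from Subtype.ext (by simpa [th] using hT t ht), map_one])
    (mem_centralizer_iff.2 (by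
      rintro _ ⟨a, ha, rfl⟩
      rw [← map_mul, ← map_mul]
      exact congrArg q (Subtype.ext (hTA t ht a ha))))
    (hle (mem_map_of_mem q (mem_subgroupOf.2 hd : dh ∈ _)))
  have hc := mem_centralizer_iff.1 hx (q th) (Set.mem_singleton _)
  refine (hq1 ⁅dh, th⁆).1 ?_
  rw [map_commutatorElement, commutatorElement_eq_one_iff_mul_comm]
  exact hc.symm

/-- `⁅Δ(A), T⁆ = 1` when all components are weakly locally `k`-balanced. -/
theorem commutator_signalizerDelta_eq_bot (hO : Cfsg.pPrimeCore p G = ⊥) {k : ℕ} (hk : 1 ≤ k)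
    (h : ∀ K : Subgroup G, Cfsg.IsComponent K → Cfsg.IsWeaklyLocallyKBalanced p k ↥K)
    {A T : Subgroup G} (hA : Cfsg.IsElementaryAbelian p A) (hcard : Nat.card A = p ^ k)
    (hT : ∀ t ∈ T, t ^ p = 1) (hTA : ∀ t ∈ T, ∀ a ∈ A, a * t = t * a) (hAT : A ≤ T)
    (hTN : ∀ K : Subgroup G, Cfsg.IsComponent K → T ≤ normalizer (K : Set G))
    (hTD : T ≤ normalizer (Cfsg.signalizerDelta p A : Set G)) :
    ⁅Cfsg.signalizerDelta p A, T⁆ = ⊥ := by
  have hA1 : A ≠ ⊥ := fun e => by
    rw [e, card_bot] at hcard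
    exact (Nat.one_lt_pow (by omega) hp.out.one_lt).ne hcard
  obtain ⟨a, ha, ha1⟩ : ∃ a ∈ A, a ≠ 1 := by
    by_contra h
    push Not at h
    exact hA1 ((eq_bot_iff_forall _).2 h)
  set D := Cfsg.signalizerDelta p A
  have hDB : D ≤ coreIn p (centralizer ((zpowers a : Subgroup G) : Set G)) := by
    rw [← centralizerPPrimeCore_eq]
    exact iInf_le (fun a : {a : G // a ∈ A ∧ a ≠ 1} => Cfsg.centralizerPPrimeCore p (a : G))
      ⟨a, ha, ha1⟩
  obtain ⟨hcop, -, hBO, -, -⟩ := coreCentralizer_data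
    (isPGroup_zpowers (p := p) (k := 1) (x := a) (by rw [pow_one]; exact hA.2 a ha)) _ rfl
  have hWD : ⁅D, T⁆ ≤ D := by
    rw [commutator_le]
    intro d hd t ht
    rw [commutatorElement_def, show d * t * d⁻¹ * t⁻¹ = d * (t * d⁻¹ * t⁻¹) by group]
    exact mul_mem hd ((Subgroup.mem_normalizer_iff.1 (hTD ht) _).1 (inv_mem hd))
  have hcomp : ∀ K : Subgroup G, Cfsg.IsComponent K → ⁅D, T⁆ ≤ centralizer (K : Set G) := by
    intro K hK
    refine commutator_signalizerDelta_le_centralizer_component hO hA hA1 hT hTA hAT hK (hTN K hK)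
      fun H hKH hHN hn A' hA' hA'c x hx hxA => ?_
    haveI := hn
    obtain ⟨Φ, hΦ⟩ : ∃ Φ : H →* MulAut ↥K, ∀ (g : H) (k : ↥K), Φ g k =
        ⟨(g : G) * k * (g : G)⁻¹, (Subgroup.mem_normalizer_iff.1 (hHN g.2) k).1 k.2⟩ :=
      ⟨(normalizerMonoidHom K).comp (inclusion hHN), fun g k => rfl⟩
    have hker : Φ.ker = (centralizer (K : Set G)).subgroupOf H := by
      ext g
      rw [MonoidHom.mem_ker, mem_subgroupOf, mem_centralizer_iff]
      constructor
      · intro hg x hx
        have e : (g : G) * x * (g : G)⁻¹ = x := by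
          have := congrArg Subtype.val (hΦ g ⟨x, hx⟩)
          rw [hg] at this
          exact this.symm
        exact (mul_inv_eq_iff_eq_mul.1 e).symm
      · intro hg
        refine MulEquiv.ext fun k => ?_
        rw [hΦ, MulAut.one_apply]
        exact Subtype.ext (by show (g : G) * k * (g : G)⁻¹ = k; rw [← hg k k.2, mul_inv_cancel_right])
    have hInn : (MulAut.conj : ↥K →* MulAut _).range ≤ Φ.range := by
      rintro _ ⟨k, rfl⟩
      refine ⟨⟨k, hKH k.2⟩, MulEquiv.ext fun l => ?_⟩
      rw [hΦ]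
      rfl
    set e := (QuotientGroup.quotientMulEquivOfEq hker.symm).trans (QuotientGroup.quotientKerEquivRange Φ)
    by_cases hx1 : x = 1
    · subst hx1
      exact fun y _ => mem_centralizer_iff.2 fun z hz => by
        rw [Set.mem_singleton_iff.1 hz, one_mul, mul_one]
    have hbal := h K hK Φ.range hInn (A'.map e.toMonoidHom)
      ⟨⟨⟨fun u v => Subtype.ext (by
        obtain ⟨_, a, ha, rfl⟩ := u
        obtain ⟨_, b, hb, rfl⟩ := v
        show e a * e b = e b * e a
        rw [← map_mul, ← map_mul]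
        exact congrArg e (congrArg Subtype.val (hA'.1.is_comm.comm (⟨a, ha⟩ : A') ⟨b, hb⟩)))⟩⟩, by
        rintro _ ⟨a, ha, rfl⟩
        rw [← map_pow, hA'.2 a ha, map_one]⟩
      (by rw [card_map_of_injective e.injective, hA'c, hcard]) (e x)
      (orderOf_eq_prime (by rw [← map_pow, hx, map_one]) (fun he => hx1 (e.injective (by rw [he, map_one]))))
      (mem_centralizer_iff.2 (by
        rintro _ ⟨a, ha, rfl⟩
        show e a * e x = e x * e a
        rw [← map_mul, ← map_mul]
        exact congrArg e (mem_centralizer_iff.1 hxA a ha)))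
    intro y hy
    have hey := mem_centralizer_iff.1 (hbal (signalizerDelta_map_equiv e A' (mem_map_of_mem _ hy)))
      (e x) (Set.mem_singleton _)
    refine mem_centralizer_iff.2 fun z hz => e.injective ?_
    rw [Set.mem_singleton_iff.1 hz, map_mul, map_mul]
    exact hey
  have hE : ⁅D, T⁆ ≤ centralizer (Cfsg.layer G : Set G) := by
    rw [le_centralizer_iff]
    exact sSup_le fun K hK => le_centralizer_iff.1 (hcomp K hK)
  have hF : ⁅D, T⁆ ≤ centralizer (Cfsg.generalizedFittingSubgroup G : Set G) := by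
    rw [le_centralizer_iff, Cfsg.generalizedFittingSubgroup,
      fitting_eq_pCore_of_pPrimeCore_eq_bot hO]
    exact sup_le (le_centralizer_iff.1 hE) (le_centralizer_iff.1 ((hWD.trans hDB).trans hBO))
  have h1 : ⁅D, T⁆ ≤ Cfsg.pCore p G := by
    rw [← fitting_eq_pCore_of_pPrimeCore_eq_bot hO, ← generalizedFitting_inf_centralizer_layer]
    exact le_inf (hF.trans centralizer_generalizedFitting_le) hE
  rw [eq_bot_iff, ← pPrime_inf_pGroup_eq_bot hcop (pCore_isPGroup p)]
  exact le_inf (hWD.trans hDB) h1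

/-- The image of `Δ_G(A) ∩ C(b)` in `C(b) / O_{p'}(C(b))` lies in `Δ` of the image of `A`. -/
theorem exists_signalizerDelta_image {A : Subgroup G} (hA : Cfsg.IsElementaryAbelian p A)
    {b : G} (hb : ∀ a ∈ A, a * b = b * a) :
    ∃ A' : Subgroup (↥(centralizer ({b} : Set G)) ⧸ Cfsg.pPrimeCore p ↥(centralizer ({b} : Set G))),
      A' = (A.subgroupOf (centralizer ({b} : Set G))).map
        (QuotientGroup.mk' (Cfsg.pPrimeCore p ↥(centralizer ({b} : Set G)))) ∧
      Cfsg.IsElementaryAbelian p A' ∧ Nat.card A' = Nat.card A ∧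
      ((Cfsg.signalizerDelta p A ⊓ centralizer {b}).subgroupOf (centralizer ({b} : Set G))).map
        (QuotientGroup.mk' (Cfsg.pPrimeCore p ↥(centralizer ({b} : Set G)))) ≤
          Cfsg.signalizerDelta p A' := by
  set C := centralizer ({b} : Set G) with hCdef
  have hAC : A ≤ C := fun a ha => mem_centralizer_iff.2 fun y hy => by
    rw [Set.mem_singleton_iff.1 hy]; exact (hb a ha).symm
  set O := Cfsg.pPrimeCore p C
  set q := QuotientGroup.mk' O
  have hq1 : ∀ g : C, q g = 1 ↔ g ∈ O := fun g => QuotientGroup.eq_one_iff g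
  have hAp : IsPGroup p (A.subgroupOf C) := fun x => ⟨1, Subtype.ext (Subtype.ext (by
    simpa using hA.2 _ (mem_subgroupOf.1 x.2)))⟩
  have hdisj : ∀ a ∈ A.subgroupOf C, q a = 1 → a = 1 := fun a ha hqa => by
    have : a ∈ (⊥ : Subgroup C) := pPrime_inf_pGroup_eq_bot (pPrimeCore_coprime hp.out) hAp ▸
      Subgroup.mem_inf.2 ⟨(hq1 a).1 hqa, ha⟩
    exact this
  set A' := (A.subgroupOf C).map q
  have hcard : Nat.card A' = Nat.card A := by
    rw [← Nat.card_congr (subgroupOfEquivOfLe hAC).toEquiv]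
    refine Nat.card_image_of_injOn fun x hx y hy exy => mul_inv_eq_one.1 ?_
    exact hdisj _ (mul_mem hx (inv_mem hy)) (by rw [map_mul, map_inv, exy, mul_inv_cancel])
  have hA' : Cfsg.IsElementaryAbelian p A' := by
    refine ⟨⟨⟨?_⟩⟩, ?_⟩
    · rintro ⟨_, a, ha, rfl⟩ ⟨_, c, hc, rfl⟩
      refine Subtype.ext ?_
      show q a * q c = q c * q a
      rw [← map_mul, ← map_mul]
      have h := congrArg Subtype.val (hA.1.is_comm.comm (⟨(a : G), ha⟩ : A) ⟨(c : G), hc⟩)
      exact congrArg q (Subtype.ext h)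
    · rintro _ ⟨a, ha, rfl⟩
      rw [← map_pow, show a ^ p = 1 from Subtype.ext (by simpa using hA.2 _ ha), map_one]
  have hle : ((Cfsg.signalizerDelta p A ⊓ C).subgroupOf C).map q ≤ Cfsg.signalizerDelta p A' := by
    refine le_iInf ?_
    rintro ⟨_, ⟨a, ha, rfl⟩, ha1⟩
    have haA : (a : G) ∈ A := ha
    have ha1' : (a : G) ≠ 1 := fun e => ha1 (by
      rw [show a = 1 from Subtype.ext e, map_one])
    set B := Cfsg.centralizerPPrimeCore p (a : G)
    refine le_trans (b := ((B ⊓ C).subgroupOf C).map q) (map_mono (comap_mono (inf_le_inf_right _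
      (iInf_le (fun a : {a : G // a ∈ A ∧ a ≠ 1} => Cfsg.centralizerPPrimeCore p (a : G))
        ⟨(a : G), haA, ha1'⟩)))) ?_
    refine le_coreIn ?_ ?_ ?_
    · rintro _ ⟨c, hc, rfl⟩
      refine mem_centralizer_iff.2 fun y hy => ?_
      rw [Set.mem_singleton_iff.1 hy]
      show q a * q c = q c * q a
      rw [← map_mul, ← map_mul]
      exact congrArg q (Subtype.ext (mem_centralizer_iff.1
        (coreIn_le p (centralizer ({(a : G)} : Set G)) (mem_subgroupOf.1 hc).1) _ (Set.mem_singleton _)))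
    · intro z hz
      obtain ⟨g, rfl⟩ := QuotientGroup.mk'_surjective _ z
      obtain ⟨o, ho, hn⟩ := exists_mem_normalizer_lift (O := O) (P := zpowers a)
        (pPrimeCore_not_dvd hp.out) (hAp.to_le (zpowers_le.2 ha)) (g := g) (by
          rw [MonoidHom.map_zpowers]
          refine centralizer_le_normalizer _ ?_
          rw [centralizer_zpowers_eq]
          exact hz)
      have hog : q (o * g) = q g := by rw [map_mul, (hq1 o).2 ho, one_mul]
      have hcomm : a * (o * g) = (o * g) * a := by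
        have h1 : (o * g) * a * (o * g)⁻¹ * a⁻¹ = 1 := by
          refine hdisj _ (zpowers_le.2 ha (mul_mem
            ((Subgroup.mem_normalizer_iff.1 hn a).1 (mem_zpowers a)) (inv_mem (mem_zpowers a)))) ?_
          rw [map_mul, map_mul, map_mul, map_inv, map_inv, hog,
            ← mem_centralizer_iff.1 hz (q a) (Set.mem_singleton _), mul_inv_cancel_right, mul_inv_cancel]
        rw [mul_inv_eq_one, mul_inv_eq_iff_eq_mul] at h1
        exact h1.symm
      rw [← hog]
      refine le_normalizer_map q (mem_map_of_mem q ?_)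
      have hB : ((o * g : C) : G) ∈ normalizer (B : Set G) :=
        normalizer_le_normalizer_coreIn p _ (le_normalizer (show ((o * g : C) : G) ∈
          centralizer ({(a : G)} : Set G) from mem_centralizer_iff.2 fun y hy => by
            rw [Set.mem_singleton_iff.1 hy]; exact congrArg Subtype.val hcomm))
      refine Subgroup.mem_normalizer_iff.2 fun c => ?_
      simp only [mem_subgroupOf, Subgroup.mem_inf]
      have := Subgroup.mem_normalizer_iff.1 hB (c : G)
      exact ⟨fun hc => ⟨this.1 hc.1, SetLike.coe_mem _⟩, fun hc => ⟨this.2 hc.1, c.2⟩⟩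
    · refine Nat.Coprime.coprime_dvd_left (card_map_dvd _ q) ?_
      rw [Nat.card_congr (subgroupOfEquivOfLe inf_le_right).toEquiv]
      exact (coprime_card_coreIn hp.out (centralizer ({(a : G)} : Set G))).coprime_dvd_left
        (card_dvd_of_le inf_le_left)
  exact ⟨A', rfl, hA', hcard, hle⟩

end CfsgLib.Coprime
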